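import Cfsg.Agent.Lib.ClassicalMax.HessMax.Setup

/-!
The quaternion group on the axis of the central involution: its projective centraliser, the involutions of
the centraliser, and the dichotomy forced by a reflection.
-/

set_option autoImplicit false
set_option linter.unusedSectionVars false
set_option linter.flexible false

namespace CfsgLib.ClassicalMax.Hess

open Matrix

variable {F : Type*} [Field F] {p : ℕ} [hp : Fact p.Prime] [CharP F p] {w : F} {hw : w ^ 2 + w + 1 = 0}
  {M : Subgroup (GL (Fin 3) F)}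

/-- the Fourier matrix on the axis, up to a scalar -/
def bW : Matrix (Fin 2) (Fin 2) F := !![1, 2; 1, -1]

/-- the conjugate of `bW` by `diag (1, ω)` -/
def bV (w : F) : Matrix (Fin 2) (Fin 2) F := !![1, 2 * w ^ 2; w, -1]

/-- the third of the anticommuting matrices -/
def bU (w : F) : Matrix (Fin 2) (Fin 2) F := !![1, 2 * w; w ^ 2, -1]

lemma bW_sq : (bW : Matrix (Fin 2) (Fin 2) F) * bW = (3 : F) • 1 := by
  ext i j; fin_cases i <;> fin_cases j <;> simp [bW, Matrix.mul_apply, Fin.sum_univ_two] <;> ring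

lemma bV_sq (hw : w ^ 2 + w + 1 = 0) : bV w * bV w = (3 : F) • 1 := by
  ext i j
  fin_cases i <;> fin_cases j <;> simp [bV, Matrix.mul_apply, Fin.sum_univ_two]
  all_goals first | ring1 | linear_combination (2 : F) * (w - 1) * hw

lemma bU_sq (hw : w ^ 2 + w + 1 = 0) : bU w * bU w = (3 : F) • 1 := by
  ext i j
  fin_cases i <;> fin_cases j <;> simp [bU, Matrix.mul_apply, Fin.sum_univ_two]
  all_goals first | ring1 | linear_combination (2 : F) * (w - 1) * hw

lemma bW_bV (hw : w ^ 2 + w + 1 = 0) : bW * bV w = (1 + 2 * w) • bU w := by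
  ext i j
  fin_cases i <;> fin_cases j <;> simp [bW, bV, bU, Matrix.mul_apply, Fin.sum_univ_two]
  · linear_combination (-2 : F) * hw
  · linear_combination (1 - 2 * w) * hw
  · linear_combination (2 : F) * hw

lemma bV_bW (hw : w ^ 2 + w + 1 = 0) : bV w * bW = -((1 + 2 * w) • bU w) := by
  ext i j
  fin_cases i <;> fin_cases j <;> simp [bW, bV, bU, Matrix.mul_apply, Fin.sum_univ_two]
  · linear_combination (2 : F) * hw
  · linear_combination (2 : F) * hw
  · linear_combination (2 * w - 1) * hw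
  · linear_combination (0 : F) * hw

lemma cent_two (h5 : 5 ≤ p) (hw : w ^ 2 + w + 1 = 0) {A : Matrix (Fin 2) (Fin 2) F}
    (h1 : A * bW = bW * A) (h2 : A * bV w = bV w * A) : IsSc A := by
  have e := congrFun (congrFun h1 0) 0
  have e' := congrFun (congrFun h1 0) 1
  have f := congrFun (congrFun h2 0) 0
  simp [bW, bV, Matrix.mul_apply, Fin.sum_univ_two] at e e' f
  have hb : A 0 1 = 2 * A 1 0 := by linear_combination e
  have hc : A 1 0 = 0 := by
    have h0 : 2 * w * (1 - w) * A 1 0 = 0 := by linear_combination f - w * hb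
    rcases mul_eq_zero.1 h0 with h | h
    · rcases mul_eq_zero.1 h with h | h
      · exact absurd ((mul_eq_zero.1 h).resolve_left (two_ne (p := p) h5)) (w_ne_zero hw)
      · exact absurd (sub_eq_zero.1 h).symm (w_ne_one (p := p) h5 hw)
    · exact h
  rw [hc, mul_zero] at hb
  have hd : A 1 1 = A 0 0 := mul_left_cancel₀ (two_ne (F := F) (p := p) h5)
    (by linear_combination -e' - hb - hb + (0 : F) * hc)
  refine ⟨A 0 0, ?_⟩
  ext i j
  fin_cases i <;> fin_cases j <;> simp [hb, hc, hd]

/-- commuting up to a non-zero scalar -/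
def PComm (A B : Matrix (Fin 2) (Fin 2) F) : Prop := ∃ c : F, A * B = c • (B * A)

lemma pcomm_sign {A B : Matrix (Fin 2) (Fin 2) F} (h3 : (3 : F) ≠ 0) (hA : A.det ≠ 0)
    (hB : B * B = (3 : F) • 1) (h : PComm A B) : A * B = B * A ∨ A * B = -(B * A) := by
  obtain ⟨c, hc⟩ := h
  have e : (3 : F) • A = (c * c * 3) • A := by
    calc (3 : F) • A = A * (B * B) := by rw [hB, mul_smul_comm, mul_one]
      _ = c • (B * (c • (B * A))) := by rw [← mul_assoc, hc, smul_mul_assoc, mul_assoc B A B, hc]
      _ = (c * c * 3) • A := by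
        rw [mul_smul_comm, smul_smul, ← mul_assoc, hB, smul_mul_assoc, one_mul, smul_smul]
  have hA0 : A ≠ 0 := fun h0 => hA (by simp [h0])
  have hcc : c * c = 1 := by
    have h' : ((3 : F) - c * c * 3) • A = 0 := by rw [sub_smul, ← e, sub_self]
    have h'' := (smul_eq_zero.1 h').resolve_right hA0
    exact mul_right_cancel₀ h3 (by linear_combination -h'')
  rcases mul_self_eq_one_iff.1 hcc with rfl | rfl
  · exact .inl (by rw [hc, one_smul])
  · exact .inr (by rw [hc, neg_one_smul])

/-- A matrix commuting up to scalars with the quaternion matrices is one of them up to a scalar. -/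
lemma proj_cases (h5 : 5 ≤ p) (hw : w ^ 2 + w + 1 = 0) {A : Matrix (Fin 2) (Fin 2) F} (hA : A.det ≠ 0)
    (hW : PComm A bW) (hV : PComm A (bV w)) :
    ∃ (c : F) (Q : Matrix (Fin 2) (Fin 2) F), (Q = 1 ∨ Q = bW ∨ Q = bV w ∨ Q = bU w) ∧ A = c • Q := by
  have h3 := three_ne (F := F) (p := p) h5
  have fin : ∀ {Q : Matrix (Fin 2) (Fin 2) F}, Q * Q = (3 : F) • 1 → IsSc (A * Q) → ∃ c : F, A = c • Q := by
    intro Q hQ hsc
    obtain ⟨e, he⟩ := hsc
    refine ⟨e / 3, ?_⟩
    have h1 : (A * Q) * Q = (3 : F) • A := by rw [mul_assoc, hQ, mul_smul_comm, mul_one]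
    rw [he, smul_mul_assoc, one_mul] at h1
    rw [div_eq_inv_mul, ← smul_smul, h1, smul_smul, inv_mul_cancel₀ h3, one_smul]
  have hWV : bW * bV w = -(bV w * bW) := by rw [bW_bV hw, bV_bW hw, neg_neg]
  rcases pcomm_sign h3 hA bW_sq hW with h1 | h1 <;> rcases pcomm_sign h3 hA (bV_sq hw) hV with h2 | h2
  · obtain ⟨e, he⟩ := cent_two (p := p) h5 hw h1 h2
    exact ⟨e, 1, .inl rfl, he⟩
  · obtain ⟨c, hc⟩ := fin bW_sq (cent_two (p := p) h5 hw (by rw [← mul_assoc, ← h1])
      (by rw [mul_assoc, hWV, mul_neg, ← mul_assoc, h2, neg_mul, neg_neg, mul_assoc]))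
    exact ⟨c, bW, .inr (.inl rfl), hc⟩
  · obtain ⟨c, hc⟩ := fin (bV_sq hw) (cent_two (p := p) h5 hw
      (by rw [mul_assoc, show bV w * bW = -(bW * bV w) by rw [hWV, neg_neg], mul_neg, ← mul_assoc, h1,
        neg_mul, neg_neg, mul_assoc])
      (by rw [← mul_assoc, ← h2]))
    exact ⟨c, bV w, .inr (.inr (.inl rfl)), hc⟩
  · have hs : (1 + 2 * w : F) ≠ 0 := fun e => h3 (by linear_combination (4 : F) * hw - (1 + 2 * w) * e)
    obtain ⟨c, hc⟩ := fin (bU_sq hw) (cent_two (p := p) h5 hw
      (by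
        have hU : bU w = (1 + 2 * w)⁻¹ • (bW * bV w) := by
          rw [bW_bV hw, smul_smul, inv_mul_cancel₀ hs, one_smul]
        rw [hU, mul_smul_comm, smul_mul_assoc, mul_smul_comm]
        congr 1
        calc A * (bW * bV w) * bW = A * bW * (bV w * bW) := by simp only [mul_assoc]
          _ = bW * A * (bW * bV w) := by rw [h1, hWV, mul_neg, neg_mul]
          _ = bW * (A * (bW * bV w)) := by simp only [mul_assoc])
      (by
        have hU : bU w = (1 + 2 * w)⁻¹ • (bW * bV w) := by
          rw [bW_bV hw, smul_smul, inv_mul_cancel₀ hs, one_smul]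
        rw [hU, mul_smul_comm, smul_mul_assoc, mul_smul_comm]
        congr 1
        calc A * (bW * bV w) * bV w = -(A * (bV w * bW) * bV w) := by rw [hWV, mul_neg, neg_mul]
          _ = -(A * bV w * (bW * bV w)) := by simp only [mul_assoc]
          _ = bV w * (A * (bW * bV w)) := by rw [h2, neg_mul, neg_neg, mul_assoc]))
    exact ⟨c, bU w, .inr (.inr (.inr rfl)), hc⟩

lemma mW_eq : mW w hw = (1 + 2 * w)⁻¹ • !![1, 1, 1; 1, w, -1 - w; 1, -1 - w, w] := by
  ext i j
  fin_cases i <;> fin_cases j <;> simp [mW, iW, E2.ev_apply, iS]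
  all_goals first | ring1 | (left; ring1)

lemma mV_eq : mV w hw = (1 + 2 * w)⁻¹ • !![1, w ^ 2, w ^ 2; w, w, -1 - w; w, -1 - w, w] := by
  ext i j
  fin_cases i <;> fin_cases j <;>
    simp [mV, mW, mD, mD', iW, iD, iD', E2.ev_apply, iS, Matrix.mul_apply, Fin.sum_univ_three]
  all_goals grind

lemma com_mW : Com (mW w hw) := com_iff.2 (by rw [mW_eq]; refine ⟨?_, ?_, ?_, ?_⟩ <;> simp)

lemma com_mV : Com (mV w hw) := com_iff.2 (by rw [mV_eq]; refine ⟨?_, ?_, ?_, ?_⟩ <;> simp)

lemma ax_mW : ax (mW w hw) = (1 + 2 * w)⁻¹ • bW := by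
  rw [mW_eq]; ext i j; fin_cases i <;> fin_cases j <;> simp [ax, bW] <;> ring

lemma ax_mV (hw : w ^ 2 + w + 1 = 0) : ax (mV w hw) = (1 + 2 * w)⁻¹ • bV w := by
  rw [mV_eq]; ext i j; fin_cases i <;> fin_cases j <;> simp [ax, bV] <;> ring

lemma s_ne (h5 : 5 ≤ p) (hw : w ^ 2 + w + 1 = 0) : (1 + 2 * w : F) ≠ 0 := fun e =>
  three_ne (F := F) (p := p) h5 (by linear_combination (4 : F) * hw - (1 + 2 * w) * e)

lemma gam_mW (h5 : 5 ≤ p) : gam (mW w hw) = 1 := by
  rw [mW_eq, gam_smul]
  simp [gam]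
  have := s_ne (p := p) h5 hw
  field_simp
  ring

lemma gam_mV (h5 : 5 ≤ p) : gam (mV w hw) = 1 := by
  rw [mV_eq, gam_smul]
  simp [gam]
  have := s_ne (p := p) h5 hw
  field_simp
  ring

lemma com_mT : Com (mT : Matrix (Fin 3) (Fin 3) F) := rfl

lemma ax_mT : ax (mT : Matrix (Fin 3) (Fin 3) F) = (-1 : F) • 1 := by
  ext i j; fin_cases i <;> fin_cases j <;> simp [ax, mT]

lemma gam_mT : gam (mT : Matrix (Fin 3) (Fin 3) F) = 1 := by simp [gam, mT]

/-- the involution in the centraliser -/
def cT (h : Ctx p w hw M) : Cs M := ⟨gT, h.gT_mem, Subgroup.mem_centralizer_singleton_iff.2 rfl⟩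

lemma exists_gW (h : Ctx p w hw M) :
    ∃ g : Cs M, piC M g = (1 + 2 * w)⁻¹ • bW ∧ gamC M g = 1 := by
  obtain ⟨g, hg, he⟩ := h.memW
  exact ⟨⟨g, mem_Cs hg (he ▸ com_mW)⟩, by rw [piC_apply]; simpa [he] using ax_mW (hw := hw),
    by rw [gamC_apply]; simpa [he] using gam_mW (p := p) h.five⟩

lemma exists_gV (h : Ctx p w hw M) :
    ∃ g : Cs M, piC M g = (1 + 2 * w)⁻¹ • bV w ∧ gamC M g = 1 := by
  obtain ⟨g, hg, he⟩ := h.memV
  exact ⟨⟨g, mem_Cs hg (he ▸ com_mV)⟩, by rw [piC_apply]; simpa [he] using ax_mV hw,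
    by rw [gamC_apply]; simpa [he] using gam_mV (p := p) h.five⟩

lemma det_piC_ne (h : Ctx p w hw M) (g : Cs M) : (piC M g).det ≠ 0 := fun e => by
  have := gamC_mul_det h g
  rw [e, mul_zero] at this
  exact one_ne_zero this.symm

/-- the involutions of the centraliser -/
theorem invol_cases (h : Ctx p w hw M) {z : Cs M} (hz : z * z = 1) :
    z = 1 ∨ z = cT h ∨ (gamC M z = -1 ∧ ¬ IsSc (piC M z) ∧ (piC M z).trace = 0 ∧ (piC M z).det = -1) := by
  have hA : piC M z * piC M z = 1 := by rw [← map_mul, hz, map_one]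
  have hd := gamC_mul_det h z
  by_cases hsc : IsSc (piC M z)
  · obtain ⟨a, ha⟩ := hsc
    have haa : a * a = 1 := by
      rw [ha, smul_mul_assoc, mul_smul_comm, smul_smul, one_mul] at hA
      simpa using congrFun (congrFun hA 0) 0
    have hg : gamC M z = 1 := by
      rw [ha, Matrix.det_smul, Matrix.det_one, mul_one, Fintype.card_fin, pow_two, haa, mul_one] at hd
      exact hd
    rcases mul_self_eq_one_iff.1 haa with rfl | rfl
    · exact .inl (Cs_ext h (by rw [ha, map_one, one_smul]) (by rw [hg, map_one]))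
    · refine .inr (.inl (Cs_ext h ?_ ?_))
      · rw [ha]; exact ax_mT.symm
      · rw [hg]; exact gam_mT.symm
  · refine .inr (.inr ?_)
    have ht : (piC M z).trace = 0 := isSc_sq_iff hsc ⟨1, by rw [pow_two, hA, one_smul]⟩
    have hdet : (piC M z).det = -1 := by
      have e := cayley (piC M z)
      rw [hA, ht, zero_smul, zero_sub] at e
      have := congrFun (congrFun e 0) 0
      simp at this
      linear_combination this
    exact ⟨by rw [hdet] at hd; linear_combination -hd, hsc, ht, hdet⟩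

lemma bW_commutant {A : Matrix (Fin 2) (Fin 2) F} (h3 : (3 : F) ≠ 0) (h2 : (2 : F) ≠ 0)
    (h : A * bW = bW * A) :
    A = ((A 0 0 + A 1 1) / 2) • 1 + A 1 0 • bW := by
  have e := congrFun (congrFun h 0) 0
  have e' := congrFun (congrFun h 0) 1
  simp [bW, Matrix.mul_apply, Fin.sum_univ_two] at e e'
  have e : A 0 1 = 2 * A 1 0 := by linear_combination e
  have hh : A 0 0 - A 1 1 = A 0 1 := mul_left_cancel₀ h2 (by linear_combination e')
  ext i j
  fin_cases i <;> fin_cases j <;> simp [bW] <;> field_simp <;>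
    first | ring1 | linear_combination e | linear_combination hh + e | linear_combination -hh - e |
      linear_combination hh + 3 * e | linear_combination -hh + 2 * e | linear_combination 2 * e

/-- No reflection commutes with the Fourier element. -/
theorem no_commuting_reflection [Finite F] (h : Ctx p w hw M) {z : Cs M} (hg : gamC M z = -1)
    (ht : (piC M z).trace = 0) (hd : (piC M z).det = -1) (hc : piC M z * bW = bW * piC M z) : False := by
  have h2 := two_ne (F := F) (p := p) h.five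
  have h3 := three_ne (F := F) (p := p) h.five
  obtain ⟨gW, hW1, hW2⟩ := exists_gW h
  have hA := bW_commutant h3 h2 hc
  set b := piC M z 1 0
  rw [Matrix.trace_fin_two] at ht
  rw [ht, zero_div, zero_smul, zero_add] at hA
  have hb : 3 * (b * b) = 1 := by
    rw [hA, Matrix.det_smul, Fintype.card_fin] at hd
    simp [bW, Matrix.det_fin_two] at hd
    linear_combination -hd
  refine no_quarter h (a := (1 + 2 * w)⁻¹ * (b * 3)) ⟨_, (z * gW).2.1, rfl⟩
    (com_of_mem (z * gW).2) ?_ ?_ ?_
  · rw [← piC_apply, map_mul, hA, hW1, smul_mul_assoc, mul_smul_comm, bW_sq, smul_smul, smul_smul]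
    congr 1
    ring
  · have := s_ne (p := p) h.five hw
    field_simp
    linear_combination (3 : F) * hb + (4 : F) * hw
  · rw [← gamC_apply, map_mul, hg, hW2, mul_one]

/-- No element of projective order three with the three distinct eigenvalues fixes `e₀`. -/
theorem no_third [Finite F] (h : Ctx p w hw M) {A : Matrix (Fin 3) (Fin 3) F} (hA : Mem M A)
    (hc : Com A) (hax : ax A = !![1, 0; 0, w]) (hg : gam A = w ^ 2) : False := by
  have h2 := two_ne (F := F) (p := p) h.five
  have h3 := three_ne (F := F) (p := p) h.five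
  have hAe := eq_ofAx h2 hc
  rw [hax, hg] at hAe
  set u : F := (w + w ^ 2) / 2 with hu
  set v : F := (w - w ^ 2) / 2 with hv
  have hbA : Blk A := by
    rw [hAe]; exact ⟨by simp [ofAx], by simp [ofAx], by simp [ofAx], by simp [ofAx]⟩
  have hlA : ln A = !![u, v; v, u] := by
    rw [hAe]
    ext i j
    fin_cases i <;> fin_cases j <;> simp [ln, ofAx, hu, hv]
  have hX : Blk (mX w hw) := by rw [mX_eq]; exact ⟨rfl, rfl, rfl, rfl⟩
  have hlX : ln (mX w hw) = !![w, 0; 0, w ^ 2] := by
    rw [mX_eq]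
    ext i j
    fin_cases i <;> fin_cases j <;> simp [ln]
    linear_combination -hw
  have hu' : u = -1 / 2 := by rw [hu]; field_simp; linear_combination hw
  have hvv : 4 * (v * v) = -3 := by
    rw [hv]; field_simp; linear_combination 4 * (w ^ 2 - 3 * w + 3) * hw
  have hv0 : v ≠ 0 := fun e => by rw [e] at hvv; simp at hvv; exact h3 hvv
  have hX3 : IsSc ((!![w, 0; 0, w ^ 2] : Matrix (Fin 2) (Fin 2) F) ^ 3) := ⟨1, by
    rw [pow_succ, pow_two]
    ext i j
    fin_cases i <;> fin_cases j <;> simp [Matrix.mul_apply, Fin.sum_univ_two]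
    · linear_combination (w - 1) * hw
    · linear_combination (w - 1) * (w ^ 3 + 1) * hw⟩
  have hA3 : IsSc ((!![u, v; v, u] : Matrix (Fin 2) (Fin 2) F) ^ 3) := ⟨1, by
    rw [pow_succ, pow_two, hu']
    ext i j
    fin_cases i <;> fin_cases j <;> simp [Matrix.mul_apply, Fin.sum_univ_two] <;> field_simp
    · linear_combination (-3 : F) * hvv
    · linear_combination v * hvv
    · linear_combination v * hvv
    · linear_combination (-3 : F) * hvv⟩
  have hres := blk_prod h h.memX hA hX hbA (m := 3) (.inl rfl) (by rw [hlX]; exact hX3)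
    (by rw [hlA]; exact hA3)
    (by
      rw [hlX, show 3 - 2 = 1 from rfl, pow_one]
      rintro ⟨c, hc⟩
      have e := congrFun (congrFun hc 0) 0
      have e' := congrFun (congrFun hc 1) 1
      simp at e e'
      exact w_sq_ne (p := p) h.five hw (e.trans e'.symm))
    (by rw [hlA, show 3 - 2 = 1 from rfl, pow_one]; exact not_isSc_of_entry (by simpa using hv0))
    (fun c hc => by
      rw [hlX, hlA] at hc
      have e00 := congrFun (congrFun hc 0) 0
      have e01 := congrFun (congrFun hc 0) 1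
      simp [Matrix.mul_apply, Fin.sum_univ_two] at e00 e01
      have hu0 : u ≠ 0 := by rw [hu']; simp [h2]
      have hc1 : (1 - c) * (u * w) = 0 := by linear_combination e00
      have hc2 : c = 1 :=
        (sub_eq_zero.1 ((mul_eq_zero.1 hc1).resolve_right (mul_ne_zero hu0 (w_ne_zero hw)))).symm
      subst hc2
      exact w_sq_ne (p := p) h.five hw (mul_right_cancel₀ hv0 (by linear_combination e01)))
  rw [hlX, hlA] at hres
  set P : Matrix (Fin 2) (Fin 2) F := !![w, 0; 0, w ^ 2] * !![u, v; v, u] with hP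
  have hPn : ¬ IsSc P := not_isSc_of_entry (by
    rw [hP]; simp [Matrix.mul_apply, Fin.sum_univ_two, hv0, w_ne_zero hw])
  have htr : P.trace = 1 / 2 := by
    rw [hP, Matrix.trace_fin_two]
    simp [Matrix.mul_apply, Fin.sum_univ_two]
    rw [hu']; field_simp; linear_combination -hw
  have hdet : P.det = 1 := by
    rw [hP, Matrix.det_mul, Matrix.det_fin_two_of, Matrix.det_fin_two_of, hu']
    field_simp
    linear_combination (4 * (w - 1)) * hw - w ^ 3 * hvv
  rcases hres with h1 | h1 | ⟨-, h1⟩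
  · rw [isSc_sq_iff hPn h1] at htr
    exact one_div_ne_zero h2 htr.symm
  · have hq := isSc_cube_iff hPn h1
    rw [htr, hdet] at hq
    field_simp at hq
    exact h3 (by linear_combination -hq)
  · have hq := isSc_five_iff hPn h1
    rw [htr, hdet] at hq
    field_simp at hq
    exact five_ne (p := p) (by have := h.seven; omega) (by have := h.seven; omega) (by linear_combination hq)

lemma tau_bW : (!![0, -2; 1, 0] : Matrix (Fin 2) (Fin 2) F) * bW = (-1 : F) • (bW * !![0, -2; 1, 0]) := by
  ext i j; fin_cases i <;> fin_cases j <;> simp [bW, Matrix.mul_apply, Fin.sum_univ_two] <;> ring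

lemma tau_bV (hw : w ^ 2 + w + 1 = 0) :
    (!![0, -2; 1, 0] : Matrix (Fin 2) (Fin 2) F) * bV w = (-1 : F) • (bU w * !![0, -2; 1, 0]) := by
  ext i j; fin_cases i <;> fin_cases j <;> simp [bV, bU, Matrix.mul_apply, Fin.sum_univ_two] <;> ring

end CfsgLib.ClassicalMax.Hess
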