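import Mathlib

/-!
The rings `ℤ[ω]` and `ℤ[ω, ρ]` (`ω² + ω + 1 = 0`, `ρ² = -2`) as computable types with their evaluation
maps, for checking identities between matrices with cyclotomic entries.
-/

set_option autoImplicit false

namespace CfsgLib.ClassicalMax.Hess

/-- `ℤ[ω]` -/
@[ext] structure E2 where
  a : ℤ
  b : ℤ
  deriving DecidableEq

namespace E2

instance : Zero E2 := ⟨⟨0, 0⟩⟩
instance : One E2 := ⟨⟨1, 0⟩⟩
instance : Add E2 := ⟨fun x y => ⟨x.a + y.a, x.b + y.b⟩⟩
instance : Neg E2 := ⟨fun x => ⟨-x.a, -x.b⟩⟩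
instance : Mul E2 := ⟨fun x y => ⟨x.a * y.a - x.b * y.b, x.a * y.b + x.b * y.a - x.b * y.b⟩⟩

@[simp] lemma zero_a : (0 : E2).a = 0 := rfl
@[simp] lemma zero_b : (0 : E2).b = 0 := rfl
@[simp] lemma one_a : (1 : E2).a = 1 := rfl
@[simp] lemma one_b : (1 : E2).b = 0 := rfl
@[simp] lemma add_a (x y : E2) : (x + y).a = x.a + y.a := rfl
@[simp] lemma add_b (x y : E2) : (x + y).b = x.b + y.b := rfl
@[simp] lemma neg_a (x : E2) : (-x).a = -x.a := rfl
@[simp] lemma neg_b (x : E2) : (-x).b = -x.b := rfl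
@[simp] lemma mul_a (x y : E2) : (x * y).a = x.a * y.a - x.b * y.b := rfl
@[simp] lemma mul_b (x y : E2) : (x * y).b = x.a * y.b + x.b * y.a - x.b * y.b := rfl

instance : CommRing E2 where
  nsmul := nsmulRec
  zsmul := zsmulRec
  add_assoc x y z := by ext <;> simp <;> ring
  zero_add x := by ext <;> simp
  add_zero x := by ext <;> simp
  add_comm x y := by ext <;> simp <;> ring
  left_distrib x y z := by ext <;> simp <;> ring
  right_distrib x y z := by ext <;> simp <;> ring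
  zero_mul x := by ext <;> simp
  mul_zero x := by ext <;> simp
  mul_assoc x y z := by ext <;> simp <;> ring
  one_mul x := by ext <;> simp
  mul_one x := by ext <;> simp
  neg_add_cancel x := by ext <;> simp
  mul_comm x y := by ext <;> simp <;> ring

variable {F : Type*} [CommRing F]

/-- evaluation at a root of `X² + X + 1` -/
def ev (w : F) (hw : w ^ 2 + w + 1 = 0) : E2 →+* F where
  toFun x := (x.a : F) + (x.b : F) * w
  map_zero' := by simp
  map_one' := by simp
  map_add' x y := by simp only [add_a, add_b]; push_cast; ring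
  map_mul' x y := by
    simp only [mul_a, mul_b]
    push_cast
    linear_combination -(x.b : F) * (y.b : F) * hw

lemma ev_apply (w : F) (hw : w ^ 2 + w + 1 = 0) (x : E2) :
    ev w hw x = (x.a : F) + (x.b : F) * w := rfl

end E2

/-- `ℤ[ω, ρ]`, `ρ² = -2` -/
@[ext] structure E4 where
  p : E2
  q : E2
  deriving DecidableEq

namespace E4

instance : Zero E4 := ⟨⟨0, 0⟩⟩
instance : One E4 := ⟨⟨1, 0⟩⟩
instance : Add E4 := ⟨fun x y => ⟨x.p + y.p, x.q + y.q⟩⟩
instance : Neg E4 := ⟨fun x => ⟨-x.p, -x.q⟩⟩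
instance : Mul E4 := ⟨fun x y => ⟨x.p * y.p + -(⟨2, 0⟩ * (x.q * y.q)), x.p * y.q + x.q * y.p⟩⟩

@[simp] lemma zero_p : (0 : E4).p = 0 := rfl
@[simp] lemma zero_q : (0 : E4).q = 0 := rfl
@[simp] lemma one_p : (1 : E4).p = 1 := rfl
@[simp] lemma one_q : (1 : E4).q = 0 := rfl
@[simp] lemma add_p (x y : E4) : (x + y).p = x.p + y.p := rfl
@[simp] lemma add_q (x y : E4) : (x + y).q = x.q + y.q := rfl
@[simp] lemma neg_p (x : E4) : (-x).p = -x.p := rfl
@[simp] lemma neg_q (x : E4) : (-x).q = -x.q := rfl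
@[simp] lemma mul_p (x y : E4) : (x * y).p = x.p * y.p + -(⟨2, 0⟩ * (x.q * y.q)) := rfl
@[simp] lemma mul_q (x y : E4) : (x * y).q = x.p * y.q + x.q * y.p := rfl

instance : CommRing E4 where
  nsmul := nsmulRec
  zsmul := zsmulRec
  add_assoc x y z := by ext <;> simp <;> ring
  zero_add x := by ext <;> simp
  add_zero x := by ext <;> simp
  add_comm x y := by ext <;> simp <;> ring
  left_distrib x y z := by ext <;> simp <;> ring
  right_distrib x y z := by ext <;> simp <;> ring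
  zero_mul x := by ext <;> simp
  mul_zero x := by ext <;> simp
  mul_assoc x y z := by ext <;> simp <;> ring
  one_mul x := by ext <;> simp
  mul_one x := by ext <;> simp
  neg_add_cancel x := by ext <;> simp
  mul_comm x y := by ext <;> simp <;> ring

variable {F : Type*} [CommRing F]

/-- evaluation at a root of `X² + X + 1` and a square root of `-2` -/
def ev (w r : F) (hw : w ^ 2 + w + 1 = 0) (hr : r ^ 2 = -2) : E4 →+* F where
  toFun x := E2.ev w hw x.p + E2.ev w hw x.q * r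
  map_zero' := by simp
  map_one' := by simp
  map_add' x y := by simp only [add_p, add_q, map_add]; ring
  map_mul' x y := by
    have h2 : E2.ev w hw ⟨2, 0⟩ = 2 := by simp [E2.ev_apply]
    simp only [mul_p, mul_q, map_add, map_mul, map_neg, h2]
    linear_combination -(E2.ev w hw x.q) * (E2.ev w hw y.q) * hr

lemma ev_apply (w r : F) (hw : w ^ 2 + w + 1 = 0) (hr : r ^ 2 = -2) (x : E4) :
    ev w r hw hr x = E2.ev w hw x.p + E2.ev w hw x.q * r := rfl

end E4

section constants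

open Matrix

/-- `diag (1, ω, ω²)` -/
def iX : Matrix (Fin 3) (Fin 3) E2 := !![1, 0, 0; 0, ⟨0, 1⟩, 0; 0, 0, ⟨-1, -1⟩]

/-- the cyclic shift -/
def iY : Matrix (Fin 3) (Fin 3) E2 := !![0, 0, 1; 1, 0, 0; 0, 1, 0]

/-- `diag (1, ω, ω)` -/
def iD : Matrix (Fin 3) (Fin 3) E2 := !![1, 0, 0; 0, ⟨0, 1⟩, 0; 0, 0, ⟨0, 1⟩]

/-- the inverse of `iD` -/
def iD' : Matrix (Fin 3) (Fin 3) E2 := !![1, 0, 0; 0, ⟨-1, -1⟩, 0; 0, 0, ⟨-1, -1⟩]

/-- the Fourier matrix; its square is `3` times a permutation matrix -/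
def iW : Matrix (Fin 3) (Fin 3) E2 :=
  !![1, 1, 1; 1, ⟨0, 1⟩, ⟨-1, -1⟩; 1, ⟨-1, -1⟩, ⟨0, 1⟩]

/-- minus the transposition of the last two coordinates -/
def iT : Matrix (Fin 3) (Fin 3) E2 := !![-1, 0, 0; 0, 0, -1; 0, -1, 0]

/-- `ω - ω²` -/
def iS : E2 := ⟨1, 2⟩

lemma iS_sq : iS * iS = -3 := by decide
lemma iD_mul_iD' : iD * iD' = 1 := by decide
lemma iD'_mul_iD : iD' * iD = 1 := by decide
lemma iW_sq : iW * iW = (iS * iS) • iT := by decide
lemma iX_cube : iX * iX * iX = 1 := by decide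
lemma iY_cube : iY * iY * iY = 1 := by decide
lemma iY_iX : iX * iY = (⟨0, 1⟩ : E2) • (iY * iX) := by decide
lemma iT_sq : iT * iT = 1 := by decide
lemma iT_iX : iT * iX = iX * iX * iT := by decide
lemma iT_iY : iT * iY = iY * iY * iT := by decide
lemma iW_iX : iW * iX = iY * iY * iW := by decide
lemma iW_iY : iW * iY = iX * iW := by decide
lemma iD_iX : iD * iX = iX * iD := by decide
lemma iD_iY : iD * iY = (⟨-1, -1⟩ : E2) • (iX * iX * iY * iD) := by decide

end constants

end CfsgLib.ClassicalMax.Hess
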