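import Cfsg.Agent.Lib.ClassicalMax.HessMax.Proj
import Cfsg.Agent.Lib.ClassicalMax.HessMax.Cyc

/-!
Block decompositions of `F³` preserved by the centraliser of `iT` and by block diagonal matrices; subgroups
of block elements without transvections have order prime to the characteristic.
-/

set_option autoImplicit false
set_option linter.unusedSectionVars false
set_option linter.flexible false

namespace CfsgLib.ClassicalMax.Hess

open Matrix CfsgLib.PSL2Sub

variable {F : Type*} [Field F]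

/-- scalar matrices -/
def IsSc {n : Type*} [DecidableEq n] (A : Matrix n n F) : Prop := ∃ c : F, A = c • 1

/-- minus the transposition of the last two coordinates -/
def mT : Matrix (Fin 3) (Fin 3) F := !![-1, 0, 0; 0, 0, -1; 0, -1, 0]

lemma mT_mul_mT : (mT : Matrix (Fin 3) (Fin 3) F) * mT = 1 := by
  ext i j; fin_cases i <;> fin_cases j <;> simp [mT, Matrix.mul_apply, Fin.sum_univ_three]

/-- commuting with `mT` -/
def Com (A : Matrix (Fin 3) (Fin 3) F) : Prop := A * mT = mT * A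

lemma com_iff {A : Matrix (Fin 3) (Fin 3) F} :
    Com A ↔ A 0 1 = A 0 2 ∧ A 1 0 = A 2 0 ∧ A 1 1 = A 2 2 ∧ A 1 2 = A 2 1 := by
  constructor
  · intro h
    have e := fun i j => congrFun (congrFun h i) j
    have h01 := e 0 2
    have h10 := e 1 0
    have h11 := e 1 2
    have h12 := e 1 1
    simp [mT, Matrix.mul_apply, Fin.sum_univ_three] at h01 h10 h11 h12
    exact ⟨h01, h10, h11, h12⟩
  · rintro ⟨h1, h2, h3, h4⟩
    rw [Com]
    ext i j
    fin_cases i <;> fin_cases j <;>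
      simp [mT, Matrix.mul_apply, Fin.sum_univ_three, h1, h2, h3, h4]

lemma Com.mul {A B : Matrix (Fin 3) (Fin 3) F} (hA : Com A) (hB : Com B) : Com (A * B) := by
  rw [Com] at hA hB ⊢
  rw [mul_assoc, hB, ← mul_assoc, hA, mul_assoc]

lemma com_one : Com (1 : Matrix (Fin 3) (Fin 3) F) := by rw [Com, one_mul, mul_one]

lemma com_smul {A : Matrix (Fin 3) (Fin 3) F} (c : F) (hA : Com A) : Com (c • A) := by
  rw [Com] at hA ⊢
  rw [smul_mul_assoc, hA, mul_smul_comm]

/-- the action on the axis, in the basis `e₀, e₁ + e₂` -/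
def ax (A : Matrix (Fin 3) (Fin 3) F) : Matrix (Fin 2) (Fin 2) F :=
  !![A 0 0, A 0 1 + A 0 2; A 1 0, A 1 1 + A 1 2]

/-- the scalar on the centre `e₁ - e₂` -/
def gam (A : Matrix (Fin 3) (Fin 3) F) : F := A 1 1 - A 1 2

/-- the matrix with given axis action and centre scalar -/
def ofAx (G : Matrix (Fin 2) (Fin 2) F) (c : F) : Matrix (Fin 3) (Fin 3) F :=
  !![G 0 0, G 0 1 / 2, G 0 1 / 2;
     G 1 0, (G 1 1 + c) / 2, (G 1 1 - c) / 2;
     G 1 0, (G 1 1 - c) / 2, (G 1 1 + c) / 2]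

lemma com_ofAx (G : Matrix (Fin 2) (Fin 2) F) (c : F) : Com (ofAx G c) :=
  com_iff.2 ⟨by simp [ofAx], by simp [ofAx], by simp [ofAx], by simp [ofAx]⟩

lemma eq_ofAx (h2 : (2 : F) ≠ 0) {A : Matrix (Fin 3) (Fin 3) F} (hA : Com A) :
    A = ofAx (ax A) (gam A) := by
  obtain ⟨h1, h2', h3, h4⟩ := com_iff.1 hA
  ext i j
  fin_cases i <;> fin_cases j <;> simp [ofAx, ax, gam, h1, h2', h3, h4] <;> field_simp <;> ring

lemma ext_ax (h2 : (2 : F) ≠ 0) {A B : Matrix (Fin 3) (Fin 3) F} (hA : Com A) (hB : Com B)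
    (ha : ax A = ax B) (hg : gam A = gam B) : A = B := by
  rw [eq_ofAx h2 hA, eq_ofAx h2 hB, ha, hg]

lemma ax_one : ax (1 : Matrix (Fin 3) (Fin 3) F) = 1 := by
  ext i j; fin_cases i <;> fin_cases j <;> simp [ax, Matrix.one_apply]

lemma gam_one : gam (1 : Matrix (Fin 3) (Fin 3) F) = 1 := by simp [gam]

lemma ax_smul (c : F) (A : Matrix (Fin 3) (Fin 3) F) : ax (c • A) = c • ax A := by
  ext i j; fin_cases i <;> fin_cases j <;> simp [ax] <;> ring

lemma gam_smul (c : F) (A : Matrix (Fin 3) (Fin 3) F) : gam (c • A) = c * gam A := by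
  simp [gam]; ring

lemma ax_sub (A B : Matrix (Fin 3) (Fin 3) F) : ax (A - B) = ax A - ax B := by
  ext i j; fin_cases i <;> fin_cases j <;> simp [ax] <;> ring

lemma gam_sub (A B : Matrix (Fin 3) (Fin 3) F) : gam (A - B) = gam A - gam B := by
  simp [gam]; ring

lemma ax_mul {A B : Matrix (Fin 3) (Fin 3) F} (hA : Com A) (hB : Com B) :
    ax (A * B) = ax A * ax B := by
  obtain ⟨a1, a2, a3, a4⟩ := com_iff.1 hA
  obtain ⟨b1, b2, b3, b4⟩ := com_iff.1 hB
  ext i j
  fin_cases i <;> fin_cases j <;>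
    simp [ax, Matrix.mul_apply, Fin.sum_univ_three, Fin.sum_univ_two, a1, a2, a3, a4, b1, b2, b3, b4] <;>
    ring

lemma gam_mul {A B : Matrix (Fin 3) (Fin 3) F} (hA : Com A) (hB : Com B) :
    gam (A * B) = gam A * gam B := by
  obtain ⟨a1, a2, a3, a4⟩ := com_iff.1 hA
  obtain ⟨b1, b2, b3, b4⟩ := com_iff.1 hB
  simp [gam, Matrix.mul_apply, Fin.sum_univ_three, a1, a2, a3, a4, b1, b2, b3, b4]
  ring

lemma det_ax {A : Matrix (Fin 3) (Fin 3) F} (hA : Com A) :
    A.det = gam A * (ax A).det := by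
  obtain ⟨a1, a2, a3, a4⟩ := com_iff.1 hA
  rw [Matrix.det_fin_three, Matrix.det_fin_two]
  simp [ax, gam, a1, a2, a3, a4]
  ring

/-- block diagonal for `e₀` and the span of `e₁, e₂` -/
def Blk (A : Matrix (Fin 3) (Fin 3) F) : Prop := A 0 1 = 0 ∧ A 0 2 = 0 ∧ A 1 0 = 0 ∧ A 2 0 = 0

/-- the lower block -/
def ln (A : Matrix (Fin 3) (Fin 3) F) : Matrix (Fin 2) (Fin 2) F :=
  !![A 1 1, A 1 2; A 2 1, A 2 2]

lemma blk_one : Blk (1 : Matrix (Fin 3) (Fin 3) F) := ⟨rfl, rfl, rfl, rfl⟩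

lemma Blk.mul {A B : Matrix (Fin 3) (Fin 3) F} (hA : Blk A) (hB : Blk B) : Blk (A * B) := by
  obtain ⟨a1, a2, a3, a4⟩ := hA
  obtain ⟨b1, b2, b3, b4⟩ := hB
  refine ⟨?_, ?_, ?_, ?_⟩ <;>
    simp [Matrix.mul_apply, Fin.sum_univ_three, a1, a2, a3, a4, b1, b2, b3, b4]

lemma ln_one : ln (1 : Matrix (Fin 3) (Fin 3) F) = 1 := by
  ext i j; fin_cases i <;> fin_cases j <;> simp [ln, Matrix.one_apply]

lemma ln_mul {A B : Matrix (Fin 3) (Fin 3) F} (hA : Blk A) (hB : Blk B) :
    ln (A * B) = ln A * ln B := by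
  obtain ⟨a1, a2, a3, a4⟩ := hA
  obtain ⟨b1, b2, b3, b4⟩ := hB
  ext i j
  fin_cases i <;> fin_cases j <;>
    simp [ln, Matrix.mul_apply, Fin.sum_univ_three, Fin.sum_univ_two, a1, a2, a3, a4, b1, b2, b3, b4]

lemma ln_sub (A B : Matrix (Fin 3) (Fin 3) F) : ln (A - B) = ln A - ln B := by
  ext i j; fin_cases i <;> fin_cases j <;> simp [ln]

lemma entry_mul {A B : Matrix (Fin 3) (Fin 3) F} (hA : Blk A) :
    (A * B) 0 0 = A 0 0 * B 0 0 := by
  obtain ⟨a1, a2, -, -⟩ := hA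
  simp [Matrix.mul_apply, Fin.sum_univ_three, a1, a2]

section nilpotent

lemma sq_zero_of_pow {N : Matrix (Fin 2) (Fin 2) F} {n : ℕ} (h : N ^ n = 0) : N * N = 0 := by
  have hd : N.det = 0 := by
    have := congrArg Matrix.det h
    rw [Matrix.det_pow, Matrix.det_zero] at this
    exact eq_zero_of_pow_eq_zero this
  rw [Matrix.det_fin_two] at hd
  have hN : N * N = N.trace • N := by
    ext i j
    fin_cases i <;> fin_cases j <;>
      simp [Matrix.mul_apply, Fin.sum_univ_two, Matrix.trace_fin_two] <;>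
      first | ring1 | linear_combination hd | linear_combination -hd
  have hk : ∀ k : ℕ, N ^ (k + 1) = N.trace ^ k • N := by
    intro k
    induction k with
    | zero => simp
    | succ k ih => rw [pow_succ, ih, smul_mul_assoc, hN, smul_smul, ← pow_succ]
  rcases n with _ | n
  · rw [pow_zero] at h
    have : N = 0 := by rw [← one_mul N, h, zero_mul]
    rw [this, zero_mul]
  rw [hk] at h
  rcases smul_eq_zero.1 h with h0 | h0
  · rw [hN, eq_zero_of_pow_eq_zero h0, zero_smul]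
  · rw [h0, zero_mul]

lemma isSc_sq_iff {A : Matrix (Fin 2) (Fin 2) F} (hA : ¬ IsSc A) (h : IsSc (A ^ 2)) : A.trace = 0 := by
  obtain ⟨c, hc⟩ := h
  by_contra ht
  refine hA ⟨(c + A.det) / A.trace, ?_⟩
  have e : A.trace • A = (c + A.det) • (1 : Matrix (Fin 2) (Fin 2) F) := by
    rw [add_smul, ← hc, pow_two]
    ext i j
    fin_cases i <;> fin_cases j <;>
      simp [Matrix.mul_apply, Fin.sum_univ_two, Matrix.trace_fin_two, Matrix.det_fin_two,
        Matrix.one_apply] <;> ring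
  rw [div_eq_inv_mul, ← smul_smul, ← e, smul_smul, inv_mul_cancel₀ ht, one_smul]

lemma cayley (A : Matrix (Fin 2) (Fin 2) F) :
    A * A = A.trace • A - A.det • (1 : Matrix (Fin 2) (Fin 2) F) := by
  ext i j
  fin_cases i <;> fin_cases j <;>
    simp [Matrix.mul_apply, Fin.sum_univ_two, Matrix.trace_fin_two, Matrix.det_fin_two,
      Matrix.one_apply] <;> ring

lemma isSc_of_coeff {A : Matrix (Fin 2) (Fin 2) F} (hA : ¬ IsSc A) {a b : F}
    (h : IsSc (a • A + b • (1 : Matrix (Fin 2) (Fin 2) F))) : a = 0 := by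
  obtain ⟨c, hc⟩ := h
  by_contra ha
  refine hA ⟨(c - b) / a, ?_⟩
  rw [div_eq_inv_mul, ← smul_smul, sub_smul, ← hc, add_sub_cancel_right, smul_smul,
    inv_mul_cancel₀ ha, one_smul]

lemma isSc_cube_iff {A : Matrix (Fin 2) (Fin 2) F} (hA : ¬ IsSc A) (h : IsSc (A ^ 3)) :
    A.trace ^ 2 - A.det = 0 := by
  have e : A ^ 3 = (A.trace ^ 2 - A.det) • A + (-(A.trace * A.det)) • (1 : Matrix (Fin 2) (Fin 2) F) := by
    rw [pow_succ, pow_two, cayley A, sub_mul, smul_mul_assoc, smul_mul_assoc, one_mul, cayley A]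
    ext i j; simp; ring
  exact isSc_of_coeff hA (e ▸ h)

lemma isSc_five_iff {A : Matrix (Fin 2) (Fin 2) F} (hA : ¬ IsSc A) (h : IsSc (A ^ 5)) :
    A.trace ^ 4 - 3 * A.trace ^ 2 * A.det + A.det ^ 2 = 0 := by
  obtain ⟨c, hc⟩ := h
  refine isSc_of_coeff hA (b := -(A.trace ^ 3 * A.det - 2 * A.trace * A.det ^ 2)) ⟨c, ?_⟩
  have e2 := cayley A
  set t := A.trace
  set d := A.det
  rw [← hc]
  simp only [pow_succ, pow_zero, one_mul, e2, sub_mul, smul_mul_assoc, smul_sub, smul_smul]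
  ext i j; simp; ring

end nilpotent

section coprime

variable {C : Type*} [Group C] [Finite C] (p : ℕ) [hp : Fact p.Prime] [CharP F p]

lemma not_dvd_card (hu : ∀ u : C, u ^ p = 1 → u = 1) : ¬ p ∣ Nat.card C := by
  intro h
  obtain ⟨u, hu'⟩ := exists_prime_orderOf_dvd_card' p h
  have := hu u (hu' ▸ pow_orderOf_eq_one u)
  rw [this, orderOf_one] at hu'
  exact hp.out.one_lt.ne hu'

/-- the projective image -/
noncomputable def pm (π : C →* Matrix (Fin 2) (Fin 2) F) : C →* PG F :=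
  (ProjGenLinGroup.mk (n := Fin 2) (R := F)).comp π.toHomUnits

lemma pm_eq_one {π : C →* Matrix (Fin 2) (Fin 2) F} {c : C} : pm π c = 1 ↔ IsSc (π c) := by
  show ProjGenLinGroup.mk (π.toHomUnits c) = 1 ↔ _
  rw [ProjGenLinGroup.mk_eq_one, GeneralLinearGroup.center_eq_range_scalar]
  constructor
  · rintro ⟨a, ha⟩
    refine ⟨(a : F), ?_⟩
    have := congrArg Units.val ha
    rw [MonoidHom.coe_toHomUnits, GeneralLinearGroup.coe_scalar] at this
    rw [← this]
    ext i j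
    simp [Matrix.diagonal_apply, Matrix.one_apply]
  · rintro ⟨a, ha⟩
    have ha0 : a ≠ 0 := by
      rintro rfl
      have h1 := congrArg (fun A => A * π c⁻¹) ha
      simp only [zero_smul, zero_mul, ← map_mul, mul_inv_cancel, map_one] at h1
      exact one_ne_zero h1
    refine ⟨Units.mk0 a ha0, Units.ext ?_⟩
    rw [MonoidHom.coe_toHomUnits, ha, GeneralLinearGroup.coe_scalar, Matrix.smul_one_eq_diagonal]
    rfl

lemma pm_eq_iff {π : C →* Matrix (Fin 2) (Fin 2) F} {c d : C} :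
    pm π c = pm π d ↔ ∃ a : F, π c = a • π d := by
  constructor
  · intro h
    obtain ⟨a, ha⟩ := pm_eq_one.1 (show pm π (c * d⁻¹) = 1 by rw [map_mul, map_inv, h, mul_inv_cancel])
    refine ⟨a, ?_⟩
    rw [show c = c * d⁻¹ * d by group, map_mul, ha, smul_mul_assoc, one_mul]
  · rintro ⟨a, ha⟩
    have : pm π (c * d⁻¹) = 1 := pm_eq_one.2 ⟨a, by
      rw [map_mul, ha, smul_mul_assoc, ← map_mul, mul_inv_cancel, map_one]⟩
    rwa [map_mul, map_inv, mul_inv_eq_one] at this

lemma shape_image (π : C →* Matrix (Fin 2) (Fin 2) F) (hu : ∀ u : C, u ^ p = 1 → u = 1) :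
    Shape (pm π).range := by
  haveI : Finite (pm π).range := Finite.of_surjective _ (pm π).rangeRestrict_surjective
  exact shape_of_coprime p _ fun h =>
    not_dvd_card p hu (h.trans (Subgroup.card_range_dvd (pm π)))

/-- two non-commuting elements of projective order three or four -/
theorem prod_scalar (π : C →* Matrix (Fin 2) (Fin 2) F) (hu : ∀ u : C, u ^ p = 1 → u = 1) {a b : C}
    {m : ℕ} (hm : m = 3 ∨ m = 4) (ha : IsSc (π a ^ m)) (hb : IsSc (π b ^ m))
    (ha' : ¬ IsSc (π a ^ (m - 2))) (hb' : ¬ IsSc (π b ^ (m - 2)))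
    (hne : ∀ c : F, π a * π b ≠ c • (π b * π a)) :
    IsSc ((π a * π b) ^ 2) ∨ IsSc ((π a * π b) ^ 3) ∨ (m = 3 ∧ IsSc ((π a * π b) ^ 5)) := by
  have ho : ∀ {x : C}, IsSc (π x ^ m) → ¬ IsSc (π x ^ (m - 2)) →
      orderOf ((pm π).rangeRestrict x) = m := by
    intro x h1 h2
    rw [orderOf_eq_iff (by omega)]
    have e : ∀ k : ℕ, ((pm π).rangeRestrict x) ^ k = 1 ↔ IsSc (π x ^ k) := fun k => by
      rw [← map_pow, ← map_pow, ← pm_eq_one, Subtype.ext_iff]
      rfl
    refine ⟨(e m).2 h1, fun k hk hk0 h => h2 ?_⟩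
    rw [← e] at h1 ⊢
    rcases hm with rfl | rfl
    · obtain rfl | rfl : k = 1 ∨ k = 2 := by omega
      · exact h
      · rw [show 3 - 2 = 1 from rfl, show (1 : ℕ) = 3 - 2 from rfl, pow_sub _ (by norm_num), h1, h]
        simp
    · obtain rfl | rfl | rfl : k = 1 ∨ k = 2 ∨ k = 3 := by omega
      · rw [show 4 - 2 = 1 * 2 from rfl, pow_mul, h, one_pow]
      · exact h
      · rw [show 4 - 2 = 4 - 2 from rfl]
        have : (pm π).rangeRestrict x = 1 := by
          rw [pow_succ, h, one_mul] at h1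
          exact h1
        rw [this, one_pow]
  have hconv : ∀ k : ℕ, ((pm π).rangeRestrict a * (pm π).rangeRestrict b) ^ k = 1 →
      IsSc ((π a * π b) ^ k) := fun k h => by
    rw [← map_mul, ← map_pow, ← pm_eq_one]
    have := congrArg Subtype.val h
    rw [← map_mul, ← map_pow] at this
    exact this
  rcases (shape_image p π hu).prod_order hm (ho ha ha') (ho hb hb') (fun h => by
      rw [← map_mul, ← map_mul] at h
      obtain ⟨c, hc⟩ := pm_eq_iff.1 (congrArg Subtype.val h)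
      rw [map_mul, map_mul] at hc
      exact hne c hc) with h | h | ⟨h3, h⟩
  · exact .inl (hconv 2 h)
  · exact .inr (.inl (hconv 3 h))
  · exact .inr (.inr ⟨h3, hconv 5 h⟩)

end coprime

section transvections

variable (p : ℕ) [hp : Fact p.Prime] [CharP F p]

lemma com_unipotent (h2 : (2 : F) ≠ 0) {U : Matrix (Fin 3) (Fin 3) F} (hU : Com U) (h : U ^ p = 1) :
    (U - 1) * (U - 1) = 0 := by
  haveI : CharP (Matrix (Fin 3) (Fin 3) F) p := Matrix.charP p
  have hN : (U - 1) ^ p = 0 := by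
    rw [sub_pow_char_of_commute p (Commute.one_right U), h, one_pow, sub_self]
  have hc : Com (U - 1) := by
    rw [Com] at hU ⊢
    rw [sub_mul, mul_sub, hU, one_mul, mul_one]
  have hcp : ∀ k : ℕ, Com ((U - 1) ^ k) ∧ ax ((U - 1) ^ k) = ax (U - 1) ^ k ∧
      gam ((U - 1) ^ k) = gam (U - 1) ^ k := by
    intro k
    induction k with
    | zero => simp [com_one, ax_one, gam_one]
    | succ k ih =>
      obtain ⟨i1, i2, i3⟩ := ih
      exact ⟨by rw [pow_succ]; exact i1.mul hc, by rw [pow_succ, ax_mul i1 hc, i2, ← pow_succ],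
        by rw [pow_succ, gam_mul i1 hc, i3, ← pow_succ]⟩
  have h1 : ax (U - 1) ^ p = 0 := by
    rw [← (hcp p).2.1, hN]; ext i j; fin_cases i <;> fin_cases j <;> simp [ax]
  have h3 : gam (U - 1) = 0 := by
    refine eq_zero_of_pow_eq_zero (n := p) ?_
    rw [← (hcp p).2.2, hN]; simp [gam]
  refine ext_ax h2 (hc.mul hc) (by rw [Com]; simp) ?_ ?_
  · rw [ax_mul hc hc, sq_zero_of_pow h1]; ext i j; fin_cases i <;> fin_cases j <;> simp [ax]
  · rw [gam_mul hc hc, h3]; simp [gam]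

lemma blk_unipotent {U : Matrix (Fin 3) (Fin 3) F} (hU : Blk U) (h : U ^ p = 1) :
    (U - 1) * (U - 1) = 0 := by
  haveI : CharP (Matrix (Fin 3) (Fin 3) F) p := Matrix.charP p
  have hN : (U - 1) ^ p = 0 := by
    rw [sub_pow_char_of_commute p (Commute.one_right U), h, one_pow, sub_self]
  have hc : Blk (U - 1) := by
    obtain ⟨a1, a2, a3, a4⟩ := hU
    exact ⟨by simp [a1], by simp [a2], by simp [a3], by simp [a4]⟩
  have hcp : ∀ k : ℕ, Blk ((U - 1) ^ k) ∧ ln ((U - 1) ^ k) = ln (U - 1) ^ k ∧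
      ((U - 1) ^ k) 0 0 = (U - 1) 0 0 ^ k := by
    intro k
    induction k with
    | zero => simp [blk_one, ln_one]
    | succ k ih =>
      obtain ⟨i1, i2, i3⟩ := ih
      exact ⟨by rw [pow_succ]; exact i1.mul hc, by rw [pow_succ, ln_mul i1 hc, i2, ← pow_succ],
        by rw [pow_succ, entry_mul i1, i3, ← pow_succ]⟩
  have h1 : ln (U - 1) ^ p = 0 := by
    rw [← (hcp p).2.1, hN]; ext i j; fin_cases i <;> fin_cases j <;> simp [ln]
  have h3 : (U - 1) 0 0 = 0 := by
    refine eq_zero_of_pow_eq_zero (n := p) ?_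
    rw [← (hcp p).2.2, hN]; rfl
  have h4 := ln_mul hc hc
  rw [sq_zero_of_pow h1] at h4
  obtain ⟨q1, q2, q3, q4⟩ := hc.mul hc
  ext i j
  fin_cases i <;> fin_cases j
  · exact (entry_mul hc).trans (by rw [h3, mul_zero]; rfl)
  · exact q1
  · exact q2
  · exact q3
  · exact congrFun (congrFun h4 0) 0
  · exact congrFun (congrFun h4 0) 1
  · exact q4
  · exact congrFun (congrFun h4 1) 0
  · exact congrFun (congrFun h4 1) 1

end transvections

end CfsgLib.ClassicalMax.Hess
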