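import Cfsg.Agent.Lib.ClassicalMax.HessMax.Axis

/-!
A reflection in the centraliser of the central involution forces one of the quaternion elements to be central
modulo scalars on the axis.
-/

set_option autoImplicit false
set_option linter.unusedSectionVars false
set_option linter.flexible false

namespace CfsgLib.ClassicalMax.Hess

open Matrix

variable {F : Type*} [Field F] {p : ℕ} [hp : Fact p.Prime] [CharP F p] {w : F} {hw : w ^ 2 + w + 1 = 0}
  {M : Subgroup (GL (Fin 3) F)}

lemma Ctx.memZ (h : Ctx p w hw M) : Mem M (w • 1) := by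
  have e : mX w hw * mY w hw * (mX w hw * mX w hw) * (mY w hw * mY w hw) = w • 1 := by
    have h1 : iX * iY * (iX * iX) * (iY * iY) = (⟨0, 1⟩ : E2) • 1 := by decide
    simp only [mX, mY, ← Matrix.map_mul]
    rw [h1, map_smul', Matrix.map_one _ (map_zero _) (map_one _)]
    simp [E2.ev_apply]
  exact e ▸ ((Mem.mul h.memX h.memY).mul h.memX2).mul (Mem.mul h.memY h.memY)

lemma smul_cancel {c : F} (hc : c ≠ 0) {A B : Matrix (Fin 2) (Fin 2) F} (h : c • A = c • B) : A = B := by
  simpa [smul_smul, inv_mul_cancel₀ hc] using congrArg (fun X => c⁻¹ • X) h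

lemma right_cancel {A B C : Matrix (Fin 2) (Fin 2) F} (hC : C.det ≠ 0) (h : A * C = B * C) : A = B :=
  (Matrix.isUnit_iff_isUnit_det C).2 (isUnit_iff_ne_zero.2 hC) |>.mul_right_cancel h

lemma pcomm_of_smul {A Q : Matrix (Fin 2) (Fin 2) F} {k : F} (hk : k ≠ 0) (h : PComm A (k • Q)) :
    PComm A Q := by
  obtain ⟨c, hc⟩ := h
  refine ⟨c, smul_cancel hk ?_⟩
  rw [← mul_smul_comm, hc, smul_mul_assoc, smul_comm]

/-- A reflection makes one of the quaternion elements projectively central on the axis. -/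
theorem exists_central [Finite F] (h : Ctx p w hw M) {r : Cs M} (hr : r * r = 1) (hg : gamC M r = -1) :
    ∃ Q : Matrix (Fin 2) (Fin 2) F, (Q = bW ∨ Q = bV w ∨ Q = bU w) ∧ ∀ g : Cs M, PComm (piC M g) Q := by
  have h2 := two_ne (F := F) (p := p) h.five
  have h3 := three_ne (F := F) (p := p) h.five
  have hs := s_ne (p := p) h.five hw
  have hw0 := w_ne_zero hw
  set si : F := (1 + 2 * w)⁻¹ with hsi
  have hsi0 : si ≠ 0 := inv_ne_zero hs
  obtain ⟨gW, hW1, hW2⟩ := exists_gW h
  obtain ⟨gV, hV1, hV2⟩ := exists_gV h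
  have hU1 : piC M (gW * gV) = si • bU w := by
    rw [map_mul, hW1, hV1, smul_mul_assoc, mul_smul_comm, bW_bV hw, smul_smul, smul_smul,
      mul_assoc si si, hsi, inv_mul_cancel₀ hs, mul_one]
  let K : Subgroup (Cs M) := (pm (piC M)).ker
  let gU : Cs M →* Fˣ := (gamC M).toHomUnits
  let N : Subgroup Fˣ := K.map gU
  let χ : Cs M ⧸ K →* Fˣ ⧸ N := QuotientGroup.lift K ((QuotientGroup.mk' N).comp gU) fun k hk => by
    rw [MonoidHom.mem_ker, MonoidHom.comp_apply, QuotientGroup.mk'_apply, QuotientGroup.eq_one_iff]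
    exact ⟨k, hk, rfl⟩
  have hmk : ∀ {a b : Cs M}, (QuotientGroup.mk a : Cs M ⧸ K) = QuotientGroup.mk b ↔
      ∃ c : F, piC M a = c • piC M b := fun {a b} => by
    rw [← (QuotientGroup.kerLift_injective (pm (piC M))).eq_iff, QuotientGroup.kerLift_mk,
      QuotientGroup.kerLift_mk, pm_eq_iff]
  have hshape : Shape (Cs M ⧸ K) := Shape.of_equiv (QuotientGroup.quotientKerEquivRange (pm (piC M)))
    (shape_image p (piC M) fun u hu => Cs_unip h u hu)
  have hx : (QuotientGroup.mk gW : Cs M ⧸ K) * QuotientGroup.mk gW = 1 :=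
    (QuotientGroup.mk_mul _ _ _).symm.trans (hmk.2 ⟨si * si * 3, by
      rw [map_mul, hW1, map_one, smul_mul_assoc, mul_smul_comm, bW_sq, smul_smul, smul_smul]⟩)
  have hy : (QuotientGroup.mk gV : Cs M ⧸ K) * QuotientGroup.mk gV = 1 :=
    (QuotientGroup.mk_mul _ _ _).symm.trans (hmk.2 ⟨si * si * 3, by
      rw [map_mul, hV1, map_one, smul_mul_assoc, mul_smul_comm, bV_sq hw, smul_smul, smul_smul]⟩)
  have hxy : (QuotientGroup.mk gW : Cs M ⧸ K) * QuotientGroup.mk gV =
      QuotientGroup.mk gV * QuotientGroup.mk gW :=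
    hmk.2 ⟨-1, by
      rw [map_mul, map_mul, hW1, hV1, smul_mul_assoc, mul_smul_comm, smul_mul_assoc, mul_smul_comm,
        bW_bV hw, bV_bW hw]
      simp⟩
  have hx1 : (QuotientGroup.mk gW : Cs M ⧸ K) ≠ 1 := fun e => by
    obtain ⟨c, hc⟩ := hmk.1 e
    rw [hW1, map_one] at hc
    have := congrFun (congrFun hc 0) 1
    simp [bW, hs, h2] at this
  have hy1 : (QuotientGroup.mk gV : Cs M ⧸ K) ≠ 1 := fun e => by
    obtain ⟨c, hc⟩ := hmk.1 e
    rw [hV1, map_one] at hc
    have := congrFun (congrFun hc 0) 1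
    simp [bV, hs, h2, hw0] at this
  have hne : (QuotientGroup.mk gW : Cs M ⧸ K) ≠ QuotientGroup.mk gV := fun e => by
    obtain ⟨c, hc⟩ := hmk.1 e
    rw [hW1, hV1] at hc
    have e00 := congrFun (congrFun hc 0) 0
    have e10 := congrFun (congrFun hc 1) 0
    simp [bW, bV] at e00 e10
    exact w_ne_one (p := p) h.five hw (mul_left_cancel₀ hsi0 (by linear_combination w * e00 - e10))
  have hχ : ∀ a : Cs M, gamC M a = 1 → χ (QuotientGroup.mk a) = 1 := fun a ha => by
    show (QuotientGroup.mk' N) (gU a) = 1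
    rw [show gU a = 1 from Units.ext (by simpa [gU] using ha), map_one]
  have hχr : χ (QuotientGroup.mk r) ≠ 1 := by
    intro e
    change (QuotientGroup.mk (gU r) : Fˣ ⧸ N) = 1 at e
    obtain ⟨k, hk, hkg⟩ := (QuotientGroup.eq_one_iff _).1 e
    have hkg' : gamC M k = -1 := by
      have := congrArg Units.val hkg
      simp [gU] at this
      exact this.trans hg
    obtain ⟨a, ha⟩ := pm_eq_one.1 hk
    have hd := gamC_mul_det h k
    rw [hkg', ha, Matrix.det_smul, Matrix.det_one, Fintype.card_fin, mul_one] at hd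
    exact no_quarter h ⟨_, k.2.1, rfl⟩ (com_of_mem k.2) ha (by linear_combination -hd) hkg'
  rcases hshape.klein (A := Fˣ ⧸ N) χ hx hy hxy hx1 hy1 hne (hχ _ hW2) (hχ _ hV2)
      ((QuotientGroup.mk_mul _ _ _).symm.trans (by rw [hr]; rfl)) hχr with
    ⟨z, hz, hzc⟩ | ⟨⟨g, hg1, hg2⟩, τ, ht1, ht2⟩
  · have key : ∀ (q : Cs M) (Q : Matrix (Fin 2) (Fin 2) F), z = QuotientGroup.mk q → piC M q = si • Q →
        ∀ g : Cs M, PComm (piC M g) Q := by
      intro q Q hq hQ g
      obtain ⟨c, hc⟩ := hmk.1 (show (QuotientGroup.mk (g * q) : Cs M ⧸ K) = QuotientGroup.mk (q * g) by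
        rw [QuotientGroup.mk_mul, QuotientGroup.mk_mul, ← hq]; exact hzc _)
      rw [map_mul, map_mul, hQ] at hc
      exact pcomm_of_smul hsi0 ⟨c, hc⟩
    rcases hz with rfl | rfl | rfl
    · exact ⟨bW, .inl rfl, key gW bW rfl hW1⟩
    · exact ⟨bV w, .inr (.inl rfl), key gV _ rfl hV1⟩
    · exact ⟨bU w, .inr (.inr rfl), key (gW * gV) _ (QuotientGroup.mk_mul _ _ _).symm hU1⟩
  · exfalso
    obtain ⟨g, rfl⟩ := QuotientGroup.mk_surjective g
    obtain ⟨τ, rfl⟩ := QuotientGroup.mk_surjective τ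
    simp only [← QuotientGroup.mk_mul] at hg1 hg2 ht1 ht2
    have conv : ∀ {a b c d : Cs M} {A B : Matrix (Fin 2) (Fin 2) F},
        (QuotientGroup.mk (a * b) : Cs M ⧸ K) = QuotientGroup.mk (c * d) → piC M b = si • A →
        piC M c = si • B → ∃ k : F, piC M a * A = k • (B * piC M d) := by
      intro a b c d A B e hb hc
      obtain ⟨k, hk⟩ := hmk.1 e
      rw [map_mul, map_mul, hb, hc, mul_smul_comm, smul_mul_assoc, smul_comm k si] at hk
      exact ⟨k, smul_cancel hsi0 hk⟩
    obtain ⟨c1, hc1⟩ := conv hg1 hW1 hV1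
    obtain ⟨c2, hc2⟩ := conv hg2 hV1 hU1
    obtain ⟨d1, hd1⟩ := conv ht1 hW1 hW1
    obtain ⟨d2, hd2⟩ := conv ht2 hV1 hU1
    -- adjust by quaternion elements
    have adjust : ∀ (g : Cs M) (D D' : Matrix (Fin 2) (Fin 2) F), D * D' = 1 →
        PComm (D' * piC M g) bW → PComm (D' * piC M g) (bV w) →
        ∃ (g' : Cs M) (k : F), k ≠ 0 ∧ piC M g' = k • D := by
      intro g D D' hDD hA hB
      have hdetA : (D' * piC M g).det ≠ 0 := by
        rw [Matrix.det_mul]
        refine mul_ne_zero (fun e => ?_) (det_piC_ne h g)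
        have := congrArg Matrix.det hDD
        rw [Matrix.det_mul, e, mul_zero, Matrix.det_one] at this
        exact zero_ne_one this
      obtain ⟨c, Q, hQ, hA'⟩ := proj_cases (p := p) h.five hw hdetA hA hB
      have hG : piC M g = c • (D * Q) := by
        rw [← mul_smul_comm, ← hA', ← mul_assoc, hDD, one_mul]
      obtain ⟨q, e, hq⟩ : ∃ (q : Cs M) (e : F), Q * piC M q = e • 1 := by
        rcases hQ with rfl | rfl | rfl | rfl
        · exact ⟨1, 1, by rw [map_one, one_mul, one_smul]⟩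
        · exact ⟨gW, si * 3, by rw [hW1, mul_smul_comm, bW_sq, smul_smul]⟩
        · exact ⟨gV, si * 3, by rw [hV1, mul_smul_comm, bV_sq hw, smul_smul]⟩
        · exact ⟨gW * gV, si * 3, by rw [hU1, mul_smul_comm, bU_sq hw, smul_smul]⟩
      have hp' : piC M (g * q) = (c * e) • D := by
        rw [map_mul, hG, smul_mul_assoc, mul_assoc, hq, mul_smul_comm, mul_one, smul_smul]
      refine ⟨g * q, c * e, fun h0 => ?_, hp'⟩
      have := det_piC_ne h (g * q)
      rw [hp', h0, zero_smul, Matrix.det_zero] at this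
      exact this rfl
    obtain ⟨g', k, hk, hg'⟩ := adjust g !![1, 0; 0, w] !![1, 0; 0, w ^ 2]
      (by
        ext i j; fin_cases i <;> fin_cases j <;> simp [Matrix.mul_apply, Fin.sum_univ_two]
        linear_combination (w - 1) * hw)
      ⟨c1, by
        rw [mul_assoc, hc1, mul_smul_comm, ← mul_assoc, ← mul_assoc]
        congr 2
        ext i j; fin_cases i <;> fin_cases j <;>
          simp [bW, bV, Matrix.mul_apply, Fin.sum_univ_two] <;>
          first | ring1 | linear_combination (w - 1) * hw⟩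
      ⟨c2, by
        rw [mul_assoc, hc2, mul_smul_comm, ← mul_assoc, ← mul_assoc]
        congr 2
        ext i j; fin_cases i <;> fin_cases j <;>
          simp [bU, bV, Matrix.mul_apply, Fin.sum_univ_two] <;>
          first | ring1 | linear_combination (-2 * w * (w - 1)) * hw | linear_combination (w * (w - 1)) * hw⟩
    obtain ⟨τ', l, hl, hτ'⟩ := adjust τ !![0, -2; 1, 0] !![0, 1; -(2 : F)⁻¹, 0]
      (by ext i j; fin_cases i <;> fin_cases j <;> simp [Matrix.mul_apply, Fin.sum_univ_two, h2])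
      ⟨-d1, by
        rw [mul_assoc, hd1, mul_smul_comm, ← mul_assoc, ← mul_assoc,
          show (!![0, 1; -(2 : F)⁻¹, 0] : Matrix (Fin 2) (Fin 2) F) * bW
            = -(bW * !![0, 1; -(2 : F)⁻¹, 0]) by
          ext i j; fin_cases i <;> fin_cases j <;> simp [bW, Matrix.mul_apply, Fin.sum_univ_two, h2],
          neg_mul, smul_neg, neg_smul]⟩
      ⟨-d2, by
        rw [mul_assoc, hd2, mul_smul_comm, ← mul_assoc, ← mul_assoc,
          show (!![0, 1; -(2 : F)⁻¹, 0] : Matrix (Fin 2) (Fin 2) F) * bU w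
            = -(bV w * !![0, 1; -(2 : F)⁻¹, 0]) by
          ext i j; fin_cases i <;> fin_cases j <;> simp [bU, bV, Matrix.mul_apply, Fin.sum_univ_two] <;>
            field_simp,
          neg_mul, smul_neg, neg_smul]⟩
    obtain ⟨e, he⟩ : ∃ e : Cs M, e = τ' * g' * τ'⁻¹ * g'⁻¹ := ⟨_, rfl⟩
    have hge : gamC M e = 1 := by
      have h1 : gamC M τ' * gamC M τ'⁻¹ = 1 := by rw [← map_mul, mul_inv_cancel, map_one]
      have h2 : gamC M g' * gamC M g'⁻¹ = 1 := by rw [← map_mul, mul_inv_cancel, map_one]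
      rw [he, map_mul, map_mul, map_mul]
      linear_combination (gamC M g' * gamC M g'⁻¹) * h1 + h2
    have hae : piC M e = !![w, 0; 0, w ^ 2] := by
      have h0 : piC M (e * (g' * τ')) = piC M (τ' * g') := by rw [he]; congr 1; group
      simp only [map_mul] at h0
      rw [hg', hτ'] at h0
      simp only [smul_mul_assoc, mul_smul_comm, smul_smul, mul_comm l k] at h0
      have h1 := smul_cancel (mul_ne_zero hk hl) h0
      refine right_cancel (C := !![1, 0; 0, w] * !![0, -2; 1, 0]) ?_ (h1.trans ?_)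
      · simp [Matrix.det_fin_two_of, hw0, h2]
      · ext i j
        fin_cases i <;> fin_cases j <;> simp [Matrix.mul_apply, Fin.sum_univ_two] <;>
          first | ring1 | linear_combination (1 - w) * hw | linear_combination (w - 1) * hw
    have hZ := Mem.mul h.memZ h.memZ
    refine no_third h ((Mem.mul hZ ⟨_, e.2.1, rfl⟩)) ?_ ?_ ?_
    · rw [smul_mul_assoc, one_mul, smul_smul, smul_mul_assoc, one_mul]
      exact com_smul _ (com_of_mem e.2)
    · rw [smul_mul_assoc, one_mul, smul_smul, smul_mul_assoc, one_mul, ax_smul, ← piC_apply, hae]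
      ext i j
      fin_cases i <;> fin_cases j <;> simp
      · linear_combination (w - 1) * hw
      · linear_combination (w - 1) * w * hw
    · rw [smul_mul_assoc, one_mul, smul_smul, smul_mul_assoc, one_mul, gam_smul, ← gamC_apply, hge]
      ring

end CfsgLib.ClassicalMax.Hess
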