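import Cfsg.Agent.Lib.ClassicalMax.HessMax.Main

/-!
The case of a reflection: the element of order four outside the commutator subgroup, the self-centralising
subgroup of order nine, and the word of excessive order.
-/

set_option autoImplicit false
set_option linter.unusedSectionVars false
set_option linter.flexible false

namespace CfsgLib.ClassicalMax.Hess

open Matrix

variable {F : Type*} [Field F] {p : ℕ} [hp : Fact p.Prime] [CharP F p] {w : F} {hw : w ^ 2 + w + 1 = 0}
  {M : Subgroup (GL (Fin 3) F)}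

lemma det_bW : (bW : Matrix (Fin 2) (Fin 2) F).det = -3 := by
  simp [bW, Matrix.det_fin_two]
  ring

open scoped Classical in
/-- the sign of the action on the Fourier element -/
noncomputable def eps (g : Cs M) : F := if piC M g * bW = bW * piC M g then 1 else -1

/-- commutation up to scalars with the Fourier element -/
def ZCentral (M : Subgroup (GL (Fin 3) F)) : Prop := ∀ g : Cs M, PComm (piC M g) bW

lemma eps_spec (h : Ctx p w hw M) (hz : ZCentral M) (g : Cs M) :
    piC M g * bW = eps g • (bW * piC M g) := by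
  unfold eps
  split_ifs with hg
  · rw [one_smul, hg]
  · rw [neg_one_smul]
    exact (pcomm_sign (three_ne (p := p) h.five) (det_piC_ne h g) bW_sq (hz g)).resolve_left hg

lemma eps_unique (h : Ctx p w hw M) (hz : ZCentral M) {g : Cs M} {c : F}
    (hc : piC M g * bW = c • (bW * piC M g)) : eps g = c := by
  have h0 : bW * piC M g ≠ 0 := fun e => by
    have := congrArg Matrix.det e
    rw [Matrix.det_mul, det_bW, Matrix.det_zero] at this
    exact mul_ne_zero (neg_ne_zero.2 (three_ne (F := F) (p := p) h.five)) (det_piC_ne h g) this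
  have h1 : (eps g - c) • (bW * piC M g) = 0 := by rw [sub_smul, ← eps_spec h hz, ← hc, sub_self]
  exact sub_eq_zero.1 ((smul_eq_zero.1 h1).resolve_right h0)

lemma eps_mul (h : Ctx p w hw M) (hz : ZCentral M) (a b : Cs M) : eps (a * b) = eps a * eps b := by
  refine eps_unique h hz ?_
  rw [map_mul, mul_assoc, eps_spec h hz b, mul_smul_comm, ← mul_assoc, eps_spec h hz a, smul_mul_assoc,
    smul_smul, mul_assoc, mul_comm]

lemma eps_one (h : Ctx p w hw M) (hz : ZCentral M) : eps (1 : Cs M) = 1 :=
  eps_unique h hz (by rw [map_one, one_mul, mul_one, one_smul])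

lemma eps_commute (h : Ctx p w hw M) (hz : ZCentral M) {g : Cs M} (he : eps g = 1) :
    piC M g * bW = bW * piC M g := by rw [eps_spec h hz, he, one_smul]

lemma eps_pow (h : Ctx p w hw M) (hz : ZCentral M) (g : Cs M) : ∀ n : ℕ, eps (g ^ n) = eps g ^ n
  | 0 => by rw [pow_zero, pow_zero, eps_one h hz]
  | n + 1 => by rw [pow_succ, eps_mul h hz, eps_pow h hz g n, pow_succ]

/-- the character that transfers -/
noncomputable def phi (h : Ctx p w hw M) (hz : ZCentral M) : Cs M →* F where
  toFun g := eps g * gamC M g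
  map_one' := by rw [eps_one h hz, map_one, one_mul]
  map_mul' a b := by rw [eps_mul h hz, map_mul]; ring

lemma eps_cT (h : Ctx p w hw M) (hz : ZCentral M) : eps (cT h) = 1 :=
  eps_unique h hz (by
    rw [piC_apply, show ((cT h : Cs M) : GL (Fin 3) F).val = mT from rfl, ax_mT, smul_mul_assoc, one_mul,
      mul_smul_comm, mul_one, one_smul])

lemma gamC_cT (h : Ctx p w hw M) : gamC M (cT h) = 1 := gam_mT

/-- a reflection anticommutes with the Fourier element -/
lemma refl_eps [Finite F] (h : Ctx p w hw M) (hz : ZCentral M) {z : Cs M} (hg : gamC M z = -1)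
    (ht : (piC M z).trace = 0) (hd : (piC M z).det = -1) : eps z = -1 := by
  unfold eps
  split_ifs with hc
  · exact (no_commuting_reflection h hg ht hd hc).elim
  · rfl

lemma phi_invol [Finite F] (h : Ctx p w hw M) (hz : ZCentral M) {z : Cs M} (hzz : z * z = 1) :
    phi h hz z = 1 := by
  rcases invol_cases h hzz with rfl | rfl | ⟨hg, -, ht, hd⟩
  · exact map_one _
  · show eps _ * gamC M _ = 1
    rw [eps_cT h hz, gamC_cT, one_mul]
  · show eps _ * gamC M _ = 1
    rw [refl_eps h hz hg ht hd, hg]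
    ring

lemma sq_cases [Finite F] (h : Ctx p w hw M) (hz : ZCentral M) {z : Cs M} (h4 : z ^ 2 * z ^ 2 = 1) :
    z ^ 2 = 1 ∨ z ^ 2 = cT h := by
  rcases invol_cases h h4 with e | e | ⟨hg, -, ht, hd⟩
  · exact .inl e
  · exact .inr e
  · exfalso
    have he := refl_eps h hz hg ht hd
    have : eps z * eps z = 1 := by
      unfold eps
      split_ifs <;> ring
    rw [eps_pow h hz, pow_two, this] at he
    exact two_ne (F := F) (p := p) h.five (by linear_combination he)

/-- the element of order four of the second quaternion generator lies outside the commutator subgroup -/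
theorem gV_not_mem [Finite F] (h : Ctx p w hw M) (hz : ZCentral M) (G : Gens h) :
    G.gV ∉ commutator M := by
  classical
  set t : M := ⟨gT, h.gT_mem⟩ with ht
  have htt : t * t = 1 := val_ext (by rw [val_mul, val_one']; exact mT_mul_mT)
  have hWW : G.gW * G.gW = t := val_ext (by rw [val_mul, G.vW, mW_sq h.five]; rfl)
  have hQ : IsPGroup 2 (Subgroup.zpowers G.gW) := by
    rintro ⟨a, i, rfl⟩
    refine ⟨2, Subtype.ext ?_⟩
    show (G.gW ^ i) ^ 2 ^ 2 = 1
    rw [← zpow_natCast, ← _root_.zpow_mul, mul_comm, _root_.zpow_mul, zpow_natCast,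
      show (2 : ℕ) ^ 2 = 2 * 2 from rfl, pow_mul, pow_two G.gW, hWW, pow_two, htt, _root_.one_zpow]
  let ι : (Subgroup.centralizer ({t} : Set M) : Subgroup M) →* Cs M :=
    { toFun := fun g => ⟨((g : M) : GL (Fin 3) F), (g : M).2, Subgroup.mem_centralizer_singleton_iff.2
        (congrArg Subtype.val (Subgroup.mem_centralizer_singleton_iff.1 g.2))⟩
      map_one' := rfl
      map_mul' := fun _ _ => rfl }
  have hιinj : ∀ a b, ι a = ι b → a = b := fun a b e => by
    apply Subtype.ext
    apply Subtype.ext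
    exact congrArg (fun u : Cs M => (u : GL (Fin 3) F)) e
  obtain ⟨gW', hW1, hW2⟩ := exists_gW h
  obtain ⟨gV', hV1, hV2⟩ := exists_gV h
  have hWc : G.gW ∈ Subgroup.centralizer ({t} : Set M) := Subgroup.mem_centralizer_singleton_iff.2
    (by rw [← hWW, mul_assoc])
  have htm : t ∈ Subgroup.zpowers G.gW := ⟨2, by show G.gW ^ (2 : ℤ) = t; rw [zpow_two, hWW]⟩
  obtain ⟨P, -, hP⟩ := sylow_centralizer (t := t) _ hQ htm (fun z h1 h2 h3 => by
    have hzc : z ∈ Subgroup.centralizer ({t} : Set M) := Subgroup.mem_centralizer_singleton_iff.2 h2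
    rcases invol_cases h (z := ι ⟨z, hzc⟩) (by
        rw [← map_mul, ← map_one ι]; exact congrArg ι (Subtype.ext h1)) with e | e | ⟨hg, -, ht', hd⟩
    · exact .inl (congrArg Subtype.val (hιinj _ 1 (e.trans (map_one ι).symm)))
    · exact .inr (congrArg Subtype.val (hιinj _ ⟨t, Subgroup.mem_centralizer_singleton_iff.2 rfl⟩ e))
    · exfalso
      refine no_commuting_reflection h hg ht' hd ?_
      have hc : ι ⟨z, hzc⟩ * ι ⟨G.gW, hWc⟩ = ι ⟨G.gW, hWc⟩ * ι ⟨z, hzc⟩ := by
        rw [← map_mul, ← map_mul]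
        exact congrArg ι (Subtype.ext (h3 _ (Subgroup.mem_zpowers _)))
      have hax : piC M (ι ⟨G.gW, hWc⟩) = (1 + 2 * w)⁻¹ • bW := by
        rw [piC_apply, ← ax_mW (hw := hw), ← G.vW]
        rfl
      have := congrArg (piC M) hc
      rw [map_mul, map_mul, hax, mul_smul_comm, smul_mul_assoc] at this
      exact smul_cancel (inv_ne_zero (s_ne (p := p) h.five hw)) this)
  have hVV : G.gV * G.gV = t := by
    refine val_ext ?_
    show val (G.gV * G.gV) = mT
    have e : iD * iW * iD' * (iD * iW * iD') = (iS * iS) • iT := by decide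
    rw [val_mul, G.vV', smul_mul_assoc, mul_smul_comm, smul_smul, ← Matrix.map_mul, e, map_smul',
      smul_smul, map_mul, mT_eq (hw := hw)]
    have := iS_ne (w := w) (hw := hw) h.five
    rw [show (E2.ev w hw iS)⁻¹ * (E2.ev w hw iS)⁻¹ * (E2.ev w hw iS * E2.ev w hw iS) = 1 by field_simp,
      one_smul]
  have hVc : G.gV ∈ Subgroup.centralizer ({t} : Set M) := Subgroup.mem_centralizer_singleton_iff.2
    (by rw [← hVV, mul_assoc])
  have hVax : piC M (ι ⟨G.gV, hVc⟩) = (1 + 2 * w)⁻¹ • bV w := by
    rw [piC_apply, ← ax_mV hw, ← G.vV]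
    rfl
  have hVgam : gamC M (ι ⟨G.gV, hVc⟩) = 1 := by
    rw [gamC_apply, ← gam_mV (p := p) (hw := hw) h.five, ← G.vV]
    rfl
  have hVeps : eps (ι ⟨G.gV, hVc⟩) = -1 := eps_unique h hz (by
    rw [hVax, smul_mul_assoc, mul_smul_comm, bW_bV hw, bV_bW hw]
    simp)
  let φ : (Subgroup.centralizer ({t} : Set M) : Subgroup M) →* F := (phi h hz).comp ι
  let φu := φ.toHomUnits
  refine not_mem_commutator ⟨P, hP⟩ φu hVc (by rw [pow_two, hVV]) htt (fun e => ?_) ?_ ?_ ?_
  · have e' : eps (ι ⟨G.gV, hVc⟩) * gamC M (ι ⟨G.gV, hVc⟩) = 1 := congrArg Units.val e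
    rw [hVeps, hVgam, mul_one] at e'
    exact two_ne (F := F) (p := p) h.five (by linear_combination -e')
  · refine Units.ext (phi_invol h hz ?_)
    rw [← map_mul, ← map_one ι]
    exact congrArg ι (Subtype.ext htt)
  · intro z hzc hzz
    refine Units.ext (phi_invol h hz ?_)
    rw [← map_mul, ← map_one ι]
    exact congrArg ι (Subtype.ext hzz)
  · intro z hzc h4
    rcases sq_cases h hz (z := ι ⟨z, hzc⟩) (by
        rw [← map_pow, ← map_mul, ← pow_two, ← map_one ι]; exact congrArg ι (Subtype.ext h4)) with e | e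
    · rw [← map_pow] at e
      exact .inl (congrArg Subtype.val (hιinj _ 1 (e.trans (map_one ι).symm)))
    · rw [← map_pow] at e
      exact .inr (congrArg Subtype.val (hιinj _ ⟨t, Subgroup.mem_centralizer_singleton_iff.2 rfl⟩ e))

/-- the scalars lie in the commutator subgroup -/
lemma Zs_le_commutator (h : Ctx p w hw M) (G : Gens h) : Zs M ≤ commutator M := by
  intro z hz
  obtain ⟨c, hc⟩ := hz
  have hu : G.gX * G.gY * G.gX⁻¹ * G.gY⁻¹ ∈ commutator M := by
    rw [commutator_def, ← commutatorElement_def]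
    exact Subgroup.commutator_mem_commutator (Subgroup.mem_top _) (Subgroup.mem_top _)
  have hc3 : c * c * c = 1 := by
    have := congrArg Matrix.det (hc : val z = c • 1)
    rw [h.det _ z.2, Matrix.det_smul, Matrix.det_one, Fintype.card_fin] at this
    linear_combination -this
  set u := G.gX * G.gY * G.gX⁻¹ * G.gY⁻¹
  have huv : val u = w • 1 := val_commutator_XY G
  rcases cube_roots hw hc3 with rfl | rfl | rfl
  · rw [show z = 1 from val_ext (by rw [val_one']; simpa using hc)]
    exact one_mem _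
  · rw [show z = u from val_ext ((hc : val z = _).trans huv.symm)]
    exact hu
  · rw [show z = u * u from val_ext (by
      rw [val_mul, huv, smul_mul_assoc, one_mul, smul_smul, ← pow_two]; exact hc)]
    exact mul_mem hu hu

lemma diag_of_comm (h : Ctx p w hw M) {A : Matrix (Fin 3) (Fin 3) F}
    (hgX : A * mX w hw = mX w hw * A) :
    A = !![A 0 0, 0, 0; 0, A 1 1, 0; 0, 0, A 2 2] := by
  rw [mX_eq] at hgX
  have hw1 := w_ne_one (p := p) h.five hw
  have hw2 : -1 - w ≠ (1 : F) := fun e => by
    have : (-1 - w) * w = w := by rw [e, one_mul]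
    exact hw1 (by linear_combination -this - hw)
  have hw3 : -1 - w ≠ w := fun e => w_sq_ne (p := p) h.five hw (by linear_combination -hw - e)
  have e := fun i j : Fin 3 => congrArg (fun B : Matrix (Fin 3) (Fin 3) F => B i j) hgX
  have a01 := e 0 1; have a02 := e 0 2; have a10 := e 1 0
  have a12 := e 1 2; have a20 := e 2 0; have a21 := e 2 1
  simp [Matrix.mul_apply, Fin.sum_univ_three] at a01 a02 a10 a12 a20 a21
  have z : ∀ {x a b : F}, a ≠ b → x * a = x * b → x = 0 := fun {x a b} hab hh =>
    by_contra fun hx => hab (mul_left_cancel₀ hx hh)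
  have b01 : A 0 1 = 0 := z hw1 (by linear_combination a01)
  have b02 : A 0 2 = 0 := z hw2 (by linear_combination a02)
  have b10 : A 1 0 = 0 := z hw1 (by linear_combination -a10)
  have b12 : A 1 2 = 0 := z hw3 (by linear_combination a12)
  have b20 : A 2 0 = 0 := z hw2 (by linear_combination -a20)
  have b21 : A 2 1 = 0 := z hw3 (by linear_combination -a21)
  ext i j
  fin_cases i <;> fin_cases j <;> simp [b01, b02, b10, b12, b20, b21]

/-- the first entry of a diagonal element is a cube root of unity -/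
lemma diag_cube (h : Ctx p w hw M) (hz : ZCentral M) {g : M} {x y z : F}
    (hg : val g = !![x, 0, 0; 0, y, 0; 0, 0, z]) : x ^ 3 = 1 := by
  have hdet : x * y * z = 1 := by
    have := h.det _ g.2
    rw [show ((g : GL (Fin 3) F) : Matrix (Fin 3) (Fin 3) F) = val g from rfl, hg, Matrix.det_fin_three] at this
    simpa using this
  set t : M := ⟨gT, h.gT_mem⟩
  set e := g * (t * g * t) with he
  have hev : val e = !![x * x, 0, 0; 0, y * z, 0; 0, 0, y * z] := by
    rw [he, val_mul, val_mul, val_mul, hg, show val t = mT from rfl]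
    ext i j
    fin_cases i <;> fin_cases j <;> simp [mT, Matrix.mul_apply, Fin.sum_univ_three] <;> ring
  have hcom : Com (val e) := com_iff.2 (by rw [hev]; exact ⟨rfl, rfl, rfl, rfl⟩)
  have hax : piC M ⟨(e : GL (Fin 3) F), mem_Cs e.2 hcom⟩ = !![x * x, 0; 0, y * z] := by
    rw [piC_apply]
    show ax (val e) = _
    rw [hev]
    ext i j
    fin_cases i <;> fin_cases j <;> simp [ax]
  have hx0 : x ≠ 0 := fun e => by rw [e, zero_mul, zero_mul] at hdet; exact zero_ne_one hdet
  have h2 := two_ne (F := F) (p := p) h.five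
  rcases pcomm_sign (three_ne (p := p) h.five) (det_piC_ne h _) bW_sq
    (hz ⟨(e : GL (Fin 3) F), mem_Cs e.2 hcom⟩) with hs | hs <;> rw [hax] at hs
  · have := congrFun (congrFun hs 0) 1
    simp [bW, Matrix.mul_apply, Fin.sum_univ_two] at this
    have hh : x * x = y * z := mul_left_cancel₀ h2 (by linear_combination this)
    linear_combination x * hh + hdet
  · have := congrFun (congrFun hs 0) 0
    simp [bW, Matrix.mul_apply, Fin.sum_univ_two] at this
    have hh : 2 * (x * x) = 0 := by linear_combination this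
    simp [h2, hx0] at hh

/-- the centraliser of the image of `mX` -/
lemma cent_bx (h : Ctx p w hw M) (hz : ZCentral M) (G : Gens h) {x : M ⧸ Zs M}
    (hx : x * G.bx = G.bx * x) : x ∈ G.EB := by
  obtain ⟨g, rfl⟩ := QuotientGroup.mk_surjective x
  rw [Gens.bx, ← QuotientGroup.mk_mul, ← QuotientGroup.mk_mul, mk_eq, val_mul, val_mul, G.vX] at hx
  obtain ⟨c, hc⟩ := hx
  have hc3 : c * c * c = 1 := by
    have := congrArg Matrix.det hc
    rw [Matrix.det_smul, Matrix.det_mul, Matrix.det_mul, h.det _ g.2, det_mX, Fintype.card_fin] at this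
    linear_combination -this
  obtain ⟨m, rfl⟩ : ∃ m : ℕ, c = w ^ m := by
    rcases cube_roots hw hc3 with hh | hh | hh
    · exact ⟨0, hh.trans (pow_zero w).symm⟩
    · exact ⟨1, hh.trans (pow_one w).symm⟩
    · exact ⟨2, hh⟩
  have key : ∀ k : ℕ, val g * mY w hw ^ k * mX w hw
      = (w ^ (2 * k) * w ^ m) • (mX w hw * (val g * mY w hw ^ k)) := by
    intro k
    induction k with
    | zero => simpa using hc
    | succ k ih =>
      rw [pow_succ, mul_assoc (val g), mul_assoc (mY w hw ^ k), mY_mX, mul_smul_comm, mul_smul_comm,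
        ← mul_assoc, ← mul_assoc, ih, smul_mul_assoc, smul_smul, mul_assoc (mX w hw), mul_assoc (val g)]
      congr 1
      ring
  set g' := g * G.gY ^ m with hg'
  have hv' : val g' = val g * mY w hw ^ m := by rw [hg', val_mul, Gens.val_pow, G.vY]
  have hw3 : w ^ 3 = 1 := by rw [pow_succ, pow_two]; exact w_cube hw
  have hcomm : val g' * mX w hw = mX w hw * val g' := by
    rw [hv', key m, ← pow_add, show 2 * m + m = 3 * m by ring, pow_mul, hw3, one_pow, one_smul]
  have hd := diag_of_comm h hcomm
  set x0 := val g' 0 0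
  set x1 := val g' 1 1
  set x2 := val g' 2 2
  have hdet : x0 * x1 * x2 = 1 := by
    have := h.det _ g'.2
    rw [show ((g' : GL (Fin 3) F) : Matrix (Fin 3) (Fin 3) F) = val g' from rfl, hd, Matrix.det_fin_three]
      at this
    simpa using this
  have h0 : x0 ^ 3 = 1 := diag_cube h hz hd
  have h1 : x1 ^ 3 = 1 := by
    refine diag_cube (y := x2) (z := x0) h hz (g := G.gY * G.gY * g' * G.gY) ?_
    rw [val_mul, val_mul, val_mul, G.vY, hd, mY_eq]
    ext i j
    fin_cases i <;> fin_cases j <;> simp [Matrix.mul_apply, Fin.sum_univ_three]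
  have hx0 : x0 ≠ 0 := fun e => by rw [e, zero_mul, zero_mul] at hdet; exact zero_ne_one hdet
  have hx1 : x1 ≠ 0 := fun e => by rw [e, mul_zero, zero_mul] at hdet; exact zero_ne_one hdet
  have e1 : x1 * x1 = x0 * x2 := mul_left_cancel₀ hx1 (by linear_combination h1 - hdet)
  have e0 : x0 * x0 = x1 * x2 := mul_left_cancel₀ hx0 (by linear_combination h0 - hdet)
  have hR : RSet w hw (val g') := by
    refine cent_XY (p := p) h.five (h.det _ g'.2) (c := 1) (d := x1 * x0⁻¹)
      (by rw [one_smul]; exact hcomm) ?_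
    rw [hd, mY_eq]
    ext i j
    fin_cases i <;> fin_cases j <;> simp [Matrix.mul_apply, Fin.sum_univ_three] <;> field_simp <;>
      first | linear_combination e0 | linear_combination e1 | linear_combination -e0 | linear_combination -e1
  have hmem : (QuotientGroup.mk g' : M ⧸ Zs M) ∈ G.EB := G.mem_EB.2 hR
  rw [hg', QuotientGroup.mk_mul, QuotientGroup.mk_pow] at hmem
  exact (G.EB.mul_mem_cancel_right (G.EB.pow_mem G.by_mem m)).1 hmem

lemma cent_all (h : Ctx p w hw M) (hz : ZCentral M) (G : Gens h) :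
    ∀ x ∈ G.EB, x ≠ 1 → Subgroup.centralizer ({x} : Set (M ⧸ Zs M)) = G.EB := by
  intro x hx hx1
  refine le_antisymm (fun y hy => ?_) fun y hy =>
    Subgroup.mem_centralizer_singleton_iff.2 (G.comm_EB hy hx)
  rw [Subgroup.mem_centralizer_singleton_iff] at hy
  obtain ⟨q, hq, rfl⟩ := G.S8_trans hx hx1
  have hmem : q⁻¹ * y * q ∈ G.EB := cent_bx h hz G (by
    calc q⁻¹ * y * q * G.bx = q⁻¹ * (y * (q * G.bx * q⁻¹)) * q := by group
      _ = q⁻¹ * ((q * G.bx * q⁻¹) * y) * q := by rw [hy]
      _ = G.bx * (q⁻¹ * y * q) := by group)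
  have := (Subgroup.mem_normalizer_iff.1 (G.S8_norm hq) _).1 hmem
  rwa [show q * (q⁻¹ * y * q) * q⁻¹ = y by group] at this

lemma coeff_bW (h2 : (2 : F) ≠ 0) {c d e : F}
    (hh : c • (1 : Matrix (Fin 2) (Fin 2) F) + d • bW = e • 1) : c = e ∧ d = 0 := by
  have h01 := congrFun (congrFun hh 0) 1
  have h00 := congrFun (congrFun hh 0) 0
  simp [bW] at h01 h00
  have hd : d = 0 := h01.resolve_right h2
  rw [hd, add_zero] at h00
  exact ⟨h00, hd⟩

lemma bW_mul (a b c d : F) :
    (a • (1 : Matrix (Fin 2) (Fin 2) F) + b • bW) * (c • 1 + d • bW)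
      = (a * c + 3 * (b * d)) • 1 + (a * d + b * c) • bW := by
  rw [add_mul, mul_add, mul_add, smul_mul_assoc, smul_mul_assoc, one_mul, one_mul, smul_smul, smul_smul,
    mul_smul_comm, mul_one, smul_smul, smul_mul_assoc, mul_smul_comm, bW_sq, smul_smul, smul_smul,
    add_smul, add_smul]
  module

lemma cert_zero {P : Matrix (Fin 3) (Fin 3) E4} {i j k l : Fin 3} (hij : i ≠ j) (hkl : k ≠ l) {c d : E4}
    {r : F} (hr : r ^ 2 = -2) {u : F} (hP : P.map (E4.ev w r hw hr) = u • 1) {n : ℤ}
    (hcert : P i j * c + P k l * d = ⟨⟨n, 0⟩, 0⟩) : (n : F) = 0 := by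
  have h1 : E4.ev w r hw hr (P i j) = 0 := by
    have := congrFun (congrFun hP i) j
    simpa [hij] using this
  have h2 : E4.ev w r hw hr (P k l) = 0 := by
    have := congrFun (congrFun hP k) l
    simpa [hkl] using this
  have := congrArg (E4.ev w r hw hr) hcert
  rw [map_add, map_mul, map_mul, h1, h2, zero_mul, zero_mul, add_zero] at this
  simpa [E4.ev_apply, E2.ev_apply] using this.symm

/-- no element has the matrix of order eight -/
lemma word_false (h : Ctx p w hw M) (G : Gens h)
    (hexp : ∀ g : M ⧸ Zs M, g ^ 8 = 1 ∨ g ^ 6 = 1 ∨ g ^ 10 = 1) {K : Cs M} {a b : F}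
    (hK : piC M K = a • 1 + b • bW) (hb : b * (1 + 2 * w) = -a) (ha : 2 * (a * a) = -1)
    (hg : gamC M K = -1) : False := by
  have h2 := two_ne (F := F) (p := p) h.five
  have h3 := three_ne (F := F) (p := p) h.five
  set r : F := 2 * a with hr'
  have hr : r ^ 2 = -2 := by rw [hr']; linear_combination (2 : F) * ha
  have hb3 : 3 * b = a * (1 + 2 * w) := by linear_combination -(1 + 2 * w) * hb + (4 * b) * hw
  let y : M := ⟨K, K.2.1⟩ * G.gX
  have hval : (12 : F) • val y = iP1.map (E4.ev w r hw hr) := by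
    rw [show val y = ((K : GL (Fin 3) F) : Matrix (Fin 3) (Fin 3) F) * val G.gX from val_mul _ _, G.vX,
      ← iP1_eq, Matrix.map_mul, ← smul_mul_assoc]
    congr 1
    · rw [eq_ofAx h2 (com_of_mem K.2), ← piC_apply, ← gamC_apply, hK, hg]
      ext i j
      fin_cases i <;> fin_cases j <;> simp [ofAx, bW, iH, E4.ev_apply, E2.ev_apply, hr'] <;>
        field_simp <;> grind
    · rw [mX_eq]
      ext i j
      fin_cases i <;> fin_cases j <;> simp [iX4, E4.ev_apply, E2.ev_apply] <;> ring
  have hk : ∀ k : ℕ, (QuotientGroup.mk y : M ⧸ Zs M) ^ k = 1 →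
      ∃ u : F, (iP1 ^ k).map (E4.ev w r hw hr) = u • 1 := by
    intro k hk
    rw [← QuotientGroup.mk_pow, ← QuotientGroup.mk_one, mk_eq, val_one', Gens.val_pow] at hk
    obtain ⟨c, hc⟩ := hk
    refine ⟨(12 : F) ^ k * c, ?_⟩
    rw [← RingHom.mapMatrix_apply, map_pow, RingHom.mapMatrix_apply, ← hval, smul_pow, hc, smul_smul]
  have h5 := five_ne (F := F) (p := p) h.five (by have := h.seven; omega)
  have hn : ∀ a b c : ℕ, ((2 ^ a * 3 ^ b * 5 ^ c : ℤ) : F) ≠ 0 := fun a b c => by
    rw [Int.cast_mul, Int.cast_mul, Int.cast_pow, Int.cast_pow, Int.cast_pow]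
    push_cast
    exact mul_ne_zero (mul_ne_zero (pow_ne_zero _ h2) (pow_ne_zero _ h3)) (pow_ne_zero _ h5)
  rcases hexp (QuotientGroup.mk y) with e | e | e <;> obtain ⟨u, hu⟩ := hk _ e
  · rw [iP1_pow_eight] at hu
    have := cert_zero (by decide) (by decide) hr hu iP8_cert
    exact hn _ _ _ this
  · rw [iP1_pow_six] at hu
    have := cert_zero (by decide) (by decide) hr hu iP6_cert
    exact hn _ _ _ this
  · rw [iP1_pow_ten] at hu
    have := cert_zero (by decide) (by decide) hr hu iP10_cert
    exact hn _ _ _ this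

/-- the exponent of the quotient is incompatible with a reflection -/
theorem exponent_false [Finite F] (h : Ctx p w hw M) (hz : ZCentral M) (G : Gens h) {r : Cs M}
    (hr : r * r = 1) (hg : gamC M r = -1)
    (hexp : ∀ g : M ⧸ Zs M, g ^ 8 = 1 ∨ g ^ 6 = 1 ∨ g ^ 10 = 1) : False := by
  have h2 := two_ne (F := F) (p := p) h.five
  have hne : (-1 : F) ≠ 1 := fun e => h2 (by linear_combination -e)
  obtain ⟨gV, hV1, hV2⟩ := exists_gV h
  have hre : eps r = -1 := by
    rcases invol_cases h hr with rfl | rfl | ⟨hg', -, ht, hd⟩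
    · rw [map_one] at hg; exact absurd hg.symm hne
    · rw [gamC_cT] at hg; exact absurd hg.symm hne
    · exact refl_eps h hz hg' ht hd
  have hVe : eps gV = -1 := eps_unique h hz (by
    rw [hV1, smul_mul_assoc, mul_smul_comm, bW_bV hw, bV_bW hw]; simp)
  obtain ⟨K, hK⟩ : ∃ K : Cs M, K = r * gV := ⟨_, rfl⟩
  have hKe : eps K = 1 := by rw [hK, eps_mul h hz, hre, hVe]; ring
  have hKg : gamC M K = -1 := by rw [hK, map_mul, hg, hV2, mul_one]
  have odd_false : ∀ k : ℕ, (-1 : F) ^ k = -1 → K ^ k * K ^ k = 1 → False := by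
    intro k hk hkk
    have hgk : gamC M (K ^ k) = -1 := by rw [map_pow, hKg, hk]
    rcases invol_cases h hkk with e | e | ⟨hg', -, ht, hd⟩
    · rw [e, map_one] at hgk; exact hne hgk.symm
    · rw [e, gamC_cT] at hgk; exact hne hgk.symm
    · exact no_commuting_reflection h hg' ht hd
        (eps_commute h hz (by rw [eps_pow h hz, hKe, one_pow]))
  have toC : ∀ k : ℕ, (-1 : F) ^ k = 1 → (QuotientGroup.mk (⟨K, K.2.1⟩ : M) : M ⧸ Zs M) ^ k = 1 →
      K ^ k = 1 := by
    intro k hk hk1
    rw [← QuotientGroup.mk_pow, ← QuotientGroup.mk_one, mk_eq, val_one', Gens.val_pow] at hk1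
    obtain ⟨c, hc⟩ := hk1
    have hv : ((K ^ k : Cs M) : GL (Fin 3) F).val = c • 1 := by
      rw [SubmonoidClass.coe_pow, Units.val_pow_eq_pow_val]; exact hc
    have hc1 : c = 1 := by
      have e : gamC M (K ^ k) = 1 := by rw [map_pow, hKg, hk]
      rw [gamC_apply, hv, gam_smul, gam_one, mul_one] at e
      exact e
    exact Subtype.ext (Units.ext (by rw [hv, hc1, one_smul]; rfl))
  rcases hexp (QuotientGroup.mk (⟨K, K.2.1⟩ : M)) with e | e | e
  · have h8 : K ^ 8 = 1 := toC 8 (by norm_num) e
    have hH := bW_commutant (three_ne (F := F) (p := p) h.five) h2 (eps_commute h hz hKe)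
    set a := (piC M K 0 0 + piC M K 1 1) / 2
    set b := piC M K 1 0
    have hdet : a * a - 3 * (b * b) = -1 := by
      have hd := gamC_mul_det h K
      rw [hKg, hH, Matrix.det_fin_two] at hd
      simp [bW] at hd
      linear_combination -hd
    have hH2 : piC M (K ^ 2) = (a * a + 3 * (b * b)) • 1 + (a * b + b * a) • bW := by
      rw [map_pow, pow_two]
      conv_lhs => rw [hH]
      rw [bW_mul]
    have hcT : piC M (cT h) = (-1 : F) • 1 := by rw [piC_apply]; exact ax_mT
    have h4 : K ^ 4 * K ^ 4 = 1 := by rw [← pow_add]; exact h8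
    rcases invol_cases h h4 with e4 | e4 | ⟨hg4, -, -, -⟩
    · have h22 : K ^ 2 * K ^ 2 = 1 := by rw [← pow_add]; exact e4
      rcases invol_cases h h22 with e2 | e2 | ⟨hg2, -, -, -⟩
      · exact odd_false 1 (pow_one _) (by rw [pow_one, ← pow_two]; exact e2)
      · rw [e2, hcT] at hH2
        obtain ⟨hc1, hc2⟩ := coeff_bW h2 hH2.symm
        rcases mul_eq_zero.1 (show 2 * a * b = 0 by linear_combination hc2) with h0 | h0
        · have ha0 : a = 0 := (mul_eq_zero.1 h0).resolve_left h2
          rw [ha0] at hc1 hdet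
          exact h2 (by linear_combination hc1 + hdet)
        · rw [h0, zero_smul, add_zero] at hH
          rw [h0] at hc1
          exact no_quarter h ⟨_, K.2.1, rfl⟩ (com_of_mem K.2) hH (by linear_combination hc1) hKg
      · rw [map_pow, hKg] at hg2
        exact hne (by linear_combination -hg2)
    · have hH4 : piC M (K ^ 4) = ((a * a + 3 * (b * b)) * (a * a + 3 * (b * b))
          + 3 * ((a * b + b * a) * (a * b + b * a))) • 1
          + ((a * a + 3 * (b * b)) * (a * b + b * a) + (a * b + b * a) * (a * a + 3 * (b * b))) • bW := by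
        rw [show K ^ 4 = K ^ 2 * K ^ 2 by rw [← pow_add], map_mul, hH2, bW_mul]
      rw [e4, hcT] at hH4
      obtain ⟨hc1, hc2⟩ := coeff_bW h2 hH4.symm
      have hc : a * a + 3 * (b * b) = 0 := by
        have h0 : 2 * ((a * a + 3 * (b * b)) * (a * a + 3 * (b * b))) = 0 := by
          linear_combination hc1 + (a * a - 3 * (b * b) - 1) * hdet
        exact mul_self_eq_zero.1 ((mul_eq_zero.1 h0).resolve_left h2)
      have ha : 2 * (a * a) = -1 := by linear_combination hc + hdet
      have hbb : (b * (1 + 2 * w) - a) * (b * (1 + 2 * w) + a) = 0 := by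
        linear_combination (4 * (b * b)) * hw - hc
      rcases mul_eq_zero.1 hbb with hb | hb
      · refine word_false h G hexp (K := K ^ 3) (a := a) (b := -b) ?_ (by linear_combination -hb) ha
          (by rw [map_pow, hKg]; norm_num)
        rw [pow_succ, map_mul, hH2]
        conv_lhs => rw [hH]
        rw [bW_mul]
        congr 1
        · congr 1
          linear_combination a * hc + (2 * a) * hc - a * ha
        · congr 1
          linear_combination b * hc + b * ha
      · exact word_false h G hexp hH (by linear_combination hb) ha hKg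
    · rw [map_pow, hKg] at hg4
      exact hne (by linear_combination -hg4)
  · exact odd_false 3 (by norm_num) (by rw [← pow_add]; exact toC 6 (by norm_num) e)
  · exact odd_false 5 (by norm_num) (by rw [← pow_add]; exact toC 10 (by norm_num) e)

/-- The case of a reflection with the Fourier element central. -/
theorem nrm_of_reflection [Finite F] (h : Ctx p w hw M) (hz : ZCentral M) {r : Cs M} (hr : r * r = 1)
    (hg : gamC M r = -1) : Nrm w hw M := by
  set G := gens h
  rcases nine_cases G.card_EB (fun x hx => G.cube hx) (cent_all h hz G) G.bx_mem G.bx_ne_one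
      (S := G.S8) (fun q hq => G.S8_norm hq) (fun x hx hx1 => G.S8_trans hx hx1)
      (fun q hq => G.S8_order hq) G.bt_sq with e | e | e
  · exact G.nrm e
  · exfalso
    refine gV_not_mem h hz G ?_
    have hmem : (QuotientGroup.mk' (Zs M)) G.gV ∈ (commutator M).map (QuotientGroup.mk' (Zs M)) := by
      rw [commutator_def, Subgroup.map_commutator, ← MonoidHom.range_eq_map, QuotientGroup.range_mk',
        ← commutator_def, e]
      exact Subgroup.mem_top _
    obtain ⟨v, hv, hvq⟩ := hmem
    have := QuotientGroup.eq.1 hvq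
    rw [show G.gV = v * (v⁻¹ * G.gV) by group]
    exact mul_mem hv (Zs_le_commutator h G this)
  · exact (exponent_false h hz G hr hg e).elim

end CfsgLib.ClassicalMax.Hess
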