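import Cfsg.Agent.Lib.ClassicalMax.HessMax.Axis
import Cfsg.Agent.Lib.ClassicalMax.Tv

/-!
The transvection step for the Hessian group: a subgroup of `GL₃(F)`, `F` a prime field, containing
`diag (1, ω, ω²)`, the cyclic shift and a transvection contains `SL₃(F)`.
-/

set_option autoImplicit false
set_option linter.unusedSectionVars false
set_option linter.flexible false

namespace CfsgLib.ClassicalMax.Hess

open Matrix CfsgLib.ClassicalMax

variable {F : Type*} [Field F]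

lemma par_of_cross {u v : Fin 3 → F} (hu : u ≠ 0) (h : u ⨯₃ v = 0) : ∃ c : F, v = c • u := by
  have e := fun k : Fin 3 => congrFun h k
  have e0 := e 0
  have e1 := e 1
  have e2 := e 2
  simp [cross_apply] at e0 e1 e2
  obtain ⟨i, hi⟩ := Function.ne_iff.1 hu
  simp at hi
  refine ⟨v i / u i, ?_⟩
  ext j
  simp only [Pi.smul_apply, smul_eq_mul]
  field_simp
  fin_cases i <;> fin_cases j <;> simp <;> grind

lemma ann_par {u₁ u₂ φ : Fin 3 → F} (h : u₁ ⨯₃ u₂ ≠ 0) (h1 : φ ⬝ᵥ u₁ = 0) (h2 : φ ⬝ᵥ u₂ = 0) :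
    ∃ c : F, φ = c • u₁ ⨯₃ u₂ := by
  refine par_of_cross h ?_
  rw [dotProduct, Fin.sum_univ_three] at h1 h2
  ext j
  fin_cases j <;> simp [cross_apply] <;> grind

lemma comb_of_ann {u₁ u₂ v φ : Fin 3 → F} (h : u₁ ⨯₃ u₂ ≠ 0) (hφ : φ ≠ 0) (h1 : φ ⬝ᵥ u₁ = 0)
    (h2 : φ ⬝ᵥ u₂ = 0) (hv : φ ⬝ᵥ v = 0) : ∃ a b : F, v = a • u₁ + b • u₂ := by
  obtain ⟨c, rfl⟩ := ann_par h h1 h2
  have hc : c ≠ 0 := fun e => hφ (by simp [e])
  rw [smul_dotProduct, smul_eq_mul, mul_eq_zero, or_iff_right hc, dotProduct, Fin.sum_univ_three] at hv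
  obtain ⟨k, hk⟩ := Function.ne_iff.1 h
  simp only [Pi.zero_apply] at hk
  refine ⟨(v ⨯₃ u₂) k / (u₁ ⨯₃ u₂) k, (u₁ ⨯₃ v) k / (u₁ ⨯₃ u₂) k, ?_⟩
  ext j
  simp only [Pi.add_apply, Pi.smul_apply, smul_eq_mul]
  field_simp
  fin_cases k <;> fin_cases j <;> simp [cross_apply] at hv ⊢ <;> grind

lemma cross_ne_zero_of_dot {u v φ : Fin 3 → F} (hu : u ≠ 0) (h1 : φ ⬝ᵥ u = 0) (h2 : φ ⬝ᵥ v ≠ 0) :
    u ⨯₃ v ≠ 0 := fun h => by
  obtain ⟨c, rfl⟩ := par_of_cross hu h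
  exact h2 (by rw [dotProduct_smul, h1, smul_zero])

section generation

variable [DecidableEq F]

/-- The subgroup contains the transvection with centre `u` and axis `φ`. -/
def Tr (M : Subgroup (GL (Fin 3) F)) (u φ : Fin 3 → F) : Prop := φ ⬝ᵥ u = 0 ∧ tvGL u φ ∈ M

/-- All transvections with axis `φ` are present. -/
def Full (M : Subgroup (GL (Fin 3) F)) (φ : Fin 3 → F) : Prop := ∀ v, φ ⬝ᵥ v = 0 → tvGL v φ ∈ M

variable {M : Subgroup (GL (Fin 3) F)}

lemma tvGL_move {u φ : Fin 3 → F} (h : φ ⬝ᵥ u = 0) (c : F) : tvGL u (c • φ) = tvGL (c • u) φ :=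
  gl_ext_mulVec fun x => by
    rw [tvGL_mulVec (by rw [smul_dotProduct, h, smul_zero]), tvGL_mulVec (by rw [dotProduct_smul, h,
      smul_zero]), smul_dotProduct, smul_smul, smul_eq_mul, mul_comm]

lemma tvGL_add_centre {u v φ : Fin 3 → F} (h : φ ⬝ᵥ u = 0) (h' : φ ⬝ᵥ v = 0) :
    tvGL u φ * tvGL v φ = tvGL (u + v) φ :=
  gl_ext_mulVec fun x => by
    rw [gl_mulVec_mul, tvGL_mulVec h', tvGL_mulVec h, tvGL_mulVec (by rw [dotProduct_add, h, h', add_zero]),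
      dotProduct_add, dotProduct_smul, h', smul_zero, add_zero, smul_add]
    abel

lemma tvGL_zero_left (φ : Fin 3 → F) : tvGL (0 : Fin 3 → F) φ = 1 :=
  gl_ext_mulVec fun x => by rw [tvGL_mulVec (by simp), smul_zero, add_zero, Units.val_one, one_mulVec]

variable (hprime : ∀ a : F, ∃ n : ℕ, (n : F) = a)
include hprime

lemma Tr.smul {u φ : Fin 3 → F} (h : Tr M u φ) (a : F) : Tr M (a • u) φ := by
  obtain ⟨n, rfl⟩ := hprime a
  induction n with
  | zero => exact ⟨by simp, by rw [Nat.cast_zero, zero_smul, tvGL_zero_left]; exact M.one_mem⟩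
  | succ n ih =>
    refine ⟨by rw [dotProduct_smul, h.1, smul_zero], ?_⟩
    rw [Nat.cast_succ, add_smul, one_smul, ← tvGL_add_centre ih.1 h.1]
    exact M.mul_mem ih.2 h.2

lemma Tr.add {u v φ : Fin 3 → F} (h : Tr M u φ) (h' : Tr M v φ) : Tr M (u + v) φ :=
  ⟨by rw [dotProduct_add, h.1, h'.1, add_zero], tvGL_add_centre h.1 h'.1 ▸ M.mul_mem h.2 h'.2⟩

omit hprime in
lemma Tr.conj {u φ : Fin 3 → F} (h : Tr M u φ) {g : GL (Fin 3) F} (hg : g ∈ M) :
    Tr M ((g : Matrix (Fin 3) (Fin 3) F) *ᵥ u)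
      (φ ᵥ* ((g⁻¹ : GL (Fin 3) F) : Matrix (Fin 3) (Fin 3) F)) := by
  have hd : (φ ᵥ* ((g⁻¹ : GL (Fin 3) F) : Matrix (Fin 3) (Fin 3) F)) ⬝ᵥ
      ((g : Matrix (Fin 3) (Fin 3) F) *ᵥ u) = 0 := by
    rw [← dotProduct_mulVec, gl_inv_mulVec_mulVec, h.1]
  refine ⟨hd, ?_⟩
  convert M.mul_mem (M.mul_mem hg h.2) (M.inv_mem hg) using 1
  refine gl_ext_mulVec fun x => ?_
  rw [gl_mulVec_mul, gl_mulVec_mul, tvGL_mulVec hd, tvGL_mulVec h.1, mulVec_add, mulVec_smul,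
    gl_mulVec_inv_mulVec, dotProduct_mulVec]

omit hprime in
lemma vecMul_tv_inv {u φ ψ : Fin 3 → F} (h : φ ⬝ᵥ u = 0) :
    ψ ᵥ* ((tvGL u φ)⁻¹ : GL (Fin 3) F) = ψ - (ψ ⬝ᵥ u) • φ := by
  have hinv : (tvGL u φ)⁻¹ = tvGL (-u) φ := by
    rw [inv_eq_iff_mul_eq_one, tvGL_add_centre h (by simp [h]), add_neg_cancel, tvGL_zero_left]
  rw [hinv, coe_tvGL (by simp [h]), Matrix.vecMul_add, Matrix.vecMul_one, vecMul_vecMulVec,
    dotProduct_neg, neg_smul, sub_eq_add_neg]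

/-- Two transvections, the centre of the second in the axis of the first but not conversely. -/
lemma full_of_half {u₁ u₂ φ₁ φ₂ : Fin 3 → F} (h1 : Tr M u₁ φ₁) (h2 : Tr M u₂ φ₂) (hu2 : u₂ ≠ 0)
    (hf1 : φ₁ ≠ 0) (ha : φ₁ ⬝ᵥ u₂ = 0) (hb : φ₂ ⬝ᵥ u₁ ≠ 0) : Full M φ₁ := by
  have hc := h1.conj h2.2
  rw [tvGL_mulVec h2.1, vecMul_tv_inv h2.1, ha, zero_smul, sub_zero] at hc
  have h12 : Tr M u₂ φ₁ := by
    have := (hc.add (hprime := hprime) (h1.smul hprime (-1))).smul hprime (φ₂ ⬝ᵥ u₁)⁻¹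
    convert this using 1
    ext i
    simp only [Pi.smul_apply, Pi.add_apply, smul_eq_mul]
    field_simp
    ring
  intro v hv
  obtain ⟨a, b, rfl⟩ := comb_of_ann
    (by rw [← cross_anticomm, neg_ne_zero]; exact cross_ne_zero_of_dot hu2 h2.1 hb) hf1 h1.1 ha hv
  exact ((h1.smul hprime a).add (hprime := hprime) (h12.smul hprime b)).2

omit hprime in
lemma Full.conj {φ : Fin 3 → F} (h : Full M φ) {g : GL (Fin 3) F} (hg : g ∈ M) :
    Full M (φ ᵥ* ((g⁻¹ : GL (Fin 3) F) : Matrix (Fin 3) (Fin 3) F)) := fun v hv => by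
  have hv' : φ ⬝ᵥ (((g⁻¹ : GL (Fin 3) F) : Matrix (Fin 3) (Fin 3) F) *ᵥ v) = 0 := by
    rw [dotProduct_mulVec, hv]
  simpa using (Tr.conj (⟨hv', h _ hv'⟩ : Tr M _ φ) hg).2

omit hprime in
lemma Full.smul {φ : Fin 3 → F} (h : Full M φ) (c : F) : Full M (c • φ) := fun v hv => by
  rcases eq_or_ne c 0 with rfl | hc
  · rw [zero_smul, tvGL_zero_right]; exact M.one_mem
  rw [smul_dotProduct, smul_eq_mul, mul_eq_zero, or_iff_right hc] at hv
  rw [tvGL_move hv]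
  exact h _ (by rw [dotProduct_smul, hv, smul_zero])

omit hprime in
/-- The pencil through two full axes. -/
lemma Full.pencil {φ φ' v : Fin 3 → F} (h : Full M φ) (h' : Full M φ') (hv' : φ' ⬝ᵥ v = 0)
    (hv : φ ⬝ᵥ v ≠ 0) (a b : F) : Full M (a • φ + b • φ') := by
  rcases eq_or_ne a 0 with rfl | ha
  · rw [zero_smul, zero_add]; exact h'.smul b
  set c : F := -(b / a / (φ ⬝ᵥ v)) with hc
  have hcv : φ' ⬝ᵥ (c • v) = 0 := by rw [dotProduct_smul, hv', smul_zero]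
  have := (h.conj (h' _ hcv)).smul a
  rw [vecMul_tv_inv hcv, dotProduct_smul, smul_eq_mul, hc] at this
  convert this using 1
  ext i
  simp only [Pi.smul_apply, Pi.add_apply, Pi.sub_apply, smul_eq_mul]
  field_simp
  ring

omit hprime in
/-- The orbit of a vector avoids every plane. -/
def Sep (M : Subgroup (GL (Fin 3) F)) : Prop :=
  ∀ u φ : Fin 3 → F, u ≠ 0 → φ ≠ 0 → ∃ g ∈ M, φ ⬝ᵥ ((g : Matrix (Fin 3) (Fin 3) F) *ᵥ u) ≠ 0

lemma exists_full (hs : Sep M) {u φ : Fin 3 → F} (h : Tr M u φ) (hu : u ≠ 0) (hφ : φ ≠ 0) :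
    ∃ χ, χ ≠ 0 ∧ Full M χ := by
  obtain ⟨g, hg, h12⟩ := hs u φ hu hφ
  have h2 := h.conj hg
  set u₂ := (g : Matrix (Fin 3) (Fin 3) F) *ᵥ u with hu₂
  set φ₂ := φ ᵥ* ((g⁻¹ : GL (Fin 3) F) : Matrix (Fin 3) (Fin 3) F) with hφ₂
  have hu2 : u₂ ≠ 0 := gl_mulVec_ne_zero g hu
  have hf2 : φ₂ ≠ 0 := fun e => hφ (by
    have : φ₂ ᵥ* (g : Matrix (Fin 3) (Fin 3) F) = φ := by
      rw [hφ₂, vecMul_vecMul, ← Units.val_mul, inv_mul_cancel, Units.val_one, vecMul_one]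
    rw [← this, e, zero_vecMul])
  by_cases h21 : φ₂ ⬝ᵥ u = 0
  · exact ⟨φ₂, hf2, full_of_half hprime h2 h hu hf2 h21 h12⟩
  have hn : u ⨯₃ u₂ ≠ 0 := cross_ne_zero_of_dot hu h.1 h12
  obtain ⟨g', hg', h3n⟩ := hs u (u ⨯₃ u₂) hu hn
  have h3 := h.conj hg'
  set u₃ := (g' : Matrix (Fin 3) (Fin 3) F) *ᵥ u with hu₃
  set φ₃ := φ ᵥ* ((g'⁻¹ : GL (Fin 3) F) : Matrix (Fin 3) (Fin 3) F) with hφ₃
  have hu3 : u₃ ≠ 0 := gl_mulVec_ne_zero g' hu
  have hf3 : φ₃ ≠ 0 := fun e => hφ (by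
    have : φ₃ ᵥ* (g' : Matrix (Fin 3) (Fin 3) F) = φ := by
      rw [hφ₃, vecMul_vecMul, ← Units.val_mul, inv_mul_cancel, Units.val_one, vecMul_one]
    rw [← this, e, zero_vecMul])
  obtain ⟨v, χ, hv, hv3, hvn⟩ : ∃ v χ : Fin 3 → F, Tr M v χ ∧ φ₃ ⬝ᵥ v = 0 ∧
      ((u ⨯₃ u₂) ⬝ᵥ v = 0 ∧ v ≠ 0 ∧ χ ≠ 0) := by
    by_cases h32 : φ₃ ⬝ᵥ u₂ = 0
    · exact ⟨u₂, φ₂, h2, h32, by rw [dotProduct_comm, dot_cross_self], hu2, hf2⟩
    set a : F := -(φ₃ ⬝ᵥ u) / ((φ₃ ⬝ᵥ u₂) * (φ₂ ⬝ᵥ u))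
    have hc := h.conj (h2.smul hprime a).2
    rw [tvGL_mulVec (h2.smul hprime a).1, vecMul_tv_inv (h2.smul hprime a).1] at hc
    refine ⟨_, _, hc, ?_, ?_, ?_, ?_⟩
    · simp only [dotProduct_add, dotProduct_smul, smul_eq_mul, a]
      field_simp
      ring
    · simp only [dotProduct_add, dotProduct_smul]
      rw [dotProduct_comm (u ⨯₃ u₂) u, dot_self_cross, dotProduct_comm (u ⨯₃ u₂) u₂, dot_cross_self]
      simp
    · intro e
      have : φ ⬝ᵥ (u + (φ₂ ⬝ᵥ u) • a • u₂) = 0 := by rw [e, dotProduct_zero]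
      rw [dotProduct_add, h.1, zero_add, dotProduct_smul, dotProduct_smul, smul_eq_mul, smul_eq_mul,
        mul_eq_zero, or_iff_right h21, mul_eq_zero, or_iff_left h12] at this
      rw [this, zero_smul, smul_zero, add_zero] at e
      exact hu e
    · intro e
      have : (φ - (φ ⬝ᵥ a • u₂) • φ₂) ⬝ᵥ u = 0 := by rw [e, zero_dotProduct]
      rw [sub_dotProduct, h.1, smul_dotProduct, smul_eq_mul, zero_sub, neg_eq_zero, mul_eq_zero,
        or_iff_left h21] at this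
      rw [this, zero_smul, sub_zero] at e
      exact hφ e
  obtain ⟨hvn, hv0, hχ⟩ := hvn
  by_cases hχ3 : χ ⬝ᵥ u₃ = 0
  swap
  · exact ⟨φ₃, hf3, full_of_half hprime h3 hv hv0 hf3 hv3 hχ3⟩
  have hvu : v ⨯₃ u₃ ≠ 0 := cross_ne_zero_of_dot hv0 hvn h3n
  obtain ⟨c₁, hc1⟩ := ann_par hvu hv.1 hχ3
  obtain ⟨c₃, hc3⟩ := ann_par hvu hv3 h3.1
  have hc3' : c₃ ≠ 0 := fun e => hf3 (by rw [hc3, e, zero_smul])
  have hc1' : c₁ ≠ 0 := fun e => hχ (by rw [hc1, e, zero_smul])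
  have hv' : Tr M ((c₁ / c₃) • v) φ₃ := by
    refine ⟨by rw [dotProduct_smul, hv3, smul_zero], ?_⟩
    rw [← tvGL_move hv3]
    convert hv.2 using 2
    rw [hc1, hc3, smul_smul, div_mul_cancel₀ _ hc3']
  refine ⟨φ₃, hf3, fun x hx => ?_⟩
  obtain ⟨a, b, rfl⟩ := comb_of_ann hvu hf3 hv3 h3.1 hx
  have := (hv'.smul hprime (a * c₃ / c₁)).add (hprime := hprime) (h3.smul hprime b)
  convert this.2 using 3
  rw [smul_smul]
  congr 2
  field_simp

omit hprime in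
lemma sl_le_of_full (hs : Sep M) {φ : Fin 3 → F} (hφ : φ ≠ 0) (h : Full M φ) :
    Cfsg.Geo.specialLinear (Fin 3) F ≤ M := by
  obtain ⟨u, hu0, hu⟩ : ∃ u : Fin 3 → F, u ≠ 0 ∧ φ ⬝ᵥ u = 0 := by
    by_cases h0 : φ 0 = 0
    · exact ⟨Pi.single 0 1, by simp, by simp [dotProduct_single, h0]⟩
    · refine ⟨Pi.single 0 (φ 1) - Pi.single 1 (φ 0), fun e => h0 (by simpa using congrFun e 1), ?_⟩
      simp [dotProduct_sub, dotProduct_single, mul_comm]
  obtain ⟨g, hg, hgu⟩ := hs u φ hu0 hφ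
  set φ' := φ ᵥ* ((g⁻¹ : GL (Fin 3) F) : Matrix (Fin 3) (Fin 3) F) with hφ'
  have h' : Full M φ' := h.conj hg
  have hv' : φ' ⬝ᵥ ((g : Matrix (Fin 3) (Fin 3) F) *ᵥ u) = 0 := by
    rw [hφ', ← dotProduct_mulVec, gl_inv_mulVec_mulVec, hu]
  have hne' : φ' ≠ 0 := fun e => hφ (by
    have : φ' ᵥ* (g : Matrix (Fin 3) (Fin 3) F) = φ := by
      rw [hφ', vecMul_vecMul, ← Units.val_mul, inv_mul_cancel, Units.val_one, vecMul_one]
    rw [← this, e, zero_vecMul])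
  have hq : φ' ⨯₃ φ ≠ 0 :=
    cross_ne_zero_of_dot (φ := (g : Matrix (Fin 3) (Fin 3) F) *ᵥ u) hne'
      (by rw [dotProduct_comm, hv']) (by rwa [dotProduct_comm])
  set q := φ' ⨯₃ φ with hq'
  obtain ⟨g₂, hg₂, hg₂q⟩ := hs q φ hq hφ
  set φ'' := φ ᵥ* (g₂ : Matrix (Fin 3) (Fin 3) F) with hφ''
  have h'' : Full M φ'' := by simpa using h.conj (M.inv_mem hg₂)
  have hqq : φ'' ⬝ᵥ q ≠ 0 := by rwa [hφ'', ← dotProduct_mulVec]
  have hall : ∀ ψ, Full M ψ := by
    intro ψ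
    set c : F := (ψ ⬝ᵥ q) / (φ'' ⬝ᵥ q) with hc
    set ψ₀ := ψ - c • φ'' with hψ₀
    have hψq : ψ₀ ⬝ᵥ q = 0 := by
      rw [hψ₀, sub_dotProduct, smul_dotProduct, smul_eq_mul, hc, div_mul_cancel₀ _ hqq, sub_self]
    obtain ⟨a, b, hab⟩ := comb_of_ann hq hq (φ := q) (v := ψ₀) (by rw [dotProduct_comm, dot_self_cross])
      (by rw [dotProduct_comm, dot_cross_self]) (by rw [dotProduct_comm, hψq])
    have h0 : Full M ψ₀ := by
      rw [hab, add_comm]; exact h.pencil h' hv' hgu b a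
    have hψ : ψ = (1 : F) • ψ₀ + c • φ'' := by rw [one_smul, hψ₀, sub_add_cancel]
    by_cases hz : ψ₀ = 0
    · rw [hψ, hz, smul_zero, zero_add]; exact h''.smul c
    obtain ⟨k, hk⟩ := Function.ne_iff.1 hz
    rw [hψ]
    refine h0.pencil h'' (v := (φ'' ⬝ᵥ q) • Pi.single k 1 - φ'' k • q) ?_ ?_ 1 c
    · simp [dotProduct_sub, dotProduct_smul, dotProduct_single, mul_comm]
    · simpa [dotProduct_sub, dotProduct_smul, dotProduct_single, hψq] using ⟨hqq, hk⟩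
  exact sl_le_of_tvGL fun u φ h => hall φ u h

end generation

lemma sep_of_mem {w : F} {hw : w ^ 2 + w + 1 = 0} (h3 : (3 : F) ≠ 0) {M : Subgroup (GL (Fin 3) F)}
    (hX : Mem M (mX w hw)) (hY : Mem M (mY w hw)) : Sep M := by
  intro u φ hu hφ
  by_contra hcon
  push Not at hcon
  obtain ⟨x, hx, hxe⟩ := hX
  obtain ⟨y, hy, hye⟩ := hY
  have hA : ∀ u' : Fin 3 → F, (∀ g ∈ M, φ ⬝ᵥ ((g : Matrix (Fin 3) (Fin 3) F) *ᵥ u') = 0) →
      ∀ i, φ i * u' i = 0 := by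
    intro u' h
    have e0 := h 1 M.one_mem
    have e1 := h x hx
    have e2 := h (x * x) (M.mul_mem hx hx)
    simp [Units.val_mul, hxe, mX_eq, dotProduct, Fin.sum_univ_three, Matrix.mulVec,
      Matrix.mul_apply] at e0 e1 e2
    have a0 : (3 : F) * (φ 0 * u' 0) = 0 := by grind
    have a1 : (3 : F) * (φ 1 * u' 1) = 0 := by grind
    have a2 : (3 : F) * (φ 2 * u' 2) = 0 := by grind
    intro i
    fin_cases i
    exacts [(mul_eq_zero.1 a0).resolve_left h3, (mul_eq_zero.1 a1).resolve_left h3,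
      (mul_eq_zero.1 a2).resolve_left h3]
  have b0 := hA u hcon
  have hu1 := hA ((y : Matrix (Fin 3) (Fin 3) F) *ᵥ u) fun g hg => by
    rw [mulVec_mulVec, ← Units.val_mul]; exact hcon _ (M.mul_mem hg hy)
  have hu2 := hA (((y * y : GL (Fin 3) F) : Matrix (Fin 3) (Fin 3) F) *ᵥ u) fun g hg => by
    rw [mulVec_mulVec, ← Units.val_mul]; exact hcon _ (M.mul_mem hg (M.mul_mem hy hy))
  obtain ⟨i, hi⟩ := Function.ne_iff.1 hφ
  obtain ⟨j, hj⟩ := Function.ne_iff.1 hu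
  simp at hi hj
  have c0 := (mul_eq_zero.1 (b0 i)).resolve_left hi
  have c1 := (mul_eq_zero.1 (hu1 i)).resolve_left hi
  have c2 := (mul_eq_zero.1 (hu2 i)).resolve_left hi
  rw [Units.val_mul] at c2
  clear hcon hA b0 hu1 hu2 hx hy hxe
  rw [hye] at c1 c2
  simp [mY, iY, E2.ev_apply, Matrix.mulVec, dotProduct, Fin.sum_univ_three, Matrix.mul_apply] at c0 c1 c2
  fin_cases i <;> fin_cases j <;> simp_all

lemma exists_transvection [DecidableEq F] (g : GL (Fin 3) F) (hg : g ≠ 1)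
    (h : ((g : Matrix (Fin 3) (Fin 3) F) - 1) * ((g : Matrix (Fin 3) (Fin 3) F) - 1) = 0) :
    ∃ u φ : Fin 3 → F, u ≠ 0 ∧ φ ≠ 0 ∧ φ ⬝ᵥ u = 0 ∧ tvGL u φ = g := by
  set N := (g : Matrix (Fin 3) (Fin 3) F) - 1 with hN
  have hN0 : N ≠ 0 := fun e => hg (Units.ext (sub_eq_zero.1 e))
  obtain ⟨u, φ, hNe⟩ : ∃ u φ : Fin 3 → F, N = vecMulVec u φ := by
    obtain ⟨z, hz⟩ : ∃ z, N *ᵥ z ≠ 0 := by
      by_contra hc
      push Not at hc
      exact hN0 (Matrix.ext_of_mulVec_single fun j => by rw [hc, zero_mulVec])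
    by_cases hpar : ∀ x, (N *ᵥ z) ⨯₃ (N *ᵥ x) = 0
    · choose c hc using fun j => par_of_cross hz (hpar (Pi.single j 1))
      refine ⟨N *ᵥ z, c, ?_⟩
      ext i j
      have := congrFun (hc j) i
      simp only [Matrix.mulVec_single_one, Pi.smul_apply, smul_eq_mul] at this
      rw [vecMulVec_apply, mul_comm, ← this]
      rfl
    · push Not at hpar
      obtain ⟨x, hx⟩ := hpar
      have hk : ∀ y i, (N i) ⬝ᵥ (N *ᵥ y) = 0 := fun y i => by
        change (N *ᵥ (N *ᵥ y)) i = 0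
        rw [mulVec_mulVec, h, zero_mulVec, Pi.zero_apply]
      choose c hc using fun i => ann_par hx (hk z i) (hk x i)
      exact ⟨c, _, Matrix.ext fun i j => by rw [vecMulVec_apply]; exact congrFun (hc i) j⟩
  have hu : u ≠ 0 := fun e => hN0 (by rw [hNe, e, zero_vecMulVec])
  have hf : φ ≠ 0 := fun e => hN0 (by rw [hNe, e, vecMulVec_zero])
  have hd : φ ⬝ᵥ u = 0 := by
    rw [hNe, vecMulVec_mul_vecMulVec] at h
    by_contra hne
    obtain ⟨i, hi⟩ := Function.ne_iff.1 hu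
    obtain ⟨j, hj⟩ := Function.ne_iff.1 hf
    simp at hi hj
    have := congrFun (congrFun h i) j
    simp [vecMulVec_apply, hne, hi, hj] at this
  refine ⟨u, φ, hu, hf, hd, Units.ext ?_⟩
  rw [coe_tvGL hd, ← hNe, hN, add_sub_cancel]

/-- The transvection step. -/
theorem sl_le_of_transvection [Fintype F] (hp : (Fintype.card F).Prime) {w : F}
    {hw : w ^ 2 + w + 1 = 0} (h3 : (3 : F) ≠ 0) {M : Subgroup (GL (Fin 3) F)}
    (hX : Mem M (mX w hw)) (hY : Mem M (mY w hw)) {g : GL (Fin 3) F} (hgM : g ∈ M) (hg : g ≠ 1)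
    (h : ((g : Matrix (Fin 3) (Fin 3) F) - 1) * ((g : Matrix (Fin 3) (Fin 3) F) - 1) = 0) :
    Cfsg.Geo.specialLinear (Fin 3) F ≤ M := by
  classical
  haveI := Fact.mk hp
  haveI : CharP F (Fintype.card F) := charP_of_card_eq_prime rfl
  have hprime : ∀ a : F, ∃ n : ℕ, (n : F) = a := fun a => by
    obtain ⟨b, rfl⟩ := (ZMod.castHom_bijective F rfl).2 a
    exact ⟨b.val, by rw [← map_natCast (ZMod.castHom (dvd_refl (Fintype.card F)) F), ZMod.natCast_zmod_val]⟩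
  obtain ⟨u, φ, hu, hφ, hd, rfl⟩ := exists_transvection g hg h
  have hs := sep_of_mem h3 hX hY
  obtain ⟨χ, hχ, hfull⟩ := exists_full hprime hs ⟨hd, hgM⟩ hu hφ
  exact sl_le_of_full hs hχ hfull

section normalForm

open Cfsg.Geo

variable {w : F} {hw : w ^ 2 + w + 1 = 0}

lemma mY_entries : mY w hw = !![0, 0, 1; 1, 0, 0; 0, 1, 0] := by
  ext i j
  fin_cases i <;> fin_cases j <;> simp [mY, iY, E2.ev_apply]

lemma mY_pow_three : mY w hw ^ 3 = 1 := by
  rw [pow_succ, pow_two, mY_entries]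
  ext i j
  fin_cases i <;> fin_cases j <;> simp [Matrix.mul_apply, Fin.sum_univ_three]

lemma mY_mul_mX : mY w hw * mX w hw = w ^ 2 • (mX w hw * mY w hw) := by
  rw [mX_eq, mY_entries]
  ext i j
  fin_cases i <;> fin_cases j <;> simp [Matrix.mul_apply, Fin.sum_univ_three] <;> grind

lemma mY_pow_mul_mX_pow (j k : ℕ) :
    mY w hw ^ k * mX w hw ^ j = w ^ (2 * j * k) • (mX w hw ^ j * mY w hw ^ k) := by
  have h1 : ∀ j : ℕ, mY w hw * mX w hw ^ j = w ^ (2 * j) • (mX w hw ^ j * mY w hw) := fun j => by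
    induction j with
    | zero => simp
    | succ j ih =>
      rw [pow_succ, ← mul_assoc, ih, smul_mul_assoc, mul_assoc, mY_mul_mX, mul_smul_comm, smul_smul,
        ← mul_assoc, ← pow_add]
      congr 2
  induction k with
  | zero => simp
  | succ k ih =>
    rw [pow_succ (mY w hw) k, mul_assoc, h1, mul_smul_comm, ← mul_assoc, ih, smul_mul_assoc, smul_smul,
      ← pow_add, mul_assoc (mX w hw ^ j)]
    congr 2
    ring

lemma mW_mul_mX : mW w hw * mX w hw = mY w hw * mY w hw * mW w hw := by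
  rw [mW_eq, mX_eq, mY_entries]
  ext i j
  fin_cases i <;> fin_cases j <;> simp [Matrix.mul_apply, Fin.sum_univ_three] <;> grind

lemma mW_mul_mY : mW w hw * mY w hw = mX w hw * mW w hw := by
  rw [mW_eq, mX_eq, mY_entries]
  ext i j
  fin_cases i <;> fin_cases j <;> simp [Matrix.mul_apply, Fin.sum_univ_three] <;> grind

lemma mV_mul_mX : mV w hw * mX w hw = w ^ 2 • (mX w hw * (mY w hw * mY w hw)) * mV w hw := by
  rw [mV_eq, mX_eq, mY_entries]
  ext i j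
  fin_cases i <;> fin_cases j <;> simp [Matrix.mul_apply, Fin.sum_univ_three] <;> grind

lemma mV_mul_mY :
    mV w hw * mY w hw = w • (mX w hw * mX w hw * (mY w hw * mY w hw)) * mV w hw := by
  rw [mV_eq, mX_eq, mY_entries]
  ext i j
  fin_cases i <;> fin_cases j <;> simp [Matrix.mul_apply, Fin.sum_univ_three] <;> grind

lemma det_mW (h : 1 + 2 * w ≠ 0) : (mW w hw).det = 1 := by
  rw [mW_eq, Matrix.det_smul, Fintype.card_fin, inv_pow, inv_mul_eq_one₀ (pow_ne_zero 3 h)]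
  simp [Matrix.det_fin_three]
  grind

lemma det_mV (h : 1 + 2 * w ≠ 0) : (mV w hw).det = 1 := by
  rw [mV_eq, Matrix.det_smul, Fintype.card_fin, inv_pow, inv_mul_eq_one₀ (pow_ne_zero 3 h)]
  simp [Matrix.det_fin_three]
  grind

set_option maxHeartbeats 1000000 in
lemma exists_diag_form (h3 : (3 : F) ≠ 0) {G : Matrix (Fin 3) (Fin 3) F}
    (hcom : mX w hw * G = G * mX w hw) (hG : G ^ 3 = 1) (hGY : (G * mY w hw) ^ 3 = 1) :
    ∃ i j : ℕ, G = w ^ i • mX w hw ^ j := by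
  have hw2 : w ≠ -1 - w := fun h => h3 (by linear_combination 4 * hw - (2 * w + 1) * h)
  have hw3 : (1 : F) ≠ -1 - w := fun h => h3 (by linear_combination hw - (w - 1) * h)
  have hne : ∀ i j : Fin 3, i ≠ j → G i j = 0 := by
    intro i j hij
    have := congrFun (congrFun hcom i) j
    rw [mX_eq] at this
    fin_cases i <;> fin_cases j <;> simp [Matrix.mul_apply, Fin.sum_univ_three] at this hij ⊢ <;> grind
  have hd : G = diagonal fun i => G i i := by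
    ext i j
    by_cases h : i = j
    · subst h; simp
    · rw [hne i j h, diagonal_apply_ne _ h]
  rw [hd, diagonal_pow] at hG
  have h0 := congrFun (congrFun hG 0) 0
  have h1 := congrFun (congrFun hG 1) 1
  simp at h0 h1
  rw [hd, mY_entries, pow_succ, pow_two] at hGY
  have hp := congrFun (congrFun hGY 0) 0
  simp [Matrix.mul_apply, Fin.sum_univ_three, diagonal] at hp
  have hroot : ∀ t : F, t ^ 3 = 1 → ∃ i : ℕ, t = w ^ i := fun t ht => by
    rcases cube_roots hw (show t * t * t = 1 by linear_combination ht) with h | h | h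
    exacts [⟨0, by simpa using h⟩, ⟨1, by simpa using h⟩, ⟨2, h⟩]
  obtain ⟨i, hi⟩ := hroot _ h0
  obtain ⟨j, hj⟩ := hroot (G 1 1 * G 0 0 * G 0 0) (by linear_combination (G 0 0 ^ 6) * h1 + (G 0 0 ^ 3 + 1) * h0)
  refine ⟨i, j, ?_⟩
  rw [show mX w hw = diagonal ![1, w, -1 - w] by
    rw [mX_eq]; ext i j; fin_cases i <;> fin_cases j <;> simp [diagonal], diagonal_pow, ← diagonal_smul]
  refine hd.trans (congrArg diagonal ?_)
  have e : (-1 - w) ^ j * w ^ j = 1 := by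
    rw [← mul_pow, show (-1 - w) * w = 1 by linear_combination -hw, one_pow]
  funext k
  fin_cases k <;> simp [← hi] <;> grind

set_option maxHeartbeats 1000000 in
/-- A basis in which a symplectic type group of degree three is the Heisenberg group. -/
theorem exists_normal_form [Fintype F] [DecidableEq F] {R : Subgroup (GL (Fin 3) F)}
    (hR : IsLinearSymplecticTypeData 3 R) :
    ∃ (w : F) (hw : w ^ 2 + w + 1 = 0) (P : GL (Fin 3) F),
      (∀ g : GL (Fin 3) F, g ∈ R ↔ ∃ i j k : ℕ, ((P⁻¹ * g * P : GL (Fin 3) F) : Matrix (Fin 3) (Fin 3) F) =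
        w ^ i • (mX w hw ^ j * mY w hw ^ k)) ∧
      ∀ A : Matrix (Fin 3) (Fin 3) F, A = mW w hw ∨ A = mV w hw →
        ∃ g ∈ subgroupNormalizer R ⊓ specialLinear (Fin 3) F,
          ((P⁻¹ * g * P : GL (Fin 3) F) : Matrix (Fin 3) (Fin 3) F) = A := by
  classical
  obtain ⟨⟨-, hpg, -, hexp⟩, ⟨hirr, hcomm⟩, p, e, hrp, ⟨-, hchar, -⟩, -⟩ := hR
  haveI : Fact (Nat.Prime 3) := ⟨Nat.prime_three⟩
  have h3 : (3 : F) ≠ 0 := by
    intro h
    haveI := hchar
    have hd : p ∣ 3 := (CharP.cast_eq_zero_iff F p 3).1 (by exact_mod_cast h)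
    rcases (Nat.dvd_prime Nat.prime_three).1 hd with h1 | h1
    · exact CharP.char_ne_one F p h1
    · exact hrp h1.symm
  have hcube : ∀ g ∈ R, (g : Matrix (Fin 3) (Fin 3) F) ^ 3 = 1 := fun g hg => by
    have h : (⟨g, hg⟩ : R) ^ 3 = 1 := by
      have := Monoid.pow_exponent_eq_one (⟨g, hg⟩ : R)
      rwa [hexp, show Nat.gcd 2 3 = 1 from rfl, mul_one] at this
    rw [← Units.val_pow_eq_pow_val, show g ^ 3 = 1 from congrArg Subtype.val h, Units.val_one]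
  -- central elements are scalars
  have hscal : ∀ z : R, z ∈ Subgroup.center R → ∃ c : F, c * c * c = 1 ∧
      ((z : GL (Fin 3) F) : Matrix (Fin 3) (Fin 3) F) = c • 1 := fun z hz => by
    obtain ⟨c, hc⟩ := hcomm _ (by
      rintro _ ⟨g, hg, rfl⟩
      exact (congrArg (fun y : R => ((y : GL (Fin 3) F) : Matrix (Fin 3) (Fin 3) F))
        (Subgroup.mem_center_iff.1 hz ⟨g, hg⟩)).symm)
    refine ⟨c, ?_, hc⟩
    have h := hcube _ z.2
    rw [hc, _root_.smul_pow, one_pow] at h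
    have := congrFun (congrFun h 0) 0
    simp at this
    linear_combination this
  have hna : Subgroup.center R ≠ ⊤ := fun htop => by
    set v : Fin 3 → F := Pi.single 0 1 with hv
    rcases hirr (Submodule.span F {v}) (by
      rintro _ ⟨g, hg, rfl⟩
      obtain ⟨c, -, hc⟩ := hscal ⟨g, hg⟩ (htop ▸ Subgroup.mem_top _)
      rw [Submodule.map_span, Set.image_singleton, Submodule.span_singleton_le_iff_mem,
        Submodule.mem_span_singleton]
      refine ⟨c, ?_⟩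
      dsimp only at hc ⊢
      rw [Matrix.toLin'_apply, hc, smul_mulVec, one_mulVec]) with h | h
    · rw [Submodule.span_singleton_eq_bot] at h
      simpa [hv] using congrFun h 0
    · have h1 : Pi.single (1 : Fin 3) (1 : F) ∈ Submodule.span F {v} := h ▸ Submodule.mem_top
      obtain ⟨a, ha⟩ := Submodule.mem_span_singleton.1 h1
      simpa [hv] using congrFun ha 1
  -- an element of the second centre
  have hx : ∃ x : R, x ∉ Subgroup.center R ∧ ∀ g : R, x * g * x⁻¹ * g⁻¹ ∈ Subgroup.center R := by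
    haveI : Nontrivial (R ⧸ Subgroup.center R) := QuotientGroup.nontrivial_iff.2 hna
    haveI := IsPGroup.center_nontrivial (hpg.to_quotient (Subgroup.center R))
    obtain ⟨q, hq⟩ := exists_ne (1 : Subgroup.center (R ⧸ Subgroup.center R))
    obtain ⟨x, hx⟩ := QuotientGroup.mk'_surjective (Subgroup.center R) (q : R ⧸ Subgroup.center R)
    refine ⟨x, fun h => hq (Subtype.ext ?_), fun g => ?_⟩
    · rw [← hx, Subgroup.coe_one, QuotientGroup.mk'_apply, (QuotientGroup.eq_one_iff x).2 h]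
    · rw [← QuotientGroup.eq_one_iff]
      have := Subgroup.mem_center_iff.1 q.2 (QuotientGroup.mk' _ g)
      rw [← hx] at this
      simp only [QuotientGroup.mk'_apply] at this
      simp only [QuotientGroup.mk_mul, QuotientGroup.mk_inv]
      rw [← this]
      group
  obtain ⟨x, hxc, hx⟩ := hx
  set X := ((x : GL (Fin 3) F) : Matrix (Fin 3) (Fin 3) F) with hX
  have hrel : ∀ g : R, ∃ c : F, c * c * c = 1 ∧ X * ((g : GL (Fin 3) F) : Matrix (Fin 3) (Fin 3) F) =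
      c • (((g : GL (Fin 3) F) : Matrix (Fin 3) (Fin 3) F) * X) ∧
      ((x * g * x⁻¹ * g⁻¹ : R) : GL (Fin 3) F).val = c • (1 : Matrix (Fin 3) (Fin 3) F) := fun g => by
    obtain ⟨c, hc, he⟩ := hscal _ (hx g)
    refine ⟨c, hc, ?_, he⟩
    calc X * ((g : GL (Fin 3) F) : Matrix (Fin 3) (Fin 3) F)
        = ((x * g : R) : GL (Fin 3) F).val := rfl
      _ = ((x * g * x⁻¹ * g⁻¹ * (g * x) : R) : GL (Fin 3) F).val := by congr 2; group
      _ = ((x * g * x⁻¹ * g⁻¹ : R) : GL (Fin 3) F).val *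
          (((g : GL (Fin 3) F) : Matrix (Fin 3) (Fin 3) F) * X) := rfl
      _ = _ := by rw [he, smul_mul_assoc, one_mul]
  obtain ⟨y, hy⟩ : ∃ y : R, x * y ≠ y * x := by
    by_contra h
    push Not at h
    exact hxc (Subgroup.mem_center_iff.2 fun g => (h g).symm)
  obtain ⟨w, hwc, hXY, hwR⟩ := hrel y
  have hw1 : w ≠ 1 := fun h => hy (Subtype.ext (Units.ext (by
    push_cast
    rw [h, one_smul] at hXY
    exact hXY)))
  have hw : w ^ 2 + w + 1 = 0 :=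
    (mul_eq_zero.1 (show (w - 1) * (w ^ 2 + w + 1) = 0 by linear_combination hwc)).resolve_left
      (sub_ne_zero.2 hw1)
  set Y := ((y : GL (Fin 3) F) : Matrix (Fin 3) (Fin 3) F) with hY
  -- a fixed vector of `X`
  obtain ⟨v, hv0, hv⟩ : ∃ v, v ≠ 0 ∧ X *ᵥ v = v := by
    have hz : (X - 1) * ((X - w • 1) * (X - w ^ 2 • 1)) = 0 := by
      have hX3 : X * X * X = 1 := by rw [← hcube _ x.2, pow_succ, pow_two]
      simp only [sub_mul, mul_sub, smul_mul_assoc, mul_smul_comm, mul_one, one_mul, smul_smul]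
      rw [← mul_assoc, hX3]
      match_scalars <;> grind
    have hshift : ∀ (l : F) (u : Fin 3 → F), u ≠ 0 → X *ᵥ u = l • u →
        Y *ᵥ u ≠ 0 ∧ X *ᵥ (Y *ᵥ u) = (w * l) • (Y *ᵥ u) := fun l u hu0 hu =>
      ⟨gl_mulVec_ne_zero _ hu0, by
        rw [mulVec_mulVec, hXY, smul_mulVec, ← mulVec_mulVec, hu, mulVec_smul, smul_smul]⟩
    have hd := congrArg Matrix.det hz
    rw [det_mul, det_mul, det_zero, mul_eq_zero, mul_eq_zero] at hd
    rcases hd with hd | hd | hd <;> obtain ⟨u, hu0, hu⟩ := Matrix.exists_mulVec_eq_zero_iff.2 hd <;>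
      simp only [sub_mulVec, one_mulVec, smul_mulVec, sub_eq_zero] at hu
    · exact ⟨u, hu0, hu⟩
    · obtain ⟨h1, h1'⟩ := hshift w u hu0 hu
      obtain ⟨h2, h2'⟩ := hshift _ _ h1 h1'
      exact ⟨_, h2, h2'.trans (by rw [show w * (w * w) = 1 by linear_combination hwc, one_smul])⟩
    · obtain ⟨h1, h1'⟩ := hshift _ u hu0 hu
      exact ⟨_, h1, h1'.trans (by rw [show w * w ^ 2 = 1 by linear_combination hwc, one_smul])⟩
  have hv1 : X *ᵥ (Y *ᵥ v) = w • (Y *ᵥ v) := by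
    rw [mulVec_mulVec, hXY, smul_mulVec, ← mulVec_mulVec, hv]
  have hv2 : X *ᵥ (Y *ᵥ (Y *ᵥ v)) = w ^ 2 • (Y *ᵥ (Y *ᵥ v)) := by
    rw [mulVec_mulVec, hXY, smul_mulVec, ← mulVec_mulVec, hv1, mulVec_smul, smul_smul, pow_two]
  have hv3 : Y *ᵥ (Y *ᵥ (Y *ᵥ v)) = v := by
    rw [mulVec_mulVec, mulVec_mulVec, ← pow_two, ← pow_succ, hcube _ y.2, one_mulVec]
  set B : Fin 3 → Fin 3 → F := ![v, Y *ᵥ v, Y *ᵥ (Y *ᵥ v)] with hB
  set Pm : Matrix (Fin 3) (Fin 3) F := Matrix.of fun i j => B j i with hPm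
  have hcol : ∀ (A : Matrix (Fin 3) (Fin 3) F) i j, (A * Pm) i j = (A *ᵥ B j) i := fun A i j => rfl
  have hXP : X * Pm = Pm * mX w hw := by
    ext i j
    rw [hcol, mX_eq]
    fin_cases j <;> simp [hB, hv, hv1, hv2, Matrix.mul_apply, Fin.sum_univ_three, hPm, -Matrix.mulVec_mulVec] <;> grind
  have hYP : Y * Pm = Pm * mY w hw := by
    ext i j
    rw [hcol, mY_entries]
    fin_cases j <;> simp [hB, hv3, Matrix.mul_apply, Fin.sum_univ_three, hPm, -Matrix.mulVec_mulVec]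
  have hdet : Pm.det ≠ 0 := fun h => by
    obtain ⟨a, ha0, ha⟩ := Matrix.exists_mulVec_eq_zero_iff.2 h
    have h1 : Pm *ᵥ (mX w hw *ᵥ a) = 0 := by rw [mulVec_mulVec, ← hXP, ← mulVec_mulVec, ha, mulVec_zero]
    have h2 : Pm *ᵥ (mX w hw *ᵥ (mX w hw *ᵥ a)) = 0 := by
      rw [mulVec_mulVec, ← hXP, ← mulVec_mulVec, h1, mulVec_zero]
    refine ha0 (funext fun j => ?_)
    obtain ⟨i, hi⟩ := Function.ne_iff.1 (show B j ≠ 0 by
      fin_cases j
      exacts [hv0, gl_mulVec_ne_zero _ hv0, gl_mulVec_ne_zero _ (gl_mulVec_ne_zero _ hv0)])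
    have e0 := congrFun ha i
    have e1 := congrFun h1 i
    have e2 := congrFun h2 i
    simp [mX_eq, Matrix.mulVec, dotProduct, Fin.sum_univ_three, hPm] at e0 e1 e2 hi
    refine (mul_eq_zero.1 (show (3 * B j i) * a j = 0 from ?_)).resolve_left (mul_ne_zero h3 hi)
    fin_cases j <;> simp <;> grind
  let P : GL (Fin 3) F := Matrix.GeneralLinearGroup.mkOfDetNeZero Pm hdet
  have hP : (P : Matrix (Fin 3) (Fin 3) F) = Pm := rfl
  set c : GL (Fin 3) F →* Matrix (Fin 3) (Fin 3) F :=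
    (Units.coeHom _).comp (MulAut.conj P⁻¹).toMonoidHom with hc
  have hcv : ∀ g, c g = ((P⁻¹ * g * P : GL (Fin 3) F) : Matrix (Fin 3) (Fin 3) F) := fun g => by
    simp [hc]
  have hcinj : Function.Injective c := Units.val_injective.comp (MulAut.conj P⁻¹).injective
  have hcP : ∀ (g : GL (Fin 3) F) (A : Matrix (Fin 3) (Fin 3) F),
      (g : Matrix (Fin 3) (Fin 3) F) * Pm = Pm * A → c g = A := fun g A h => by
    rw [hcv, Units.val_mul, Units.val_mul, mul_assoc, hP, h, ← mul_assoc, ← hP, ← Units.val_mul,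
      inv_mul_cancel, Units.val_one, one_mul]
  have hcX : c x = mX w hw := hcP _ _ hXP
  have hcY : c y = mY w hw := hcP _ _ hYP
  have hcw : c ((x * y * x⁻¹ * y⁻¹ : R) : GL (Fin 3) F) = w • 1 :=
    hcP _ _ (by rw [hwR, smul_mul_assoc, one_mul, mul_smul_comm, mul_one])
  set form : GL (Fin 3) F → Prop := fun g => ∃ i j k : ℕ,
    c g = w ^ i • (mX w hw ^ j * mY w hw ^ k) with hform
  have hbwd : ∀ g, form g → g ∈ R := fun g ⟨i, j, k, h⟩ => by
    have : g = ((x * y * x⁻¹ * y⁻¹ : R) : GL (Fin 3) F) ^ i *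
        ((x : GL (Fin 3) F) ^ j * (y : GL (Fin 3) F) ^ k) := hcinj (by
      rw [map_mul, map_mul, map_pow, map_pow, map_pow, hcX, hcY, hcw, h, _root_.smul_pow, one_pow,
        smul_mul_assoc, one_mul])
    rw [this]
    exact R.mul_mem (R.pow_mem (SetLike.coe_mem _) i) (R.mul_mem (R.pow_mem x.2 j) (R.pow_mem y.2 k))
  have hfwd : ∀ g ∈ R, form g := fun g hg => by
    obtain ⟨d, hd, hXg, -⟩ := hrel ⟨g, hg⟩
    have hG : mX w hw * c g = d • (c g * mX w hw) := by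
      rw [← hcX, ← map_mul, ← map_mul, hcv, hcv]
      simp only [Units.val_mul] at hXg ⊢
      simp only [← mul_assoc]
      rw [mul_assoc _ ((x : GL (Fin 3) F) : Matrix (Fin 3) (Fin 3) F), hXg, mul_smul_comm,
        smul_mul_assoc, mul_assoc _ (g : Matrix (Fin 3) (Fin 3) F)]
    obtain ⟨k, hk3, hk⟩ : ∃ k < 3, d = w ^ k := by
      rcases cube_roots hw hd with h | h | h
      exacts [⟨0, by norm_num, by simpa using h⟩, ⟨1, by norm_num, by simpa using h⟩, ⟨2, by norm_num, h⟩]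
    set G' := mY w hw ^ (3 - k) * c g with hG'
    have hcom : mX w hw * G' = G' * mX w hw := by
      have e := mY_pow_mul_mX_pow (w := w) (hw := hw) 1 (3 - k)
      rw [pow_one, mul_one] at e
      have hne : w ^ (2 * (3 - k)) ≠ 0 := pow_ne_zero _ (w_ne_zero hw)
      refine smul_right_injective _ hne ?_
      simp only
      rw [hG', ← mul_assoc, ← smul_mul_assoc, ← e, mul_assoc, hG, mul_smul_comm, ← mul_assoc, hk]
      congr 1
      interval_cases k <;> simp <;> grind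
    obtain ⟨g', hg', hge⟩ : ∃ g' ∈ R, c g' = G' :=
      ⟨_, R.mul_mem (R.pow_mem y.2 (3 - k)) hg, by rw [map_mul, map_pow, hcY]⟩
    have hc3 : ∀ h ∈ R, c h ^ 3 = 1 := fun h hh => by
      rw [← map_pow, hcv, show h ^ 3 = 1 from Units.ext (by rw [Units.val_pow_eq_pow_val, hcube _ hh,
        Units.val_one]), mul_one, inv_mul_cancel, Units.val_one]
    obtain ⟨i0, i1, hGX⟩ := exists_diag_form h3 hcom (hge ▸ hc3 g' hg')
      (by rw [← hge, ← hcY, ← map_mul]; exact hc3 _ (R.mul_mem hg' y.2))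
    refine ⟨i0 + 2 * i1 * k, i1, k, ?_⟩
    have : c g = mY w hw ^ k * G' := by
      rw [hG', ← mul_assoc, ← pow_add, show k + (3 - k) = 3 by omega, mY_pow_three, one_mul]
    rw [this, hGX, mul_smul_comm, mY_pow_mul_mX_pow, smul_smul, pow_add]
  refine ⟨w, hw, P, fun g => ?_, fun A hA => ?_⟩
  · simp only [← hcv]
    exact ⟨hfwd g, hbwd g⟩
  have hs : 1 + 2 * w ≠ 0 := fun h => h3 (by linear_combination 4 * hw - (2 * w + 1) * h)
  have hdA : A.det = 1 := by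
    rcases hA with rfl | rfl
    exacts [det_mW hs, det_mV hs]
  set a : GL (Fin 3) F := Matrix.GeneralLinearGroup.mkOfDetNeZero A (by rw [hdA]; exact one_ne_zero) with ha
  have hca : c (P * a * P⁻¹) = A := by
    rw [hcv, show P⁻¹ * (P * a * P⁻¹) * P = a by group]; rfl
  refine ⟨P * a * P⁻¹, ⟨?_, ?_⟩, by rw [← hcv]; exact hca⟩
  · set b := P * a * P⁻¹ with hb
    have hgen : ∃ s ∈ R, ∃ t ∈ R, A * mX w hw = c s * A ∧ A * mY w hw = c t * A := by
      rcases hA with rfl | rfl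
      · exact ⟨_, R.mul_mem y.2 y.2, _, x.2, by rw [map_mul, hcY, mW_mul_mX], by rw [hcX, mW_mul_mY]⟩
      · exact ⟨_, R.mul_mem (R.pow_mem (x * y * x⁻¹ * y⁻¹ : R).2 2) (R.mul_mem x.2 (R.mul_mem y.2 y.2)), _,
          R.mul_mem (x * y * x⁻¹ * y⁻¹ : R).2 (R.mul_mem (R.mul_mem x.2 x.2) (R.mul_mem y.2 y.2)),
          by simp only [map_mul, map_pow, hcX, hcY, hcw, _root_.smul_pow, one_pow, smul_mul_assoc, one_mul,
            mV_mul_mX],
          by simp only [map_mul, hcX, hcY, hcw, smul_mul_assoc, one_mul, mV_mul_mY]⟩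
    obtain ⟨s, hs, t, ht, hs', ht'⟩ := hgen
    have hx' : b * x * b⁻¹ = s := by
      rw [mul_inv_eq_iff_eq_mul]
      exact hcinj (by rw [map_mul c b, map_mul c s, hca, hcX, hs'])
    have hy' : b * y * b⁻¹ = t := by
      rw [mul_inv_eq_iff_eq_mul]
      exact hcinj (by rw [map_mul c b, map_mul c t, hca, hcY, ht'])
    refine Subgroup.mem_normalizer_fintype fun g hg => ?_
    obtain ⟨i, j, k, h⟩ := hfwd g hg
    have : g = ((x * y * x⁻¹ * y⁻¹ : R) : GL (Fin 3) F) ^ i *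
        ((x : GL (Fin 3) F) ^ j * (y : GL (Fin 3) F) ^ k) := hcinj (by
      rw [map_mul, map_mul, map_pow, map_pow, map_pow, hcX, hcY, hcw, h, _root_.smul_pow, one_pow,
        smul_mul_assoc, one_mul])
    obtain ⟨φ, hφ⟩ : ∃ φ : GL (Fin 3) F →* GL (Fin 3) F, ∀ z, φ z = b * z * b⁻¹ :=
      ⟨(MulAut.conj b).toMonoidHom, fun z => MulAut.conj_apply b z⟩
    rw [this, SetLike.mem_coe, Subgroup.coe_mul, Subgroup.coe_mul, Subgroup.coe_mul, Subgroup.coe_inv,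
      Subgroup.coe_inv, ← hφ]
    simp only [map_mul, map_pow, map_inv]
    rw [hφ x, hφ y, hx', hy']
    exact R.mul_mem (R.pow_mem (R.mul_mem (R.mul_mem (R.mul_mem hs ht) (R.inv_mem hs)) (R.inv_mem ht)) i)
      (R.mul_mem (R.pow_mem hs j) (R.pow_mem ht k))
  · show GeneralLinearGroup.det (P * a * P⁻¹) = 1
    simp only [map_mul, map_inv]
    rw [mul_comm (GeneralLinearGroup.det P), mul_assoc, mul_inv_cancel, mul_one]
    exact Units.ext hdA

end normalForm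

end CfsgLib.ClassicalMax.Hess
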