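import Cfsg.Agent.Lib.ClassicalMax.HessMax.Dihedral
import Cfsg.Agent.Lib.ClassicalMax.HessMax.Reduce
import Cfsg.Prelude.Def_GeometricClasses

/-!
The normaliser of an extraspecial group of order `27` is maximal in `SL₃(p)`, `p ≡ 1 (mod 3)`.
-/

set_option autoImplicit false
set_option linter.unusedSectionVars false
set_option linter.flexible false

namespace CfsgLib.ClassicalMax.Hess

open Matrix

variable {F : Type*} [Field F] {p : ℕ} [hp : Fact p.Prime] [CharP F p] {w : F} {hw : w ^ 2 + w + 1 = 0}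
  {M : Subgroup (GL (Fin 3) F)}

/-- determinant one and commuting with `mX`, `mY` up to scalars -/
def Mono (w : F) (hw : w ^ 2 + w + 1 = 0) (A : Matrix (Fin 3) (Fin 3) F) : Prop :=
  A.det = 1 ∧ (∃ c : F, A * mX w hw = c • (mX w hw * A)) ∧ ∃ d : F, A * mY w hw = d • (mY w hw * A)

lemma Mono.mul {A B : Matrix (Fin 3) (Fin 3) F} (hA : Mono w hw A) (hB : Mono w hw B) :
    Mono w hw (A * B) := by
  obtain ⟨a, ⟨c, hc⟩, ⟨d, hd⟩⟩ := hA
  obtain ⟨b, ⟨c', hc'⟩, ⟨d', hd'⟩⟩ := hB
  refine ⟨by rw [Matrix.det_mul, a, b, one_mul], ⟨c' * c, ?_⟩, ⟨d' * d, ?_⟩⟩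
  · rw [mul_assoc, hc', mul_smul_comm, ← mul_assoc, hc, smul_mul_assoc, smul_smul, mul_assoc]
  · rw [mul_assoc, hd', mul_smul_comm, ← mul_assoc, hd, smul_mul_assoc, smul_smul, mul_assoc]

lemma Mono.smul {A : Matrix (Fin 3) (Fin 3) F} {e : F} (he : e ^ 3 = 1) (hA : Mono w hw A) :
    Mono w hw (e • A) := by
  obtain ⟨a, ⟨c, hc⟩, ⟨d, hd⟩⟩ := hA
  refine ⟨by rw [Matrix.det_smul, a, Fintype.card_fin, he, one_mul], ⟨c, ?_⟩, ⟨d, ?_⟩⟩
  · rw [smul_mul_assoc, hc, mul_smul_comm, smul_comm]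
  · rw [smul_mul_assoc, hd, mul_smul_comm, smul_comm]

lemma mono_X : Mono w hw (mX w hw) :=
  ⟨det_mX, ⟨1, by rw [one_smul]⟩, ⟨w, mX_mY⟩⟩

lemma mono_Y : Mono w hw (mY w hw) :=
  ⟨det_mY, ⟨w ^ 2, mY_mX⟩, ⟨1, by rw [one_smul]⟩⟩

lemma mono_one : Mono w hw (1 : Matrix (Fin 3) (Fin 3) F) :=
  ⟨Matrix.det_one, ⟨1, by rw [one_mul, mul_one, one_smul]⟩, ⟨1, by rw [one_mul, mul_one, one_smul]⟩⟩

lemma Mono.pow {A : Matrix (Fin 3) (Fin 3) F} (hA : Mono w hw A) : ∀ n : ℕ, Mono w hw (A ^ n)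
  | 0 => by rw [pow_zero]; exact mono_one
  | n + 1 => by rw [pow_succ]; exact (Mono.pow hA n).mul hA

lemma mono_of_rset {A : Matrix (Fin 3) (Fin 3) F} (hA : RSet w hw A) : Mono w hw A := by
  obtain ⟨i, j, k, rfl⟩ := hA
  refine Mono.smul ?_ ((mono_X.pow _).mul (mono_Y.pow _))
  rw [← pow_mul, mul_comm, pow_mul, pow_succ, pow_two, w_cube hw, one_pow]

lemma rset_iff (h5 : 5 ≤ p) {A : Matrix (Fin 3) (Fin 3) F} : RSet w hw A ↔ Mono w hw A :=
  ⟨mono_of_rset, fun ⟨ha, ⟨_, hc⟩, ⟨_, hd⟩⟩ => cent_XY (p := p) h5 ha hc hd⟩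

/-- `diag (1, ω, ω)` -/
def gD (w : F) (hw : w ^ 2 + w + 1 = 0) : GL (Fin 3) F :=
  ⟨mD w hw, mD' w hw,
    by rw [mD, mD', ← Matrix.map_mul, iD_mul_iD', Matrix.map_one _ (map_zero _) (map_one _)],
    by rw [mD, mD', ← Matrix.map_mul, iD'_mul_iD, Matrix.map_one _ (map_zero _) (map_one _)]⟩

/-- the group conjugated by `gD` -/
def conjD (w : F) (hw : w ^ 2 + w + 1 = 0) (M : Subgroup (GL (Fin 3) F)) : Subgroup (GL (Fin 3) F) :=
  M.comap (MulAut.conj (gD w hw)).toMonoidHom

lemma val_conjD (g : GL (Fin 3) F) :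
    ((MulAut.conj (gD w hw)).toMonoidHom g : GL (Fin 3) F).val = mD w hw * g.val * mD' w hw := rfl

lemma mem_conjD {g : GL (Fin 3) F} : g ∈ conjD w hw M ↔ (MulAut.conj (gD w hw)).toMonoidHom g ∈ M :=
  Iff.rfl

lemma mem_conjD_of {A : Matrix (Fin 3) (Fin 3) F} (hA : Mem M (mD w hw * A * mD' w hw)) :
    Mem (conjD w hw M) A := by
  obtain ⟨g, hg, he⟩ := hA
  refine ⟨(gD w hw)⁻¹ * g * gD w hw, ?_, ?_⟩
  · rw [mem_conjD]
    show gD w hw * ((gD w hw)⁻¹ * g * gD w hw) * (gD w hw)⁻¹ ∈ M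
    rwa [show gD w hw * ((gD w hw)⁻¹ * g * gD w hw) * (gD w hw)⁻¹ = g by group]
  · show mD' w hw * (g : Matrix (Fin 3) (Fin 3) F) * mD w hw = A
    rw [he]
    have e1 : mD' w hw * mD w hw = 1 := (gD w hw).inv_val
    calc mD' w hw * (mD w hw * A * mD' w hw) * mD w hw
        = (mD' w hw * mD w hw) * A * (mD' w hw * mD w hw) := by simp only [mul_assoc]
      _ = A := by rw [e1, one_mul, mul_one]

lemma mD_mX : mD w hw * mX w hw * mD' w hw = mX w hw := by
  have e : iD * iX * iD' = iX := by decide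
  rw [mD, mD', mX, ← Matrix.map_mul, ← Matrix.map_mul, e]

lemma mD_mY : mD w hw * mY w hw * mD' w hw = w ^ 2 • (mX w hw * mX w hw * mY w hw) := by
  have e : iD * iY * iD' = (⟨-1, -1⟩ : E2) • (iX * iX * iY) := by decide
  rw [mD, mD', mX, mY, ← Matrix.map_mul, ← Matrix.map_mul, e, map_smul', Matrix.map_mul, Matrix.map_mul]
  congr 1
  simp [E2.ev_apply]
  linear_combination -hw

lemma mD_mV (h5 : 5 ≤ p) : mD w hw * mV w hw * mD' w hw = mW w hw * mV w hw := by
  have e : iW * (iD * iW * iD') = iS • (iD * (iD * iW * iD') * iD') := by decide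
  have hV : mV w hw = (E2.ev w hw iS)⁻¹ • (iD * iW * iD').map (E2.ev w hw) := by
    rw [mV, mW, mD, mD', Matrix.map_mul, Matrix.map_mul, mul_smul_comm, smul_mul_assoc]
  conv_rhs => rw [hV, mW, smul_mul_assoc, mul_smul_comm, smul_smul, ← Matrix.map_mul, e, map_smul',
    smul_smul, mul_assoc, inv_mul_cancel₀ (iS_ne (p := p) h5), mul_one]
  rw [hV, mD, mD', mul_smul_comm, smul_mul_assoc, ← Matrix.map_mul, ← Matrix.map_mul]

lemma Ctx.conjD (h : Ctx p w hw M) : Ctx p w hw (Hess.conjD w hw M) where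
  seven := h.seven
  det g hg := by
    have := h.det _ hg
    rw [val_conjD, Matrix.det_mul, Matrix.det_mul] at this
    have e : (mD w hw).det * (mD' w hw).det = 1 := by
      rw [← Matrix.det_mul, show mD w hw * mD' w hw = 1 from (gD w hw).val_inv, Matrix.det_one]
    linear_combination this - (g : Matrix (Fin 3) (Fin 3) F).det * e
  notv g hg hsq := by
    have := h.notv _ hg (by
      rw [val_conjD]
      have e : mD w hw * mD' w hw = 1 := (gD w hw).val_inv
      have e' : mD' w hw * mD w hw = 1 := (gD w hw).inv_val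
      calc (mD w hw * g.val * mD' w hw - 1) * (mD w hw * g.val * mD' w hw - 1)
          = (mD w hw * (g.val - 1) * mD' w hw) * (mD w hw * (g.val - 1) * mD' w hw) := by
            have hsub : mD w hw * (g.val - 1) * mD' w hw = mD w hw * g.val * mD' w hw - 1 := by
              rw [mul_sub, sub_mul, mul_one, e]
            rw [hsub]
        _ = mD w hw * ((g.val - 1) * ((mD' w hw * mD w hw) * (g.val - 1))) * mD' w hw := by
            simp only [mul_assoc]
        _ = 0 := by rw [e', one_mul, hsq, mul_zero, zero_mul])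
    exact (MulAut.conj (gD w hw)).injective (this.trans (map_one _).symm)
  memX := mem_conjD_of (by rw [mD_mX]; exact h.memX)
  memY := mem_conjD_of (by
    rw [mD_mY]
    have := Mem.mul (Mem.mul h.memZ h.memZ) (Mem.mul h.memX2 h.memY)
    rwa [smul_mul_assoc, one_mul, smul_smul, ← pow_two, smul_mul_assoc, one_mul] at this)
  memW := mem_conjD_of h.memV
  memV := mem_conjD_of (by rw [mD_mV (p := p) h.five]; exact Mem.mul h.memW h.memV)

lemma com_mD : Com (mD w hw) := com_iff.2 ⟨by simp [mD, iD], by simp [mD, iD], by simp [mD, iD], by simp [mD, iD]⟩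

lemma com_mD' : Com (mD' w hw) :=
  com_iff.2 ⟨by simp [mD', iD'], by simp [mD', iD'], by simp [mD', iD'], by simp [mD', iD']⟩

lemma ax_mD : ax (mD w hw) = !![1, 0; 0, w] := by
  ext i j; fin_cases i <;> fin_cases j <;> simp [ax, mD, iD, E2.ev_apply]

lemma ax_mD' : ax (mD' w hw) = !![1, 0; 0, -1 - w] := by
  ext i j
  fin_cases i <;> fin_cases j <;> simp [ax, mD', iD', E2.ev_apply]
  ring

/-- central elements are carried back by conjugation -/
lemma central_conjD (h5 : 5 ≤ p) {Q Q' : Matrix (Fin 2) (Fin 2) F}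
    (hQ : !![1, 0; 0, w] * Q' = Q * !![1, 0; 0, w]) (hc : ∀ g : Cs M, PComm (piC M g) Q)
    (g : Cs (conjD w hw M)) : PComm (piC (conjD w hw M) g) Q' := by
  set d : Matrix (Fin 2) (Fin 2) F := !![1, 0; 0, w] with hd
  set d' : Matrix (Fin 2) (Fin 2) F := !![1, 0; 0, -1 - w] with hd'
  have hdd : d' * d = 1 := by
    rw [hd, hd']
    ext i j
    fin_cases i <;> fin_cases j <;> simp [Matrix.mul_apply, Fin.sum_univ_two]
    linear_combination -hw
  set A := piC (conjD w hw M) g with hA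
  have hcom : Com (((MulAut.conj (gD w hw)).toMonoidHom (g : GL (Fin 3) F)).val) := by
    rw [val_conjD]; exact (com_mD.mul (com_of_mem g.2)).mul com_mD'
  obtain ⟨c, hc⟩ := hc ⟨_, mem_Cs (mem_conjD.1 g.2.1) hcom⟩
  have hax : piC M ⟨_, mem_Cs (mem_conjD.1 g.2.1) hcom⟩ = d * A * d' := by
    rw [piC_apply, hA, piC_apply]
    show ax ((MulAut.conj (gD w hw)).toMonoidHom (g : GL (Fin 3) F)).val = _
    rw [val_conjD, ax_mul (com_mD.mul (com_of_mem g.2)) com_mD', ax_mul com_mD (com_of_mem g.2), ax_mD,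
      ax_mD']
  rw [hax] at hc
  refine ⟨c, ?_⟩
  have hdd' : d * d' = 1 := mul_eq_one_comm.1 hdd
  calc A * Q' = (d' * d) * A * (d' * d) * Q' := by rw [hdd, one_mul, mul_one]
    _ = d' * ((d * A * d') * Q) * d := by
        rw [show (d' * d) * A * (d' * d) * Q' = d' * (d * A * d') * (d * Q') by simp only [mul_assoc], hQ]
        simp only [mul_assoc]
    _ = c • (d' * (Q * (d * A * d')) * d) := by rw [hc, mul_smul_comm, smul_mul_assoc]
    _ = c • (Q' * A) := by
        congr 1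
        calc d' * (Q * (d * A * d')) * d = d' * (Q * d) * A * (d' * d) := by simp only [mul_assoc]
          _ = d' * (d * Q') * A := by rw [hdd, mul_one, hQ]
          _ = Q' * A := by rw [← mul_assoc d', hdd, one_mul]

/-- normalising is carried back by conjugation -/
lemma nrm_conjD (h : Ctx p w hw M) (hn : Nrm w hw (conjD w hw M)) : Nrm w hw M := by
  intro g hg
  have hmem : (gD w hw)⁻¹ * g * gD w hw ∈ conjD w hw M := by
    rw [mem_conjD]
    show gD w hw * ((gD w hw)⁻¹ * g * gD w hw) * (gD w hw)⁻¹ ∈ M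
    rwa [show gD w hw * ((gD w hw)⁻¹ * g * gD w hw) * (gD w hw)⁻¹ = g by group]
  obtain ⟨A, B, hA, hB, hA', hB'⟩ := hn _ hmem
  set D := mD w hw with hD
  set D' := mD' w hw with hD'
  have e1 : D * D' = 1 := (gD w hw).val_inv
  have e2 : D' * D = 1 := (gD w hw).inv_val
  have hval : (((gD w hw)⁻¹ * g * gD w hw : GL (Fin 3) F) : Matrix (Fin 3) (Fin 3) F) = D' * g.val * D := rfl
  rw [hval] at hA' hB'
  set X := mX w hw with hX
  set Y := mY w hw with hY
  have conv : ∀ C Z : Matrix (Fin 3) (Fin 3) F, D' * g.val * D * Z = C * (D' * g.val * D) →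
      g.val * (D * Z * D') = D * C * D' * g.val := by
    intro C Z e
    calc g.val * (D * Z * D') = (D * D') * g.val * (D * Z * D') := by rw [e1, one_mul]
      _ = D * (D' * g.val * D * Z) * D' := by simp only [mul_assoc]
      _ = D * C * D' * g.val * (D * D') := by rw [e]; simp only [mul_assoc]
      _ = D * C * D' * g.val := by rw [e1, mul_one]
  have hXd : D * X * D' = X := mD_mX
  have hYd : D * Y * D' = w ^ 2 • (X * X * Y) := mD_mY
  have hA'' := conv A X hA'
  have hB'' := conv B Y hB'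
  rw [hXd] at hA''
  rw [hYd] at hB''
  have hw3 : w ^ 3 = 1 := by rw [pow_succ, pow_two]; exact w_cube hw
  have hmono : ∀ C, Mono w hw C → Mono w hw (D * C * D') := by
    rintro C ⟨hc1, ⟨c, hc⟩, ⟨d, hd⟩⟩
    have hXD : X * D = D * X := by
      calc X * D = D * X * D' * D := by rw [hXd]
        _ = D * X := by rw [mul_assoc, e2, mul_one]
    have mono2 : ∀ {Z : Matrix (Fin 3) (Fin 3) F} {e : F}, C * Z = e • (Z * C) →
        D * C * D' * (D * Z * D') = e • (D * Z * D' * (D * C * D')) := by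
      intro Z e hZ
      calc D * C * D' * (D * Z * D') = D * (C * (D' * D) * Z) * D' := by simp only [mul_assoc]
        _ = e • (D * (Z * C) * D') := by rw [e2, mul_one, hZ, mul_smul_comm, smul_mul_assoc]
        _ = e • (D * (Z * (D' * D) * C) * D') := by rw [e2, mul_one]
        _ = _ := by simp only [mul_assoc]
    have hcX := mono2 hc
    have hdY := mono2 hd
    rw [hXd] at hcX
    rw [hYd, mul_smul_comm, smul_mul_assoc, smul_comm d] at hdY
    have hdY' := smul_right_injective (Matrix (Fin 3) (Fin 3) F)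
      (pow_ne_zero 2 (w_ne_zero hw)) hdY
    refine ⟨?_, ⟨c, hcX⟩, ⟨c * d, ?_⟩⟩
    · rw [Matrix.det_mul, Matrix.det_mul, hc1, mul_one, ← Matrix.det_mul, e1, Matrix.det_one]
    · have hY1 : Y = X * (X * X * Y) := by
        rw [← mul_assoc, ← mul_assoc, hX, mX_cube, one_mul]
      show D * C * D' * Y = (c * d) • (Y * (D * C * D'))
      conv_lhs => rw [hY1]
      conv_rhs => rw [hY1]
      rw [← mul_assoc, hcX, smul_mul_assoc, mul_assoc X, hdY', mul_smul_comm, smul_smul]
      simp only [mul_assoc]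
  refine ⟨D * A * D', w • (D * A * D' * (D * B * D')), ?_, ?_, hA'', ?_⟩
  · exact (rset_iff (p := p) h.five).2 (hmono A (mono_of_rset hA))
  · exact (rset_iff (p := p) h.five).2
      (((hmono A (mono_of_rset hA)).mul (hmono B (mono_of_rset hB))).smul hw3)
  · have hYe : Y = X * (X * X * Y) := by rw [← mul_assoc, ← mul_assoc, hX, mX_cube, one_mul]
    rw [mul_smul_comm] at hB''
    have hB2 : g.val * (X * X * Y) = w • (D * B * D' * g.val) := by
      rw [← hB'', smul_smul, ← pow_succ', hw3, one_smul]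
    calc g.val * Y = g.val * X * (X * X * Y) := by rw [mul_assoc, ← hYe]
      _ = D * A * D' * (g.val * (X * X * Y)) := by rw [hA'', mul_assoc]
      _ = _ := by rw [hB2, mul_smul_comm, smul_mul_assoc]; simp only [mul_assoc]

/-- A group without transvections containing the Hessian group normalises the extraspecial group. -/
theorem nrm_of_ctx [Finite F] (h : Ctx p w hw M) : Nrm w hw M := by
  by_cases hr : ∃ r : Cs M, r * r = 1 ∧ gamC M r = -1
  · obtain ⟨r, hr1, hr2⟩ := hr
    obtain ⟨Q, hQ, hc⟩ := exists_central h hr1 hr2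
    have hVW : (!![1, 0; 0, w] : Matrix (Fin 2) (Fin 2) F) * bW = bV w * !![1, 0; 0, w] := by
      ext i j
      fin_cases i <;> fin_cases j <;> simp [bW, bV, Matrix.mul_apply, Fin.sum_univ_two]
      linear_combination (2 * (1 - w)) * hw
    have hUV : (!![1, 0; 0, w] : Matrix (Fin 2) (Fin 2) F) * bV w = bU w * !![1, 0; 0, w] := by
      ext i j
      fin_cases i <;> fin_cases j <;> simp [bV, bU, Matrix.mul_apply, Fin.sum_univ_two] <;>
        first | ring1 | linear_combination (w * (1 - w)) * hw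
    have refl_conj : ∀ {M : Subgroup (GL (Fin 3) F)}, Ctx p w hw M → ∀ {r : Cs M}, r * r = 1 →
        gamC M r = -1 → ∃ r' : Cs (conjD w hw M), r' * r' = 1 ∧ gamC (conjD w hw M) r' = -1 := by
      intro M h r hr1 hr2
      have hcom : Com (((gD w hw)⁻¹ * (r : GL (Fin 3) F) * gD w hw : GL (Fin 3) F).val) :=
        (com_mD'.mul (com_of_mem r.2)).mul com_mD
      have hmem : (gD w hw)⁻¹ * (r : GL (Fin 3) F) * gD w hw ∈ conjD w hw M := by
        rw [mem_conjD]
        show gD w hw * ((gD w hw)⁻¹ * (r : GL (Fin 3) F) * gD w hw) * (gD w hw)⁻¹ ∈ M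
        rw [show gD w hw * ((gD w hw)⁻¹ * (r : GL (Fin 3) F) * gD w hw) * (gD w hw)⁻¹
          = (r : GL (Fin 3) F) by group]
        exact r.2.1
      refine ⟨⟨_, mem_Cs hmem hcom⟩, Subtype.ext ?_, ?_⟩
      · have e : ((r : GL (Fin 3) F)) * (r : GL (Fin 3) F) = 1 := congrArg Subtype.val hr1
        show (gD w hw)⁻¹ * (r : GL (Fin 3) F) * gD w hw * ((gD w hw)⁻¹ * (r : GL (Fin 3) F) * gD w hw) = 1
        calc _ = (gD w hw)⁻¹ * ((r : GL (Fin 3) F) * (r : GL (Fin 3) F)) * gD w hw := by group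
          _ = 1 := by rw [e, mul_one, inv_mul_cancel]
      · rw [gamC_apply]
        show gam (mD' w hw * (r : GL (Fin 3) F).val * mD w hw) = -1
        rw [gam_mul (com_mD'.mul (com_of_mem r.2)) com_mD, gam_mul com_mD' (com_of_mem r.2),
          ← gamC_apply, hr2]
        simp [gam, mD, mD', iD, iD', E2.ev_apply]
        linear_combination hw
    rcases hQ with rfl | rfl | rfl
    · exact nrm_of_reflection h hc hr1 hr2
    · obtain ⟨r', h1, h2⟩ := refl_conj h hr1 hr2
      exact nrm_conjD h (nrm_of_reflection h.conjD (central_conjD (p := p) h.five hVW hc) h1 h2)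
    · obtain ⟨r', h1, h2⟩ := refl_conj h hr1 hr2
      obtain ⟨r'', h1', h2'⟩ := refl_conj h.conjD h1 h2
      exact nrm_conjD h (nrm_conjD h.conjD (nrm_of_reflection h.conjD.conjD
        (central_conjD (p := p) h.five hVW (central_conjD (p := p) h.five hUV hc)) h1' h2'))
  · refine nrm_of_isolated h fun z hz => ?_
    rcases invol_cases h hz with e | e | ⟨e, -⟩
    · exact .inl e
    · exact .inr e
    · exact absurd ⟨z, hz, e⟩ hr

end CfsgLib.ClassicalMax.Hess

namespace CfsgLib.ClassicalMax.Hess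

open Matrix

/-- Clause (5) of the geometric types of maximal subgroups of `SL₃(q)`. -/
theorem hessian_normalizer_maximal {F : Type*} [Field F] [Fintype F] (p : ℕ)
    (R : Subgroup (Matrix.GeneralLinearGroup (Fin 3) F)) (hp : p.Prime) (hF : Fintype.card F = p)
    (hp3 : p % 3 = 1) (hR : Cfsg.Geo.IsLinearSymplecticTypeData 3 R) :
    Cfsg.Geo.IsMaximalIn (Cfsg.Geo.specialLinear (Fin 3) F)
      (Cfsg.Geo.subgroupNormalizer R ⊓ Cfsg.Geo.specialLinear (Fin 3) F) := by
  classical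
  haveI := Fact.mk hp
  haveI : CharP F p := by
    obtain ⟨n, hn, hc⟩ := FiniteField.card F (ringChar F)
    have hrp : ringChar F = p := by
      have hd : ringChar F ∣ p := by
        rw [← hF, hc]
        exact dvd_pow_self _ n.ne_zero
      exact (Nat.prime_dvd_prime_iff_eq hn hp).1 hd
    exact hrp ▸ ringChar.charP F
  have h7 : 7 ≤ p := by
    have := hp.two_le
    rcases Nat.lt_or_ge p 7 with hlt | hge
    · interval_cases p <;> first | omega | norm_num at hp
    · exact hge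
  have h5 : 5 ≤ p := le_trans (by norm_num) h7
  obtain ⟨w, hw, P, hRiff, hWV⟩ := exists_normal_form hR
  set N := Cfsg.Geo.subgroupNormalizer R ⊓ Cfsg.Geo.specialLinear (Fin 3) F with hN
  set c : GL (Fin 3) F ≃* GL (Fin 3) F := MulAut.conj P⁻¹ with hc
  have hcv : ∀ g : GL (Fin 3) F, (c g : GL (Fin 3) F) = P⁻¹ * g * P := fun g => by
    rw [hc, MulAut.conj_apply, inv_inv]
  have hRr : ∀ g : GL (Fin 3) F, g ∈ R ↔ RSet w hw (c g : GL (Fin 3) F).val := by
    intro g
    rw [hRiff, hcv]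
    constructor
    · rintro ⟨i, j, k, e⟩
      rw [rset_iff (p := p) h5, e]
      refine Mono.smul ?_ ((mono_X.pow _).mul (mono_Y.pow _))
      rw [← pow_mul, mul_comm, pow_mul, pow_succ, pow_two, w_cube hw, one_pow]
    · rintro ⟨i, j, k, e⟩
      exact ⟨i, j, k, e⟩
  have hdet : ∀ g : GL (Fin 3) F, (c g : GL (Fin 3) F).val.det = g.val.det := fun g => by
    rw [hcv, Units.val_mul, Units.val_mul, Matrix.det_units_conj']
  have hsl : ∀ g : GL (Fin 3) F, g ∈ Cfsg.Geo.specialLinear (Fin 3) F ↔ g.val.det = 1 := fun g => by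
    rw [Cfsg.Geo.specialLinear, MonoidHom.mem_ker, Units.ext_iff]
    rfl
  have gen : ∀ {A : Matrix (Fin 3) (Fin 3) F}, RSet w hw A → Mem (N.map c.toMonoidHom) A := by
    intro A hA
    have hd : A.det ≠ 0 := by rw [((rset_iff (p := p) h5).1 hA).1]; exact one_ne_zero
    have he : (c (c.symm (Matrix.GeneralLinearGroup.mkOfDetNeZero A hd)) : GL (Fin 3) F).val = A := by
      rw [MulEquiv.apply_symm_apply]; rfl
    refine ⟨_, ⟨c.symm (Matrix.GeneralLinearGroup.mkOfDetNeZero A hd), ⟨?_, ?_⟩, rfl⟩, he⟩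
    · exact Subgroup.le_normalizer ((hRr _).2 (he.symm ▸ hA))
    · show _ ∈ Cfsg.Geo.specialLinear (Fin 3) F
      rw [hsl, ← hdet, he]
      exact ((rset_iff (p := p) h5).1 hA).1
  have rX : RSet w hw (mX w hw) := ⟨0, 1, 0, by simp⟩
  have rY : RSet w hw (mY w hw) := ⟨0, 0, 1, by simp⟩
  refine ⟨lt_of_le_of_ne inf_le_right fun hNS => ?_, fun M hNM hMS => ?_⟩
  · -- a transvection does not normalise
    let T : GL (Fin 3) F := Matrix.GeneralLinearGroup.mkOfDetNeZero !![1, 1, 0; 0, 1, 0; 0, 0, 1]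
      (by simp [Matrix.det_fin_three])
    have hTS : c.symm T ∈ Cfsg.Geo.specialLinear (Fin 3) F := by
      rw [hsl, ← hdet, MulEquiv.apply_symm_apply]
      show (!![1, 1, 0; 0, 1, 0; 0, 0, 1] : Matrix (Fin 3) (Fin 3) F).det = 1
      simp [Matrix.det_fin_three]
    have hTN : c.symm T ∈ N := hNS.symm ▸ hTS
    have hdX : (mX w hw).det ≠ 0 := by rw [det_mX]; exact one_ne_zero
    set gx := c.symm (Matrix.GeneralLinearGroup.mkOfDetNeZero (mX w hw) hdX) with hgx
    have hcx : (c gx : GL (Fin 3) F).val = mX w hw := by rw [hgx, MulEquiv.apply_symm_apply]; rfl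
    have hmem := (Subgroup.mem_normalizer_iff.1 hTN.1 gx).1 ((hRr gx).2 (hcx.symm ▸ rX))
    have hr := (hRr _).1 hmem
    rw [map_mul, map_mul, map_inv, MulEquiv.apply_symm_apply, Units.val_mul, Units.val_mul, hcx] at hr
    obtain ⟨i, j, k, e⟩ := hr
    have e' : T.val * mX w hw = w ^ (i : ℕ) • (mX w hw ^ (j : ℕ) * mY w hw ^ (k : ℕ)) * T.val := by
      rw [← e, mul_assoc _ _ T.val, ← Units.val_mul T⁻¹ T, inv_mul_cancel, Units.val_one, mul_one]
    rw [show T.val = !![1, 1, 0; 0, 1, 0; 0, 0, 1] from rfl, mX_eq, mY_eq] at e'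
    have hw1 := w_ne_one (p := p) h5 hw
    have hw0 := w_ne_zero hw
    have f := fun a b : Fin 3 => congrArg (fun B : Matrix (Fin 3) (Fin 3) F => B a b) e'
    have f00 := f 0 0
    have f01 := f 0 1
    fin_cases j <;> fin_cases k <;>
      simp [pow_succ, Matrix.mul_apply, Fin.sum_univ_three] at f00 f01 <;> grind
  · set Mp := M.map c.toMonoidHom with hMp
    have hmono : ∀ {A : Matrix (Fin 3) (Fin 3) F}, Mem (N.map c.toMonoidHom) A → Mem Mp A := by
      rintro A ⟨g, hg, he⟩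
      exact ⟨g, Subgroup.map_mono hNM hg, he⟩
    have hWVm : ∀ A, A = mW w hw ∨ A = mV w hw → Mem Mp A := fun A hA => by
      obtain ⟨g, hg, he⟩ := hWV A hA
      exact ⟨c g, ⟨g, hNM hg, rfl⟩, by rw [hcv]; exact he⟩
    by_cases htv : ∃ g ∈ Mp, g ≠ 1 ∧ (g.val - 1) * (g.val - 1) = 0
    · obtain ⟨g, hg, hg1, hg2⟩ := htv
      right
      have hle := sl_le_of_transvection (hF ▸ hp) (three_ne (p := p) h5) (hmono (gen rX)) (hmono (gen rY))
        hg hg1 hg2
      refine le_antisymm hMS fun x hx => ?_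
      obtain ⟨y, hy, hxy⟩ := hle (show c x ∈ Cfsg.Geo.specialLinear (Fin 3) F by
        rw [hsl, hdet, ← hsl]; exact hx)
      rwa [← c.injective hxy]
    · left
      push Not at htv
      have hctx : Ctx p w hw Mp :=
        { seven := h7
          det := by
            rintro _ ⟨g, hg, rfl⟩
            exact (hdet g).trans ((hsl g).1 (hMS hg))
          notv := fun g hg hsq => by_contra fun hne => htv g hg hne hsq
          memX := hmono (gen rX)
          memY := hmono (gen rY)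
          memW := hWVm _ (.inl rfl)
          memV := hWVm _ (.inr rfl) }
      have hnrm := nrm_of_ctx hctx
      refine le_antisymm (le_inf (fun g hg => ?_) hMS) hNM
      have hsub : R.map (MulAut.conj g).toMonoidHom ≤ R := by
        rintro _ ⟨r, hr, rfl⟩
        rw [hRr]
        obtain ⟨i, j, k, e⟩ := (hRr r).1 hr
        obtain ⟨A, B, hA, hB, hA', hB'⟩ := hnrm _ (Subgroup.mem_map_of_mem c.toMonoidHom hg)
        change (c g : GL (Fin 3) F).val * _ = _ at hA' hB'
        show RSet w hw (c (g * r * g⁻¹) : GL (Fin 3) F).val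
        rw [rset_iff (p := p) h5, map_mul, map_mul, map_inv, Units.val_mul, Units.val_mul, e,
          mul_smul_comm, smul_mul_assoc]
        have hAj : (c g : GL (Fin 3) F).val * mX w hw ^ (j : ℕ) = A ^ (j : ℕ) * (c g : GL (Fin 3) F).val :=
          SemiconjBy.pow_right hA' _
        have hBk : (c g : GL (Fin 3) F).val * mY w hw ^ (k : ℕ) = B ^ (k : ℕ) * (c g : GL (Fin 3) F).val :=
          SemiconjBy.pow_right hB' _
        rw [← mul_assoc, hAj, mul_assoc (A ^ (j : ℕ)), hBk, ← mul_assoc, mul_assoc (A ^ (j : ℕ) * B ^ (k : ℕ)),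
          ← Units.val_mul, mul_inv_cancel, Units.val_one, mul_one]
        refine Mono.smul ?_ (((mono_of_rset hA).pow _).mul ((mono_of_rset hB).pow _))
        rw [← pow_mul, mul_comm, pow_mul, pow_succ, pow_two, w_cube hw, one_pow]
      exact Subgroup.mem_normalizer_iff_map_conj_eq.2 (Subgroup.eq_of_le_of_card_ge hsub
        (by rw [Subgroup.card_map_of_injective (MulAut.conj g).injective]))

end CfsgLib.ClassicalMax.Hess
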