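import Cfsg.Agent.Lib.Signalizer.Basic
import Cfsg.Agent.Lib.TwoFusion.TransferPow
import Cfsg.Agent.Lib.Recog.AffineSLTwoFour
import Cfsg.Agent.S3341
import Cfsg.Agent.S0215

/-!
Group theory for the Hessian group: isolated involutions, a transfer lemma, and groups with a
self-centralising elementary abelian group of order nine on which eight elements act regularly.
-/

set_option autoImplicit false

namespace CfsgLib.ClassicalMax.Hess

open Subgroup
open scoped Pointwise commutatorElement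

variable {G : Type*} [Group G] [Finite G]

/-- A Sylow `2`-subgroup with `t` in its centre lies in the centraliser of `t`, of odd index. -/
lemma sylow_centralizer {t : G} (Q : Subgroup G) (hQ : IsPGroup 2 Q) (htQ : t ∈ Q)
    (huniq : ∀ z : G, z * z = 1 → z * t = t * z → (∀ q ∈ Q, z * q = q * z) → z = 1 ∨ z = t) :
    ∃ P : Sylow 2 G, t ∈ P ∧ (P : Subgroup G) ≤ centralizer {t} := by
  obtain ⟨P, hP⟩ := hQ.exists_le_sylow
  refine ⟨P, hP htQ, ?_⟩
  haveI : Fact (Nat.Prime 2) := ⟨Nat.prime_two⟩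
  by_cases htriv : Nontrivial P
  · haveI := htriv
    haveI : Nontrivial (center P) := P.isPGroup'.center_nontrivial
    have h2 : 2 ∣ Nat.card (center (P : Subgroup G)) := by
      obtain ⟨n, hn⟩ := (P.isPGroup'.to_subgroup (center (P : Subgroup G))).exists_card_eq
      have h1 := Finite.one_lt_card (α := center (P : Subgroup G))
      rw [hn] at h1 ⊢
      exact dvd_pow_self 2 (by rintro rfl; simp at h1)
    obtain ⟨z, hz⟩ := exists_prime_orderOf_dvd_card' 2 h2
    have hzc : ∀ q ∈ (P : Subgroup G), ((z : P) : G) * q = q * ((z : P) : G) := fun q hq =>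
      (congrArg Subtype.val (mem_center_iff.1 z.2 ⟨q, hq⟩)).symm
    have hzz : ((z : P) : G) * (z : P) = 1 := by
      have := pow_orderOf_eq_one z
      rw [hz, pow_two] at this
      exact congrArg (fun x : center P => ((x : P) : G)) this
    rcases huniq _ hzz (hzc t (hP htQ)) (fun q hq => hzc q (hP hq)) with h | h
    · exfalso
      have : z = 1 := Subtype.ext (Subtype.ext h)
      rw [this, orderOf_one] at hz
      norm_num at hz
    · intro q hq
      rw [mem_centralizer_singleton_iff, ← h]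
      exact (hzc q hq).symm
  · intro q hq
    have : (⟨q, hq⟩ : P) = 1 := by
      by_contra hne
      exact htriv ⟨_, _, hne⟩
    rw [show q = 1 from congrArg Subtype.val this]
    exact one_mem _

/-- An isolated involution is central modulo a normal subgroup of odd order. -/
lemma exists_odd_normal {t : G} (ht : orderOf t = 2)
    (huniq : ∀ z : G, z * z = 1 → z * t = t * z → z = 1 ∨ z = t) :
    ∃ N : Subgroup G, N.Normal ∧ Odd (Nat.card N) ∧ ∀ g : G, t * g * t⁻¹ * g⁻¹ ∈ N := by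
  have hq : IsPGroup 2 (zpowers t) := IsPGroup.of_card (n := 1) (by rw [Nat.card_zpowers, ht, pow_one])
  obtain ⟨P, htP, hPc⟩ := sylow_centralizer _ hq (mem_zpowers t) (fun z h1 h2 _ => huniq z h1 h2)
  refine Cfsg.Agent.S0215.result P t ht htP fun g hg => ?_
  have hs : g * t * g⁻¹ * (g * t * g⁻¹) = 1 := by
    rw [show g * t * g⁻¹ * (g * t * g⁻¹) = g * (t * t) * g⁻¹ by group, ← pow_two, ← ht,
      pow_orderOf_eq_one, mul_one, mul_inv_cancel]
  rcases huniq _ hs (mem_centralizer_singleton_iff.1 (hPc hg)) with h | h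
  · exfalso
    have : t = 1 := by simpa using h
    rw [this, orderOf_one] at ht
    norm_num at ht
  · exact h

/-- Transfer into the centraliser of an involution. -/
lemma not_mem_commutator {t : G} (hP : ∃ P : Sylow 2 G, (P : Subgroup G) ≤ centralizer {t})
    {A : Type*} [CommGroup A] (φ : (centralizer ({t} : Set G) : Subgroup G) →* A) {g : G}
    (hg : g ∈ centralizer ({t} : Set G)) (hgt : g ^ 2 = t) (ht : t * t = 1)
    (hφ : φ ⟨g, hg⟩ ≠ 1) (hφt : φ ⟨t, mem_centralizer_singleton_iff.2 rfl⟩ = 1)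
    (hinv : ∀ z (hz : z ∈ centralizer ({t} : Set G)), z * z = 1 → φ ⟨z, hz⟩ = 1)
    (hfour : ∀ z ∈ centralizer ({t} : Set G), (z ^ 2) ^ 2 = 1 → z ^ 2 = 1 ∨ z ^ 2 = t) :
    g ∉ commutator G := by
  intro hmem
  obtain ⟨P, hP⟩ := hP
  haveI : Fact (Nat.Prime 2) := ⟨Nat.prime_two⟩
  have hidx : Nat.Coprime 2 (centralizer ({t} : Set G)).index :=
    Nat.prime_two.coprime_iff_not_dvd.2 fun h => P.not_dvd_index (h.trans (index_dvd_of_le hP))
  have hg4 : g ^ (2 : ℕ) ^ 2 = 1 := by
    rw [show (2 : ℕ) ^ 2 = 2 * 2 from rfl, pow_mul, hgt, pow_two, ht]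
  refine CfsgLib.TwoFusion.TransferPow.not_mem_commutator_of_controlled φ hidx hg hg4 hφ ?_
    (CfsgLib.TwoFusion.TransferPow.transfer_eq_one_of_commutator φ hmem)
  intro k g₀ hk
  have h2 : φ ⟨g, hg⟩ ^ 2 = 1 := by
    rw [← map_pow, ← hφt]
    exact congrArg φ (Subtype.ext (by rw [SubmonoidClass.coe_pow]; exact hgt))
  rcases Nat.even_or_odd k with ⟨i, hi⟩ | hodd
  · have hsq : g₀⁻¹ * g ^ k * g₀ * (g₀⁻¹ * g ^ k * g₀) = 1 := by
      rw [show g₀⁻¹ * g ^ k * g₀ * (g₀⁻¹ * g ^ k * g₀) = g₀⁻¹ * (g ^ k * g ^ k) * g₀ by group,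
        ← pow_add, hi, show i + i + (i + i) = (2 : ℕ) ^ 2 * i by ring, pow_mul, hg4, one_pow, mul_one,
        inv_mul_cancel]
    rw [hinv _ hk hsq, hi, ← two_mul, pow_mul, h2, one_pow]
  · obtain ⟨i, hi⟩ := hodd
    have hz2 : (g₀⁻¹ * g ^ k * g₀) ^ 2 = g₀⁻¹ * t * g₀ := by
      rw [pow_two, show g₀⁻¹ * g ^ k * g₀ * (g₀⁻¹ * g ^ k * g₀) = g₀⁻¹ * (g ^ k * g ^ k) * g₀ by group,
        ← pow_add, hi, show 2 * i + 1 + (2 * i + 1) = (2 : ℕ) ^ 2 * i + 2 by ring, pow_add, pow_mul,
        hg4, one_pow, one_mul, hgt]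
    have hc0 : g₀ ∈ centralizer ({t} : Set G) := by
      rcases hfour _ hk (by
        rw [hz2, pow_two, show g₀⁻¹ * t * g₀ * (g₀⁻¹ * t * g₀) = g₀⁻¹ * (t * t) * g₀ by group, ht,
          mul_one, inv_mul_cancel]) with h | h
      · exfalso
        rw [hz2] at h
        have ht1 : t = 1 := by
          calc t = g₀ * (g₀⁻¹ * t * g₀) * g₀⁻¹ := by group
            _ = 1 := by rw [h, mul_one, mul_inv_cancel]
        subst ht1
        exact hφ (hinv g hg (by rw [← pow_two, hgt]))
      · rw [hz2] at h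
        refine mem_centralizer_singleton_iff.2 ?_
        calc g₀ * t = g₀ * (g₀⁻¹ * t * g₀) := by rw [h]
          _ = t * g₀ := by group
    have e : (⟨g₀⁻¹ * g ^ k * g₀, hk⟩ : centralizer ({t} : Set G)) =
        ⟨g₀, hc0⟩⁻¹ * ⟨g, hg⟩ ^ k * ⟨g₀, hc0⟩ :=
      Subtype.ext (by simp only [Subgroup.coe_mul, InvMemClass.coe_inv, SubmonoidClass.coe_pow])
    rw [e, map_mul, map_mul, map_inv, map_pow, mul_right_comm, inv_mul_cancel, one_mul]

/-- A finite group with a self-centralising `E` of order nine, on whose non-trivial elements the set `S`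
acts transitively, every element of `S` being trivial, `t`, or a square root of `t`. -/
theorem nine_cases {E : Subgroup G} (hE : Nat.card E = 9) (h3 : ∀ x ∈ E, x ^ 3 = 1)
    (hcent : ∀ x ∈ E, x ≠ 1 → centralizer ({x} : Set G) = E) {x₀ t : G} (hx₀ : x₀ ∈ E) (hx₀1 : x₀ ≠ 1)
    {S : Set G} (hSn : ∀ q ∈ S, q ∈ normalizer (E : Set G))
    (htrans : ∀ x ∈ E, x ≠ 1 → ∃ q ∈ S, q * x₀ * q⁻¹ = x)
    (hS : ∀ q ∈ S, q = 1 ∨ q = t ∨ q * q = t) (ht : t * t = 1) :
    E.Normal ∨ commutator G = ⊤ ∨ ∀ g : G, g ^ 8 = 1 ∨ g ^ 6 = 1 ∨ g ^ 10 = 1 := by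
  classical
  haveI : Fact (Nat.Prime 3) := ⟨Nat.prime_three⟩
  have hcomm : ∀ a ∈ E, ∀ b ∈ E, a * b = b * a := by
    intro a ha b hb
    by_cases ha1 : a = 1
    · rw [ha1, one_mul, mul_one]
    · have : b ∈ centralizer ({a} : Set G) := by rw [hcent a ha ha1]; exact hb
      exact (mem_centralizer_singleton_iff.1 this).symm
  have hEl : Cfsg.IsElementaryAbelian 3 E :=
    ⟨⟨⟨fun a b => Subtype.ext (hcomm a a.2 b b.2)⟩⟩, h3⟩
  have hEp : IsPGroup 3 E := CfsgLib.Signalizer.elementary_isPGroup hEl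
  -- `E` is a Sylow subgroup
  obtain ⟨P, hP⟩ := hEp.exists_le_sylow
  have hPE : (P : Subgroup G) = E := by
    refine le_antisymm ?_ hP
    haveI : Nontrivial P := ⟨⟨x₀, hP hx₀⟩, 1, fun e => hx₀1 (congrArg Subtype.val e)⟩
    haveI : Nontrivial (center (P : Subgroup G)) := P.isPGroup'.center_nontrivial
    obtain ⟨z, hz⟩ := exists_ne (1 : center (P : Subgroup G))
    have hzc : ∀ q ∈ (P : Subgroup G), q * ((z : P) : G) = ((z : P) : G) * q := fun q hq =>
      congrArg Subtype.val (mem_center_iff.1 z.2 ⟨q, hq⟩)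
    have hzE : ((z : P) : G) ∈ E := by
      rw [← hcent x₀ hx₀ hx₀1, mem_centralizer_singleton_iff]
      exact (hzc x₀ (hP hx₀)).symm
    intro q hq
    rw [← hcent _ hzE (fun e => hz (Subtype.ext (Subtype.ext e))), mem_centralizer_singleton_iff]
    exact hzc q hq
  -- a normal subgroup of a subgroup containing `E` meets `E`
  have meet : ∀ K : Subgroup G, E ≤ normalizer (K : Set G) → K ≠ ⊥ →
      ∃ x ∈ E, x ≠ 1 ∧ x ∈ K := by
    intro K hK hK0
    by_contra hcon
    push Not at hcon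
    have hinf : ∀ x ∈ E, x ≠ 1 → K ⊓ centralizer ({x} : Set G) ≤ (⊥ : Subgroup G) := by
      intro x hx hx1 y hy
      rw [mem_inf, hcent x hx hx1] at hy
      rw [mem_bot]
      by_contra hy1
      exact hcon y hy.2 hy1 hy.1
    by_cases hd : 3 ∣ Nat.card K
    · -- an `E`-invariant `3`-subgroup
      obtain ⟨a, ha⟩ := exists_prime_orderOf_dvd_card' 3 hd
      let KE : Subgroup G := K ⊔ E
      obtain ⟨P', hP'⟩ := (hEp.comap_of_injective KE.subtype KE.subtype_injective).exists_le_sylow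
      obtain ⟨T, hT⟩ := (IsPGroup.of_card (n := 1) (G := zpowers (⟨a, mem_sup_left a.2⟩ : KE))
        (by rw [Nat.card_zpowers, ← Subgroup.orderOf_coe]; simpa using ha)).exists_le_sylow
      obtain ⟨c, hc⟩ := MulAction.exists_smul_eq KE T P'
      have hmem : (c * ⟨a, mem_sup_left a.2⟩ * c⁻¹ : KE) ∈ P' := by
        rw [← hc]
        exact ⟨_, hT (mem_zpowers _), rfl⟩
      have hP'E : (P' : Subgroup KE).map KE.subtype ≤ E := by
        obtain ⟨P'', hP''⟩ := (P'.isPGroup'.map KE.subtype).exists_le_sylow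
        have hEP : E ≤ (P'' : Subgroup G) := fun x hx =>
          hP'' ⟨⟨x, mem_sup_right hx⟩, hP' hx, rfl⟩
        refine hP''.trans ?_
        intro q hq
        haveI : Nontrivial P'' := ⟨⟨x₀, hEP hx₀⟩, 1, fun e => hx₀1 (congrArg Subtype.val e)⟩
        haveI : Nontrivial (center (P'' : Subgroup G)) := P''.isPGroup'.center_nontrivial
        obtain ⟨z, hz⟩ := exists_ne (1 : center (P'' : Subgroup G))
        have hzc : ∀ q ∈ (P'' : Subgroup G), q * ((z : P'') : G) = ((z : P'') : G) * q := fun q hq =>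
          congrArg Subtype.val (mem_center_iff.1 z.2 ⟨q, hq⟩)
        have hzE : ((z : P'') : G) ∈ E := by
          rw [← hcent x₀ hx₀ hx₀1, mem_centralizer_singleton_iff]
          exact (hzc x₀ (hEP hx₀)).symm
        rw [← hcent _ hzE (fun e => hz (Subtype.ext (Subtype.ext e))), mem_centralizer_singleton_iff]
        exact hzc q hq
      have hcK : ((c : KE) : G) * a * ((c : KE) : G)⁻¹ ∈ K := by
        have hn : KE ≤ normalizer (K : Set G) := sup_le le_normalizer hK
        exact (mem_normalizer_iff.1 (hn c.2) a).1 a.2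
      refine hcon _ (hP'E ⟨_, hmem, rfl⟩) ?_ (by simpa using hcK)
      intro e
      have : (a : G) = 1 := by simpa using e
      rw [show a = 1 from Subtype.ext this, orderOf_one] at ha
      norm_num at ha
    · exact hK0 (eq_bot_iff.2 (CfsgLib.Signalizer.le_of_centralizers hEl (by rw [hE]; norm_num) hd hK hinf))
  -- transitivity
  have irred : ∀ K : Subgroup G, K.Normal → ∀ x ∈ E, x ≠ 1 → x ∈ K → E ≤ K := by
    intro K hK x hx hx1 hxK y hy
    by_cases hy1 : y = 1
    · rw [hy1]; exact one_mem _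
    obtain ⟨q, -, hq⟩ := htrans x hx hx1
    obtain ⟨q', -, hq'⟩ := htrans y hy hy1
    have hx₀K : x₀ ∈ K := by
      have := hK.conj_mem x hxK q⁻¹
      rwa [← hq, show q⁻¹ * (q * x₀ * q⁻¹) * q⁻¹⁻¹ = x₀ by group] at this
    rw [← hq']
    exact hK.conj_mem _ hx₀K q'
  obtain ⟨L, hLn, hL0, hLmin⟩ : ∃ L : Subgroup G, L.Normal ∧ L ≠ ⊥ ∧
      ∀ K : Subgroup G, K.Normal → K ≠ ⊥ → K ≤ L → K = L := by
    have hne : ∃ n : ℕ, ∃ L : Subgroup G, L.Normal ∧ L ≠ ⊥ ∧ Nat.card L = n :=
      ⟨_, ⊤, inferInstance, fun e => hx₀1 (mem_bot.1 (e ▸ mem_top x₀)), rfl⟩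
    obtain ⟨L, hLn, hL0, hLc⟩ := Nat.find_spec hne
    exact ⟨L, hLn, hL0, fun K hK hK0 hKL => eq_of_le_of_card_ge hKL
      (hLc ▸ Nat.find_min' hne ⟨K, hK, hK0, rfl⟩)⟩
  haveI := hLn
  have hnorm : ∀ g : G, g ∈ normalizer (L : Set G) := fun g => by
    rw [normalizer_eq_top]; exact mem_top g
  obtain ⟨x, hx, hx1, hxL⟩ := meet L (fun g _ => hnorm g) hL0
  have hEL : E ≤ L := irred L hLn x hx hx1 hxL
  by_cases hLE : L ≤ E
  · left
    rw [le_antisymm hEL hLE]
    exact hLn
  -- `L` is simple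
  have hsimple : IsSimpleGroup L := by
    haveI : Nontrivial L := (nontrivial_iff_ne_bot L).2 hL0
    refine ⟨fun K hK => ?_⟩
    by_contra hcon
    push Not at hcon
    obtain ⟨hKb, hKt⟩ := hcon
    let T := K.map L.subtype
    have hTL : T ≤ L := map_subtype_le K
    have hLT : L ≤ normalizer (T : Set G) := by
      intro l hl
      rw [mem_normalizer_iff]
      intro y
      constructor
      · rintro ⟨k, hk, rfl⟩
        exact ⟨⟨l, hl⟩ * k * ⟨l, hl⟩⁻¹, hK.conj_mem k hk _, by simp⟩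
      · rintro ⟨k, hk, he⟩
        refine ⟨⟨l, hl⟩⁻¹ * k * ⟨l, hl⟩⁻¹⁻¹, hK.conj_mem k hk _, ?_⟩
        simp only [map_mul, map_inv, he]
        simp [mul_assoc]
    have hT0 : T ≠ ⊥ := fun e => hKb ((map_eq_bot_iff_of_injective K L.subtype_injective).1 e)
    have hTnot : ¬ T.Normal := fun hn => hKt (map_injective L.subtype_injective
      ((hLmin T hn hT0 hTL).trans (by rw [← MonoidHom.range_eq_map, range_subtype])))
    obtain ⟨g, hg⟩ : ∃ g : G, T.map (MulAut.conj g).toMonoidHom ≠ T := by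
      by_contra hcon
      push Not at hcon
      refine hTnot ⟨fun y hy g => ?_⟩
      rw [← hcon g]
      exact ⟨y, hy, rfl⟩
    -- the smallest normal subgroups of `L`
    have hmin : ∃ n : ℕ, ∃ U : Subgroup G, U ≠ ⊥ ∧ U ≤ L ∧ L ≤ normalizer (U : Set G) ∧ Nat.card U = n :=
      ⟨_, T, hT0, hTL, hLT, rfl⟩
    obtain ⟨U, hU0, hUL, hLU, hUc⟩ := Nat.find_spec hmin
    have hUmin : ∀ V : Subgroup G, V ≠ ⊥ → V ≤ U → L ≤ normalizer (V : Set G) → V = U :=
      fun V hV hVU hLV => eq_of_le_of_card_ge hVU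
        (hUc ▸ Nat.find_min' hmin ⟨V, hV, hVU.trans hUL, hLV, rfl⟩)
    have hUnot : ¬ U.Normal := fun hn => by
      have hUeq := hLmin U hn hU0 hUL
      have := hUmin T hT0 (hUeq ▸ hTL) hLT
      exact hKt (map_injective L.subtype_injective
        ((this.trans hUeq).trans (by rw [← MonoidHom.range_eq_map, range_subtype])))
    obtain ⟨g, hg⟩ : ∃ g : G, U.map (MulAut.conj g).toMonoidHom ≠ U := by
      by_contra hcon
      push Not at hcon
      refine hUnot ⟨fun y hy g => ?_⟩
      rw [← hcon g]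
      exact ⟨y, hy, rfl⟩
    set V := U.map (MulAut.conj g).toMonoidHom with hV
    have hVL : V ≤ L := by
      rintro _ ⟨y, hy, rfl⟩
      exact hLn.conj_mem y (hUL hy) g
    have hLV : L ≤ normalizer (V : Set G) := by
      have : L.map (MulAut.conj g).toMonoidHom = L := (normal_iff_map_conj_eq.1 hLn) g
      calc L = L.map (MulAut.conj g).toMonoidHom := this.symm
        _ ≤ (normalizer (U : Set G)).map (MulAut.conj g).toMonoidHom := map_mono hLU
        _ ≤ normalizer (V : Set G) := le_normalizer_map _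
    have hVU : V ⊓ U = ⊥ := by
      by_contra hne
      have hn : L ≤ normalizer ((V ⊓ U : Subgroup G) : Set G) := fun l hl => by
        have h1 := mem_normalizer_iff.1 (hLV hl)
        have h2 := mem_normalizer_iff.1 (hLU hl)
        exact mem_normalizer_iff.2 fun y => by rw [mem_inf, mem_inf, h1 y, h2 y]
      have e1 := hUmin _ hne inf_le_right hn
      have e2 : U ≤ V := e1 ▸ inf_le_left
      refine hg (eq_of_le_of_card_ge e2 ?_).symm
      rw [hV, card_map_of_injective (MulAut.conj g).injective]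
    have hcom : ∀ u ∈ U, ∀ v ∈ V, u * v = v * u := by
      intro u hu v hv
      have h1 : u * v * u⁻¹ * v⁻¹ ∈ V :=
        V.mul_mem ((mem_normalizer_iff.1 (hLV (hUL hu)) v).1 hv) (V.inv_mem hv)
      have h2 : u * v * u⁻¹ * v⁻¹ ∈ U := by
        rw [show u * v * u⁻¹ * v⁻¹ = u * (v * u⁻¹ * v⁻¹) by group]
        exact U.mul_mem hu ((mem_normalizer_iff.1 (hLU (hVL hv)) u⁻¹).1 (U.inv_mem hu))
      have := mem_bot.1 (hVU ▸ mem_inf.2 ⟨h1, h2⟩)
      rw [show u * v * u⁻¹ * v⁻¹ = (u * v) * (v * u)⁻¹ by group, mul_inv_eq_one] at this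
      exact this
    have hV0 : V ≠ ⊥ := fun e => hU0 ((map_eq_bot_iff_of_injective U (MulAut.conj g).injective).1 e)
    obtain ⟨u, huE, hu1, huU⟩ := meet U (hEL.trans hLU) hU0
    have hVE : V ≤ E := fun v hv => by
      rw [← hcent u huE hu1, mem_centralizer_singleton_iff]
      exact (hcom u huU v hv).symm
    obtain ⟨v, hv, hv1⟩ := (V.ne_bot_iff_exists_ne_one.1 hV0) |> fun ⟨⟨v, hv⟩, h⟩ =>
      (⟨v, hv, fun e => h (Subtype.ext e)⟩ : ∃ v ∈ V, v ≠ 1)
    refine hLE fun l hl => ?_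
    -- `E` is then normal in `L`, as the product of the conjugates of `U`
    let W : Subgroup G := ⨆ c : G, U.map (MulAut.conj c).toMonoidHom
    have hWn : W.Normal := by
      refine ⟨fun y hy d => ?_⟩
      induction hy using iSup_induction' with
      | hp c y hy =>
        obtain ⟨z, hz, rfl⟩ := hy
        exact mem_iSup_of_mem (d * c) ⟨z, hz, by simp [mul_assoc]⟩
      | h1 => simp
      | hmul a b _ _ iha ihb =>
        rw [show d * (a * b) * d⁻¹ = d * a * d⁻¹ * (d * b * d⁻¹) by group]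
        exact mul_mem iha ihb
    have hWE : W ≤ E := iSup_le fun c => by
      set U' := U.map (MulAut.conj c).toMonoidHom with hU'
      by_cases e : U' = V
      · exact e ▸ hVE
      have hU'L : U' ≤ L := by
        rintro _ ⟨y, hy, rfl⟩
        exact hLn.conj_mem y (hUL hy) c
      have hLU' : L ≤ normalizer (U' : Set G) := by
        have : L.map (MulAut.conj c).toMonoidHom = L := (normal_iff_map_conj_eq.1 hLn) c
        calc L = L.map (MulAut.conj c).toMonoidHom := this.symm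
          _ ≤ (normalizer (U : Set G)).map (MulAut.conj c).toMonoidHom := map_mono hLU
          _ ≤ normalizer (U' : Set G) := le_normalizer_map _
      intro y hy
      rw [← hcent v (hVE hv) hv1, mem_centralizer_singleton_iff]
      have h1 : y * v * y⁻¹ * v⁻¹ ∈ V :=
        V.mul_mem ((mem_normalizer_iff.1 (hLV (hU'L hy)) v).1 hv) (V.inv_mem hv)
      have h2 : y * v * y⁻¹ * v⁻¹ ∈ U' := by
        rw [show y * v * y⁻¹ * v⁻¹ = y * (v * y⁻¹ * v⁻¹) by group]
        exact U'.mul_mem hy ((mem_normalizer_iff.1 (hLU' (hVL hv)) y⁻¹).1 (U'.inv_mem hy))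
      by_contra hne
      have hyv : y * v * y⁻¹ * v⁻¹ ≠ 1 := fun e' => hne (by
        rw [show y * v * y⁻¹ * v⁻¹ = (y * v) * (v * y)⁻¹ by group, mul_inv_eq_one] at e'
        exact e')
      have hI : V ⊓ U' ≠ ⊥ := fun e' => hyv (mem_bot.1 (e' ▸ mem_inf.2 ⟨h1, h2⟩))
      -- a conjugate of a minimal subgroup is minimal
      have hminV : ∀ Y : Subgroup G, Y ≠ ⊥ → Y ≤ V → L ≤ normalizer (Y : Set G) → Y = V :=
        fun Y hY hYV hLY => eq_of_le_of_card_ge hYV (by
          rw [hV, card_map_of_injective (MulAut.conj g).injective, hUc]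
          exact Nat.find_min' hmin ⟨Y, hY, hYV.trans hVL, hLY, rfl⟩)
      have hn : L ≤ normalizer ((V ⊓ U' : Subgroup G) : Set G) := fun l hl => by
        have h1 := mem_normalizer_iff.1 (hLV hl)
        have h2 := mem_normalizer_iff.1 (hLU' hl)
        exact mem_normalizer_iff.2 fun y => by rw [mem_inf, mem_inf, h1 y, h2 y]
      refine e (eq_of_le_of_card_ge (hminV _ hI inf_le_left hn ▸ inf_le_right) ?_).symm
      rw [hU', hV, card_map_of_injective (MulAut.conj c).injective,
        card_map_of_injective (MulAut.conj g).injective]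
    have hUW : U ≤ W := fun y hy => mem_iSup_of_mem (1 : G) ⟨y, hy, by simp⟩
    have hW0 : W ≠ ⊥ := fun e => hU0 (eq_bot_iff.2 (e ▸ hUW))
    have hWL : W = L := hLmin W hWn hW0 (hWE.trans hEL)
    exact hWE (hWL ▸ hl)
  haveI := hsimple
  haveI : L.Normal := hLn
  let EL : Subgroup L := E.subgroupOf L
  have hELc : Nat.card EL = 9 := by rw [Nat.card_congr (subgroupOfEquivOfLe hEL).toEquiv, hE]
  have hcentL : ∀ s ∈ EL, s ≠ 1 → centralizer ({s} : Set L) = EL := by
    intro s hs hs1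
    ext y
    rw [mem_centralizer_singleton_iff, mem_subgroupOf]
    rw [← hcent s hs (fun e => hs1 (Subtype.ext e)), mem_centralizer_singleton_iff]
    exact ⟨fun h => congrArg Subtype.val h, fun h => Subtype.ext h⟩
  -- `E` is a Sylow subgroup of `L`
  let PL : Sylow 3 L := P.subtype (le_of_eq_of_le hPE hEL)
  have hPL : (PL : Subgroup L) = EL := by
    show (P : Subgroup G).subgroupOf L = EL
    rw [hPE]
  by_cases hcl : ∃ a b : L, orderOf a = 3 ∧ orderOf b = 3 ∧ ∀ g : L, g * a * g⁻¹ ≠ b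
  · right; right
    obtain ⟨f⟩ := Cfsg.Agent.S3341.result PL EL hPL.symm
      ⟨⟨fun a b => Subtype.ext (Subtype.ext (hcomm _ a.2 _ b.2))⟩⟩
      (fun a ha => Subtype.ext (h3 _ ha)) hELc hcl hcentL
    have hord : ∀ y : L, y ^ 3 = 1 ∨ y ^ 4 = 1 ∨ y ^ 5 = 1 := by
      intro y
      have h := Set.mem_range_self (f := (orderOf : alternatingGroup (Fin 6) → ℕ)) (f y)
      rw [CfsgLib.Recog.altSix_spectrum] at h
      simp only [Set.mem_insert_iff, Set.mem_singleton_iff, MulEquiv.orderOf_eq] at h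
      have hd : ∀ m : ℕ, orderOf y ∣ m → y ^ m = 1 := fun m hm => orderOf_dvd_iff_pow_eq_one.1 hm
      rcases h with h | h | h | h | h
      · exact .inl (hd 3 (by rw [h]; norm_num))
      · exact .inr (.inl (hd 4 (by rw [h]; norm_num)))
      · exact .inl (hd 3 (by rw [h]))
      · exact .inr (.inl (hd 4 (by rw [h])))
      · exact .inr (.inr (hd 5 (by rw [h])))
    -- `t` lies in `L`
    have hNE : ∃ l : L, l ∈ normalizer (EL : Set L) ∧ l ∉ EL := by
      by_contra hcon
      push Not at hcon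
      have hNC : normalizer ((PL : Subgroup L) : Set L) ≤ centralizer ((PL : Subgroup L) : Set L) := by
        rw [hPL]
        intro l hl a ha
        exact Subtype.ext (hcomm _ ha _ (hcon l hl))
      have hcpl := MonoidHom.ker_transferSylow_isComplement' PL hNC
      rcases IsSimpleGroup.eq_bot_or_eq_top_of_normal (MonoidHom.transferSylow PL hNC).ker inferInstance
        with hk | hk
      · rw [hk] at hcpl
        refine hLE fun l hl => ?_
        have := hPL ▸ (isComplement'_bot_left.1 hcpl).symm ▸ mem_top (⟨l, hl⟩ : L)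
        exact this
      · rw [hk] at hcpl
        have h9 := (isComplement'_top_left.1 hcpl)
        rw [hPL] at h9
        rw [h9, card_bot] at hELc
        norm_num at hELc
    obtain ⟨l, hl, hlE⟩ := hNE
    have hlx : (l : G) * x₀ * (l : G)⁻¹ ∈ E := (mem_normalizer_iff.1 hl ⟨x₀, hEL hx₀⟩).1 hx₀
    have hlx1 : (l : G) * x₀ * (l : G)⁻¹ ≠ 1 := fun e => hx₀1 (by simpa using e)
    obtain ⟨q, hqS, hq⟩ := htrans _ hlx hlx1
    have hql : q⁻¹ * (l : G) ∈ E := by
      rw [← hcent x₀ hx₀ hx₀1, mem_centralizer_singleton_iff]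
      calc q⁻¹ * l * x₀ = q⁻¹ * (l * x₀ * (l : G)⁻¹) * l := by group
        _ = x₀ * (q⁻¹ * l) := by rw [← hq]; group
    have hqL : q ∈ L := by
      have := L.mul_mem l.2 (L.inv_mem (hEL hql))
      rwa [show (l : G) * (q⁻¹ * l)⁻¹ = q by group] at this
    have htL : t ∈ L := by
      rcases hS q hqS with h | h | h
      · exfalso
        apply hlE
        rw [h, inv_one, one_mul] at hql
        exact hql
      · exact h ▸ hqL
      · exact h ▸ L.mul_mem hqL hqL
    intro g
    have hg2 : g ^ 2 ∈ L := by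
      let Eg : Subgroup G := E.map (MulAut.conj g).toMonoidHom
      have hEgL : Eg ≤ L := by
        rintro _ ⟨y, hy, rfl⟩
        exact hLn.conj_mem y (hEL hy) g
      let PLg : Sylow 3 L :=
        ((MulAut.conj g • P : Sylow 3 G)).subtype (by
          refine le_trans (le_of_eq ?_) hEgL
          show MulAut.conj g • (P : Subgroup G) = _
          rw [hPE]
          rfl)
      obtain ⟨l', hl'⟩ := MulAction.exists_smul_eq L PLg PL
      have hx' : (l' : G) * (g * x₀ * g⁻¹) * (l' : G)⁻¹ ∈ E := by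
        have hm : (⟨g * x₀ * g⁻¹, hEgL ⟨x₀, hx₀, rfl⟩⟩ : L) ∈ (PLg : Subgroup L) := by
          show g * x₀ * g⁻¹ ∈ MulAut.conj g • (P : Subgroup G)
          rw [hPE]
          exact ⟨x₀, hx₀, rfl⟩
        have h1 : (MulAut.conj l') (⟨g * x₀ * g⁻¹, hEgL ⟨x₀, hx₀, rfl⟩⟩ : L) ∈
            ((l' • PLg : Sylow 3 L) : Subgroup L) := ⟨_, hm, rfl⟩
        rw [hl', hPL] at h1
        exact h1
      obtain ⟨q', hqS', hq'⟩ := htrans _ hx' (fun e => hx₀1 (by simpa using e))
      have hqg : q'⁻¹ * ((l' : G) * g) ∈ E := by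
        rw [← hcent x₀ hx₀ hx₀1, mem_centralizer_singleton_iff]
        calc q'⁻¹ * (l' * g) * x₀ = q'⁻¹ * (l' * (g * x₀ * g⁻¹) * (l' : G)⁻¹) * (l' * g) := by group
          _ = x₀ * (q'⁻¹ * (l' * g)) := by rw [← hq']; group
      have hgq : (QuotientGroup.mk g : G ⧸ L) = QuotientGroup.mk q' := by
        have h1 : (QuotientGroup.mk (q'⁻¹ * ((l' : G) * g)) : G ⧸ L) = 1 :=
          (QuotientGroup.eq_one_iff _).2 (hEL hqg)
        rw [QuotientGroup.mk_mul, QuotientGroup.mk_mul, (QuotientGroup.eq_one_iff (l' : G)).2 l'.2,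
          one_mul, QuotientGroup.mk_inv, inv_mul_eq_one] at h1
        exact h1.symm
      rw [← QuotientGroup.eq_one_iff, QuotientGroup.mk_pow, hgq, ← QuotientGroup.mk_pow,
        QuotientGroup.eq_one_iff, pow_two]
      rcases hS q' hqS' with h | h | h
      · rw [h, one_mul]; exact one_mem _
      · rw [h, ht]; exact one_mem _
      · rw [h]; exact htL
    rcases hord ⟨g ^ 2, hg2⟩ with h | h | h <;>
      have h' : _ = ((1 : L) : G) := congrArg Subtype.val h <;>
      rw [SubmonoidClass.coe_pow, ← pow_mul, OneMemClass.coe_one] at h'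
    · exact .inr (.inl h')
    · exact .inl h'
    · exact .inr (.inr h')
  · right; left
    push Not at hcl
    have hLtop : L = ⊤ := by
      refine eq_top_iff.2 fun g _ => ?_
      have ho : ∀ y : L, y ≠ 1 → y ^ 3 = 1 → orderOf y = 3 := fun y hy h => orderOf_eq_prime h hy
      obtain ⟨c, hc⟩ := hcl ⟨x₀, hEL hx₀⟩ ⟨g * x₀ * g⁻¹, hLn.conj_mem _ (hEL hx₀) g⟩
        (ho _ (fun e => hx₀1 (congrArg Subtype.val e)) (Subtype.ext (h3 _ hx₀)))
        (ho _ (fun e => hx₀1 (by simpa using congrArg Subtype.val e)) (Subtype.ext (by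
          show (g * x₀ * g⁻¹) ^ 3 = 1
          rw [conj_pow, h3 _ hx₀, mul_one, mul_inv_cancel])))
      have hc' : (c : G) * x₀ * (c : G)⁻¹ = g * x₀ * g⁻¹ := congrArg Subtype.val hc
      have hmem : (c : G)⁻¹ * g ∈ E := by
        rw [← hcent x₀ hx₀ hx₀1, mem_centralizer_singleton_iff]
        calc (c : G)⁻¹ * g * x₀ = (c : G)⁻¹ * (g * x₀ * g⁻¹) * g := by group
          _ = x₀ * ((c : G)⁻¹ * g) := by rw [← hc']; group
      have := L.mul_mem c.2 (hEL hmem)
      rwa [show (c : G) * ((c : G)⁻¹ * g) = g by group] at this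
    have hcn : (commutator G).Normal := inferInstance
    by_contra hne
    have hbot : commutator G = ⊥ := by
      by_contra hb
      exact hne ((hLmin _ hcn hb (hLtop ▸ le_top)).trans hLtop)
    refine hLE fun l _ => ?_
    rw [← hcent x₀ hx₀ hx₀1, mem_centralizer_singleton_iff]
    have := mem_bot.1 (hbot ▸ (commutator_def G ▸ commutator_mem_commutator (mem_top l) (mem_top x₀) :
      ⁅l, x₀⁆ ∈ commutator G))
    rwa [commutatorElement_def, show l * x₀ * l⁻¹ * x₀⁻¹ = (l * x₀) * (x₀ * l)⁻¹ by group,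
      mul_inv_eq_one] at this

end CfsgLib.ClassicalMax.Hess
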