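import Cfsg.Agent.Lib.ClassicalMax.HessMax.Cyc

/-!
The powers of the product of `diag (1, ω, ω²)` with a matrix of order eight, and certificates that the sixth,
eighth and tenth are not scalar in characteristic at least seven.
-/

set_option autoImplicit false
set_option maxRecDepth 100000

namespace CfsgLib.ClassicalMax.Hess

open Matrix

/-- `12` times the matrix of order eight -/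
def iH : Matrix (Fin 3) (Fin 3) E4 :=
  !![⟨⟨0, 0⟩, ⟨8, 4⟩⟩, ⟨⟨0, 0⟩, ⟨2, 4⟩⟩, ⟨⟨0, 0⟩, ⟨2, 4⟩⟩;
    ⟨⟨0, 0⟩, ⟨2, 4⟩⟩, ⟨⟨-6, 0⟩, ⟨2, -2⟩⟩, ⟨⟨6, 0⟩, ⟨2, -2⟩⟩;
    ⟨⟨0, 0⟩, ⟨2, 4⟩⟩, ⟨⟨6, 0⟩, ⟨2, -2⟩⟩, ⟨⟨-6, 0⟩, ⟨2, -2⟩⟩]

/-- `diag (1, ω, ω²)` over `ℤ[ω, ρ]` -/
def iX4 : Matrix (Fin 3) (Fin 3) E4 := !![1, 0, 0; 0, ⟨⟨0, 1⟩, 0⟩, 0; 0, 0, ⟨⟨-1, -1⟩, 0⟩]

/-- power 1 -/
def iP1 : Matrix (Fin 3) (Fin 3) E4 :=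
  !![⟨⟨0, 0⟩, ⟨8, 4⟩⟩, ⟨⟨0, 0⟩, ⟨-4, -2⟩⟩, ⟨⟨0, 0⟩, ⟨2, -2⟩⟩;
    ⟨⟨0, 0⟩, ⟨2, 4⟩⟩, ⟨⟨0, -6⟩, ⟨2, 4⟩⟩, ⟨⟨-6, -6⟩, ⟨-4, -2⟩⟩;
    ⟨⟨0, 0⟩, ⟨2, 4⟩⟩, ⟨⟨0, 6⟩, ⟨2, 4⟩⟩, ⟨⟨6, 6⟩, ⟨-4, -2⟩⟩]

/-- power 2 -/
def iP2 : Matrix (Fin 3) (Fin 3) E4 :=
  !![⟨⟨-120, -96⟩, ⟨0, 0⟩⟩, ⟨⟨24, 48⟩, ⟨0, 36⟩⟩, ⟨⟨-48, -24⟩, ⟨36, 36⟩⟩;
    ⟨⟨24, -24⟩, ⟨36, 0⟩⟩, ⟨⟨24, 12⟩, ⟨72, 0⟩⟩, ⟨⟨-84, -60⟩, ⟨0, 0⟩⟩;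
    ⟨⟨24, -24⟩, ⟨-36, 0⟩⟩, ⟨⟨24, 84⟩, ⟨0, 0⟩⟩, ⟨⟨-12, 12⟩, ⟨0, -72⟩⟩]

/-- power 3 -/
def iP3 : Matrix (Fin 3) (Fin 3) E4 :=
  !![⟨⟨432, 0⟩, ⟨-720, -1008⟩⟩, ⟨⟨864, 0⟩, ⟨144, 504⟩⟩, ⟨⟨0, 0⟩, ⟨-72, 72⟩⟩;
    ⟨⟨-864, -864⟩, ⟨360, -144⟩⟩, ⟨⟨432, -648⟩, ⟨-72, -576⟩⟩, ⟨⟨216, -216⟩, ⟨-288, -360⟩⟩;
    ⟨⟨0, 0⟩, ⟨-72, -144⟩⟩, ⟨⟨-432, -216⟩, ⟨-72, 288⟩⟩, ⟨⟨648, -648⟩, ⟨576, -360⟩⟩]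

/-- power 4 -/
def iP4 : Matrix (Fin 3) (Fin 3) E4 :=
  !![⟨⟨7776, 15552⟩, ⟨5184, 5184⟩⟩, ⟨⟨2592, -10368⟩, ⟨2592, 3888⟩⟩, ⟨⟨0, 2592⟩, ⟨-1296, -3888⟩⟩;
    ⟨⟨-12960, -2592⟩, ⟨1296, -2592⟩⟩, ⟨⟨-5184, -3888⟩, ⟨5184, 5184⟩⟩, ⟨⟨-3888, -3888⟩, ⟨-10368, -2592⟩⟩;
    ⟨⟨-2592, -2592⟩, ⟨3888, 2592⟩⟩, ⟨⟨0, 3888⟩, ⟨7776, 10368⟩⟩, ⟨⟨14256, 9072⟩, ⟨5184, 5184⟩⟩]

/-- power 5 -/
def iP5 : Matrix (Fin 3) (Fin 3) E4 :=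
  !![⟨⟨-46656, -93312⟩, ⟨36288, 119232⟩⟩, ⟨⟨-62208, -62208⟩, ⟨82944, 2592⟩⟩, ⟨⟨-124416, -31104⟩, ⟨44064, 33696⟩⟩;
    ⟨⟨0, 62208⟩, ⟨-80352, -82944⟩⟩, ⟨⟨62208, 54432⟩, ⟨106272, -36288⟩⟩, ⟨⟨-38880, 23328⟩, ⟨-57024, -44064⟩⟩;
    ⟨⟨31104, -93312⟩, ⟨-33696, 10368⟩⟩, ⟨⟨62208, 38880⟩, ⟨12960, 57024⟩⟩, ⟨⟨69984, 194400⟩, ⟨-25920, -75168⟩⟩]

/-- power 6 -/
def iP6 : Matrix (Fin 3) (Fin 3) E4 :=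
  !![⟨⟨155520, -2115072⟩, ⟨0, -1119744⟩⟩, ⟨⟨-590976, -808704⟩, ⟨-186624, -699840⟩⟩, ⟨⟨-311040, -528768⟩, ⟨-139968, 46656⟩⟩;
    ⟨⟨-217728, 590976⟩, ⟨-513216, 186624⟩⟩, ⟨⟨-964224, -1788480⟩, ⟨-93312, -1119744⟩⟩, ⟨⟨948672, -388800⟩, ⟨-746496, -933120⟩⟩;
    ⟨⟨528768, 217728⟩, ⟨-46656, -186624⟩⟩, ⟨⟨-1337472, -948672⟩, ⟨-186624, 746496⟩⟩, ⟨⟨-824256, -295488⟩, ⟨373248, -1399680⟩⟩]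

/-- power 8 -/
def iP8 : Matrix (Fin 3) (Fin 3) E4 :=
  !![⟨⟨-272097792, 47029248⟩, ⟨-141087744, -6718464⟩⟩, ⟨⟨83980800, 67184640⟩, ⟨83980800, 25194240⟩⟩, ⟨⟨-134369280, 83980800⟩, ⟨-8398080, 41990400⟩⟩;
    ⟨⟨-16796160, -83980800⟩, ⟨-58786560, -83980800⟩⟩, ⟨⟨47029248, 256981248⟩, ⟨-40310784, -208272384⟩⟩, ⟨⟨176359680, 176359680⟩, ⟨-67184640, -50388480⟩⟩;
    ⟨⟨-83980800, -218350080⟩, ⟨-41990400, -50388480⟩⟩, ⟨⟨0, -176359680⟩, ⟨16796160, 67184640⟩⟩, ⟨⟨240185088, 340962048⟩, ⟨60466176, 94058496⟩⟩]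

/-- power 10 -/
def iP10 : Matrix (Fin 3) (Fin 3) E4 :=
  !![⟨⟨32933910528, 34667274240⟩, ⟨27572576256, 14511882240⟩⟩, ⟨⟨-30434641920, -22654660608⟩, ⟨-725594112, -15177010176⟩⟩, ⟨⟨15398719488, -1975228416⟩, ⟨-4776827904, 2720977920⟩⟩;
    ⟨⟨7779981312, 30434641920⟩, ⟨-14451416064, 725594112⟩⟩, ⟨⟨-9150547968, 37267319808⟩, ⟨13181626368, 14511882240⟩⟩, ⟨⟨11468418048, -6872988672⟩, ⟨8223399936, 10642046976⟩⟩;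
    ⟨⟨1975228416, 17373947904⟩, ⟨-2720977920, -7497805824⟩⟩, ⟨⟨-18341406720, -11468418048⟩, ⟨2418647040, -8223399936⟩⟩, ⟨⟨-32913755136, 4373720064⟩, ⟨30958682112, 2297714688⟩⟩]

lemma iP1_eq : iH * iX4 = iP1 := by decide

lemma iP2_step : iP1 * iP1 = iP2 := by decide

lemma iP3_step : iP2 * iP1 = iP3 := by decide

lemma iP4_step : iP2 * iP2 = iP4 := by decide

lemma iP5_step : iP4 * iP1 = iP5 := by decide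

lemma iP6_step : iP3 * iP3 = iP6 := by decide

lemma iP8_step : iP4 * iP4 = iP8 := by decide

lemma iP10_step : iP5 * iP5 = iP10 := by decide

lemma iP1_pow_two : iP1 ^ 2 = iP2 := by rw [pow_two, iP2_step]

lemma iP1_pow_three : iP1 ^ 3 = iP3 := by rw [pow_succ, pow_two, iP2_step, iP3_step]

lemma iP1_pow_four : iP1 ^ 4 = iP4 := by rw [show (4 : ℕ) = 2 + 2 from rfl, pow_add, iP1_pow_two, iP4_step]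

lemma iP1_pow_five : iP1 ^ 5 = iP5 := by rw [pow_succ, iP1_pow_four, iP5_step]

lemma iP1_pow_six : iP1 ^ 6 = iP6 := by rw [show (6 : ℕ) = 3 + 3 from rfl, pow_add, iP1_pow_three, iP6_step]

lemma iP1_pow_eight : iP1 ^ 8 = iP8 := by rw [show (8 : ℕ) = 4 + 4 from rfl, pow_add, iP1_pow_four, iP8_step]

lemma iP1_pow_ten : iP1 ^ 10 = iP10 := by rw [show (10 : ℕ) = 5 + 5 from rfl, pow_add, iP1_pow_five, iP10_step]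

lemma iP6_cert : iP6 0 1 * ⟨⟨13167875255250450382848, 15601069595894555344896⟩, ⟨-5367340457303172710400, -14384472425572502863872⟩⟩ +
    iP6 1 2 * ⟨⟨105843739097701289558016, 222359177684627254149120⟩, ⟨-136690215840321830387712, 3082079274866332139520⟩⟩ =
      ⟨⟨2 ^ 24 * 3 ^ 22 * 5 ^ 0, 0⟩, 0⟩ := by decide

lemma iP8_cert : iP8 0 1 * ⟨⟨-44222237417991851483332608000, 5850026923007890667077632000⟩, ⟨19681870240967225379913728000, -32869219067408741629427712000⟩⟩ +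
    iP8 1 2 * ⟨⟨4433490191107312456826880000, -39980581187664156976742400000⟩, ⟨-2540962915651639962501120000, -15652934756358470510837760000⟩⟩ =
      ⟨⟨2 ^ 32 * 3 ^ 32 * 5 ^ 4, 0⟩, 0⟩ := by decide

lemma iP10_cert : iP10 0 2 * ⟨⟨5649184346851410871950520573258333421568, 1337632226306074866811720996466045485056⟩, ⟨1999079155662808326922644033106794774528, -80198307870215082622901335800510676992⟩⟩ +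
    iP10 1 2 * ⟨⟨-25077656848712863953503442592067066265600, -17419398729201403820029012934069971845120⟩, ⟨-4512460640708549458302907074339667968000, 10562555923224844333807741565025480867840⟩⟩ =
      ⟨⟨2 ^ 40 * 3 ^ 38 * 5 ^ 0, 0⟩, 0⟩ := by decide

end CfsgLib.ClassicalMax.Hess
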