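import Cfsg.Agent.Lib.ClassicalMax.HessMax.Quot
import Cfsg.Agent.Lib.ClassicalMax.HessMax.Group
import Cfsg.Agent.Lib.ClassicalMax.HessMax.Word
import Cfsg.Agent.Lib.FT.Final

/-!
A group without transvections containing the Hessian group of order `216` normalises the extraspecial group:
the isolated case by Glauberman's theorem, the case of a reflection by transfer, the characterisation of `A₆`
and a word of excessive order.
-/

set_option autoImplicit false
set_option linter.unusedSectionVars false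
set_option linter.flexible false

namespace CfsgLib.ClassicalMax.Hess

open Matrix
open scoped commutatorElement

variable {F : Type*} [Field F] {p : ℕ} [hp : Fact p.Prime] [CharP F p] {w : F} {hw : w ^ 2 + w + 1 = 0}
  {M : Subgroup (GL (Fin 3) F)}

lemma val_mul (a b : M) : val (a * b) = val a * val b := by simp [val]

lemma val_ext {a b : M} (h : val a = val b) : a = b := Subtype.ext (Units.ext h)

lemma val_one' : val (1 : M) = 1 := by simp [val]

/-- a non-trivial common fixed point, one generator at a time -/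
lemma fixed_three {G : Type*} [Group G] {K : Subgroup G} [K.Normal]
    (hK : ∀ a ∈ K, ∀ b ∈ K, a * b = b * a) (h3 : ∀ a ∈ K, a ^ 3 = 1) {x : G} (hx : x ^ 3 = 1) {a : G}
    (ha : a ∈ K) (ha1 : a ≠ 1) :
    ∃ b ∈ K, b ≠ 1 ∧ x * b = b * x ∧ ∀ y, x * y = y * x → a * y = y * a → b * y = y * b := by
  classical
  letI : CommGroup K :=
    { (inferInstance : Group K) with mul_comm := fun a b => Subtype.ext (hK a a.2 b b.2) }
  let f : K →* K :=
    { toFun := fun a => ⟨x * a * x⁻¹, ‹K.Normal›.conj_mem a a.2 x⟩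
      map_one' := Subtype.ext (by simp)
      map_mul' := fun a b => Subtype.ext (by simp [mul_assoc]) }
  let D : K → K := fun a => f a / a
  have hff : ∀ b : K, f (f (f b)) = b := fun b => Subtype.ext (by
    show x * (x * (x * (b : G) * x⁻¹) * x⁻¹) * x⁻¹ = b
    calc x * (x * (x * (b : G) * x⁻¹) * x⁻¹) * x⁻¹ = (x * x * x) * b * (x * x * x)⁻¹ := by group
      _ = b := by rw [← pow_two, ← pow_succ, hx, one_mul, inv_one, mul_one])
  have hc3 : ∀ b : K, b ^ 3 = 1 := fun b => Subtype.ext (h3 b b.2)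
  have hDDD : ∀ b : K, D (D (D b)) = 1 := fun b => by
    show f (f (f b / b) / (f b / b)) / (f (f b / b) / (f b / b)) = 1
    simp only [map_div, hff]
    have e1 := hc3 (f b)
    have e2 := hc3 (f (f b))
    calc b / f (f b) / (f (f b) / f b) / (f (f b) / f b / (f b / b))
        = (f b) ^ 3 / (f (f b)) ^ 3 := by
          apply Additive.ofMul.injective
          simp only [ofMul_div, ofMul_pow]
          abel
      _ = 1 := by rw [e1, e2, div_one]
  have hcomm : ∀ {y : G} (b : K), x * y = y * x → (b : G) * y = y * b → ((D b : K) : G) * y = y * (D b : K) := by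
    intro y b hxy hby
    have e : ((D b : K) : G) = x * (b : G) * x⁻¹ * (b : G)⁻¹ := by
      show ((f b / b : K) : G) = _
      rw [div_eq_mul_inv]
      rfl
    rw [e]
    have c1 : Commute x y := hxy
    have c2 : Commute (b : G) y := hby
    exact (((c1.mul_left c2).mul_left c1.inv_left).mul_left c2.inv_left).eq
  have hfix : ∀ b : K, D b = 1 → x * (b : G) = b * x := fun b hb => by
    have := congrArg Subtype.val (div_eq_one.1 hb)
    exact mul_inv_eq_iff_eq_mul.1 this
  have hne : ∀ b : K, b ≠ 1 → (b : G) ≠ 1 := fun b hb e => hb (Subtype.ext e)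
  have hA : (⟨a, ha⟩ : K) ≠ 1 := fun e => ha1 (congrArg Subtype.val e)
  by_cases h1 : D ⟨a, ha⟩ = 1
  · exact ⟨a, ha, ha1, hfix _ h1, fun y _ hy => hy⟩
  by_cases h2 : D (D ⟨a, ha⟩) = 1
  · exact ⟨_, (D ⟨a, ha⟩).2, hne _ h1, hfix _ h2, fun y hxy hy => hcomm _ hxy hy⟩
  · exact ⟨_, (D (D ⟨a, ha⟩)).2, hne _ h2, hfix _ (hDDD _),
      fun y hxy hy => hcomm _ hxy (hcomm _ hxy hy)⟩

lemma smul_one_inj {c d : F} (h : c • (1 : Matrix (Fin 3) (Fin 3) F) = d • 1) : c = d := by
  simpa using congrFun (congrFun h 0) 0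

lemma eq_one_of_pow_three {c : F} {q : ℕ} (hq : q.Prime) (hq3 : q ≠ 3) (h1 : c ^ q = 1) (h2 : c ^ 3 = 1) :
    c = 1 :=
  orderOf_eq_one_iff.1 (Nat.eq_one_of_dvd_coprimes ((Nat.coprime_primes hq Nat.prime_three).2 hq3)
    (orderOf_dvd_of_pow_eq_one h1) (orderOf_dvd_of_pow_eq_one h2))

/-- elements commuting up to scalars with a power scalar of exponent prime to three commute -/
lemma comm_of_pow (h : Ctx p w hw M) {q : ℕ} (hq : q.Prime) (hq3 : q ≠ 3) {a b : M}
    (hab : (QuotientGroup.mk a : M ⧸ Zs M) * QuotientGroup.mk b = QuotientGroup.mk b * QuotientGroup.mk a)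
    (ha : (QuotientGroup.mk a : M ⧸ Zs M) ^ q = 1) : val a * val b = val b * val a := by
  rw [← QuotientGroup.mk_mul, ← QuotientGroup.mk_mul, mk_eq, val_mul, val_mul] at hab
  obtain ⟨c, hc⟩ := hab
  rw [← QuotientGroup.mk_pow, ← QuotientGroup.mk_one, mk_eq, val_one', Gens.val_pow] at ha
  obtain ⟨d, hd⟩ := ha
  have hdet : ∀ g : M, (val g).det = 1 := fun g => h.det _ g.2
  have hc3 : c ^ 3 = 1 := by
    have := congrArg Matrix.det hc
    rw [Matrix.det_mul, Matrix.det_smul, Matrix.det_mul, hdet, hdet, Fintype.card_fin] at this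
    linear_combination -this
  have hk : ∀ k : ℕ, val a ^ k * val b = c ^ k • (val b * val a ^ k) := by
    intro k
    induction k with
    | zero => simp
    | succ k ih =>
      rw [pow_succ, mul_assoc, hc, mul_smul_comm, ← mul_assoc, ih, smul_mul_assoc, smul_smul, mul_assoc,
        ← pow_succ, pow_succ' c]
  have hd0 : d ≠ 0 := by
    rintro rfl
    have := congrArg Matrix.det hd
    rw [Matrix.det_pow, hdet, one_pow, zero_smul, Matrix.det_zero] at this
    exact one_ne_zero this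
  have h1 := hk q
  rw [hd, smul_mul_assoc, one_mul, mul_smul_comm, mul_one, smul_smul] at h1
  have hb0 : val b ≠ 0 := (b : GL (Fin 3) F).ne_zero
  have h2 : (d - c ^ q * d) • val b = 0 := by rw [sub_smul, ← h1, sub_self]
  have hcq : c ^ q = 1 := mul_right_cancel₀ hd0 (by
    linear_combination -((smul_eq_zero.1 h2).resolve_right hb0))
  rw [hc, eq_one_of_pow_three hq hq3 hcq hc3, one_smul]

lemma val_commutator_XY {h : Ctx p w hw M} (G : Gens h) :
    val (G.gX * G.gY * G.gX⁻¹ * G.gY⁻¹) = w • 1 := by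
  have e : ∀ g : M, val g * val g⁻¹ = 1 := fun g => by rw [← val_mul, mul_inv_cancel, val_one']
  rw [val_mul, val_mul, val_mul, G.vX, G.vY, mX_mY, smul_mul_assoc, smul_mul_assoc, mul_assoc (mY w hw),
    ← G.vX, e, mul_one, ← G.vY, e]

lemma fourier_diag (h3 : (3 : F) ≠ 0) (hw : w ^ 2 + w + 1 = 0) (a b c : F) :
    (!![1, 1, 1; 1, w, -1 - w; 1, -1 - w, w] : Matrix (Fin 3) (Fin 3) F) * !![a, 0, 0; 0, b, 0; 0, 0, c] =
      ((3 : F)⁻¹ • !![a + b + c, a + w ^ 2 * b + w * c, a + w * b + w ^ 2 * c;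
        a + w * b + w ^ 2 * c, a + b + c, a + w ^ 2 * b + w * c;
        a + w ^ 2 * b + w * c, a + w * b + w ^ 2 * c, a + b + c]) *
      !![1, 1, 1; 1, w, -1 - w; 1, -1 - w, w] := by
  have key : (3 : F) • ((!![1, 1, 1; 1, w, -1 - w; 1, -1 - w, w] : Matrix (Fin 3) (Fin 3) F) *
      !![a, 0, 0; 0, b, 0; 0, 0, c]) =
      !![a + b + c, a + w ^ 2 * b + w * c, a + w * b + w ^ 2 * c;
        a + w * b + w ^ 2 * c, a + b + c, a + w ^ 2 * b + w * c;
        a + w ^ 2 * b + w * c, a + w * b + w ^ 2 * c, a + b + c] *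
      !![1, 1, 1; 1, w, -1 - w; 1, -1 - w, w] := by
    ext i j
    fin_cases i <;> fin_cases j <;> simp [Matrix.mul_apply, Fin.sum_univ_three] <;> grind
  rw [smul_mul_assoc, ← key, smul_smul, inv_mul_cancel₀ h3, one_smul]

/-- The case without reflections. -/
theorem nrm_of_isolated [Finite F] (h : Ctx p w hw M)
    (hinv : ∀ z : Cs M, z * z = 1 → z = 1 ∨ z = cT h) : Nrm w hw M := by
  classical
  set G := gens h
  set t : M := ⟨gT, h.gT_mem⟩ with ht
  have htt : t * t = 1 := val_ext (by rw [val_mul, val_one']; exact mT_mul_mT)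
  have ht1 : t ≠ 1 := fun e => by
    have := congrFun (congrFun (congrArg val e) 1) 1
    simp [val, t, gT, mT] at this
  have hord : orderOf t = 2 := orderOf_eq_prime (by rw [pow_two]; exact htt) ht1
  obtain ⟨N, hNn, hNodd, hNc⟩ := exists_odd_normal hord (fun z hz hzt => by
    have hzc : (z : GL (Fin 3) F) ∈ Cs M := ⟨z.2, Subgroup.mem_centralizer_singleton_iff.2
      (congrArg Subtype.val hzt)⟩
    rcases hinv ⟨z, hzc⟩ (Subtype.ext (congrArg Subtype.val hz : _)) with e | e
    · exact .inl (Subtype.ext (congrArg (fun u : Cs M => (u : GL (Fin 3) F)) e))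
    · exact .inr (Subtype.ext (congrArg (fun u : Cs M => (u : GL (Fin 3) F)) e)))
  haveI := hNn
  have hXN : G.gX ∈ N := by
    have h1 := hNc G.gX
    have e : t * G.gX * t⁻¹ * G.gX⁻¹ = G.gX := by
      have e' : t * G.gX = G.gX * G.gX * t := val_ext (by
        rw [val_mul, val_mul, val_mul, G.vX]
        show mT * mX w hw = mX w hw * mX w hw * mT
        rw [mT_eq (hw := hw), mX, ← Matrix.map_mul, iT_iX, Matrix.map_mul, Matrix.map_mul])
      rw [e']; group
    rwa [e] at h1
  let Nb : Subgroup (M ⧸ Zs M) := N.map (QuotientGroup.mk' (Zs M))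
  haveI hNbn : Nb.Normal := hNn.map _ (QuotientGroup.mk'_surjective _)
  have hodd : Odd (Nat.card Nb) := hNodd.of_dvd_nat (Subgroup.card_map_dvd N _)
  haveI hsol : Group.IsSolvable Nb := CfsgLib.FT.solvable_of_odd (G := Nb) hodd
  -- the last non-trivial term of the derived series
  obtain ⟨n, hn, hn1⟩ : ∃ n, derivedSeries Nb n ≠ ⊥ ∧ derivedSeries Nb (n + 1) = ⊥ := by
    obtain ⟨m, hm⟩ := hsol.solvable
    have h0 : derivedSeries Nb 0 ≠ ⊥ := fun e => by
      have hmem : (⟨G.bx, G.gX, hXN, rfl⟩ : Nb) ∈ (⊥ : Subgroup Nb) := e ▸ Subgroup.mem_top _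
      exact G.bx_ne_one (congrArg Subtype.val (Subgroup.mem_bot.1 hmem))
    have hex : ∃ m, derivedSeries Nb m = ⊥ := ⟨m, hm⟩
    obtain hz | ⟨k, hk⟩ : Nat.find hex = 0 ∨ ∃ k, Nat.find hex = k + 1 := by
      rcases Nat.find hex with _ | k
      · exact .inl rfl
      · exact .inr ⟨k, rfl⟩
    · exact absurd (hz ▸ Nat.find_spec hex) h0
    · exact ⟨k, Nat.find_min hex (by omega), hk ▸ Nat.find_spec hex⟩
  let K : Subgroup (M ⧸ Zs M) := (derivedSeries Nb n).map Nb.subtype
  haveI : (derivedSeries Nb n).Characteristic := inferInstance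
  haveI hKn : K.Normal := ConjAct.normal_of_characteristic_of_normal
  have hK0 : K ≠ ⊥ := fun e => hn ((Subgroup.map_eq_bot_iff_of_injective _ Nb.subtype_injective).1 e)
  have hKc : ∀ a ∈ K, ∀ b ∈ K, a * b = b * a := by
    rintro _ ⟨a, ha, rfl⟩ _ ⟨b, hb, rfl⟩
    have : ⁅a, b⁆ ∈ (⊥ : Subgroup Nb) := by
      rw [← hn1, derivedSeries_succ]
      exact Subgroup.commutator_mem_commutator ha hb
    rw [Subgroup.mem_bot, commutatorElement_eq_one_iff_mul_comm] at this
    rw [← map_mul, ← map_mul, this]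
  obtain ⟨q, hq, hqd⟩ := Nat.exists_prime_and_dvd
    (show Nat.card K ≠ 1 from fun e => hK0 (Subgroup.card_eq_one.1 e))
  haveI := Fact.mk hq
  let K1 : Subgroup (M ⧸ Zs M) :=
    { carrier := {a | a ∈ K ∧ a ^ q = 1}
      one_mem' := ⟨one_mem _, one_pow _⟩
      mul_mem' := fun {a b} ha hb => ⟨mul_mem ha.1 hb.1, by
        rw [(show Commute a b from hKc a ha.1 b hb.1).mul_pow, ha.2, hb.2, one_mul]⟩
      inv_mem' := fun {a} ha => ⟨inv_mem ha.1, by rw [inv_pow, ha.2, inv_one]⟩ }
  haveI hK1n : K1.Normal := ⟨fun a ha g => ⟨hKn.conj_mem a ha.1 g, by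
    rw [conj_pow, ha.2, mul_one, mul_inv_cancel]⟩⟩
  obtain ⟨a0, ha0⟩ := exists_prime_orderOf_dvd_card' q hqd
  have ha0m : (a0 : M ⧸ Zs M) ∈ K1 := ⟨a0.2, by
    rw [← SubmonoidClass.coe_pow, ← ha0, pow_orderOf_eq_one]; rfl⟩
  have ha01 : (a0 : M ⧸ Zs M) ≠ 1 := fun e => by
    rw [show a0 = 1 from Subtype.ext e, orderOf_one] at ha0
    exact hq.one_lt.ne ha0
  by_cases hq3 : q = 3
  · subst hq3
    refine G.nrm ?_
    obtain ⟨b, hb, hb1, hby, -⟩ := fixed_three (K := K1) (fun a ha b hb => hKc a ha.1 b hb.1)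
      (fun a ha => ha.2) G.by_cube ha0m ha01
    obtain ⟨c, hc, hc1, hcx, hcy⟩ := fixed_three (K := K1) (fun a ha b hb => hKc a ha.1 b hb.1)
      (fun a ha => ha.2) G.bx_cube hb hb1
    have hcy' := hcy G.by' (G.comm_EB G.bx_mem G.by_mem) hby.symm
    have hcE : c ∈ G.EB := Subgroup.mem_centralizer_iff.2 fun z hz => by
      simp only [Set.mem_insert_iff, Set.mem_singleton_iff] at hz
      rcases hz with rfl | rfl
      · exact hcx
      · exact hcy'.symm
    have hbxK : G.bx ∈ K1 := by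
      obtain ⟨s, -, hs⟩ := G.S8_trans hcE hc1
      have := hK1n.conj_mem c hc s⁻¹
      rwa [← hs, show s⁻¹ * (s * G.bx * s⁻¹) * s⁻¹⁻¹ = G.bx by group] at this
    have hle : G.EB ≤ K1 := fun x hx => by
      by_cases hx1 : x = 1
      · rw [hx1]; exact one_mem _
      obtain ⟨s, -, hs⟩ := G.S8_trans hx hx1
      rw [← hs]
      exact hK1n.conj_mem _ hbxK s
    have hge : K1 ≤ G.EB := fun x hx => by
      rw [← G.centralizer_EB]
      exact Subgroup.mem_centralizer_iff.2 fun y hy => hKc y (hle hy).1 x hx.1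
    rw [← le_antisymm hge hle]
    exact hK1n
  · exfalso
    haveI : Fact (Nat.Prime 3) := ⟨Nat.prime_three⟩
    have hE : Cfsg.IsElementaryAbelian 3 G.EB :=
      ⟨⟨⟨fun a b => Subtype.ext (G.comm_EB a.2 b.2)⟩⟩, fun a ha => G.cube ha⟩
    have h3K : ¬ 3 ∣ Nat.card K1 := fun hd => by
      obtain ⟨a, ha⟩ := exists_prime_orderOf_dvd_card' 3 hd
      have : orderOf a ∣ q := orderOf_dvd_of_pow_eq_one (Subtype.ext (by rw [SubmonoidClass.coe_pow]; exact a.2.2))
      rw [ha] at this
      exact hq3 ((Nat.prime_dvd_prime_iff_eq Nat.prime_three hq).1 this).symm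
    obtain ⟨x, hx, hx1, hxK⟩ : ∃ x ∈ G.EB, x ≠ 1 ∧ ¬ K1 ⊓ Subgroup.centralizer {x} ≤ ⊥ := by
      by_contra hcon
      push Not at hcon
      have h9 := CfsgLib.Signalizer.le_of_centralizers hE (by rw [G.card_EB]; norm_num) h3K
        (fun g _ => by rw [Subgroup.normalizer_eq_top]; exact Subgroup.mem_top g) hcon
      exact ha01 (Subgroup.mem_bot.1 (h9 ha0m))
    obtain ⟨a, ha, ha1⟩ := SetLike.not_le_iff_exists.1 hxK
    rw [Subgroup.mem_inf, Subgroup.mem_centralizer_singleton_iff] at ha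
    rw [Subgroup.mem_bot] at ha1
    obtain ⟨s, -, hs⟩ := G.S8_trans hx hx1
    have hbK : s⁻¹ * a * s ∈ K1 := by simpa using hK1n.conj_mem a ha.1 s⁻¹
    have hbx : s⁻¹ * a * s * G.bx = G.bx * (s⁻¹ * a * s) := by
      calc s⁻¹ * a * s * G.bx = s⁻¹ * (a * (s * G.bx * s⁻¹)) * s := by group
        _ = s⁻¹ * ((s * G.bx * s⁻¹) * a) * s := by rw [hs, ha.2]
        _ = G.bx * (s⁻¹ * a * s) := by group
    obtain ⟨g, hg⟩ := QuotientGroup.mk_surjective (s⁻¹ * a * s)
    rw [← hg] at hbK hbx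
    have hgq : (QuotientGroup.mk g : M ⧸ Zs M) ^ q = 1 := hbK.2
    have hgX := comm_of_pow h hq hq3 (b := G.gX) hbx hgq
    have hgW := comm_of_pow h hq hq3 (b := G.gW * g * G.gW⁻¹) (by
      refine hKc _ hbK.1 _ ?_
      rw [QuotientGroup.mk_mul, QuotientGroup.mk_mul, QuotientGroup.mk_inv]
      exact hKn.conj_mem _ hbK.1 _) hgq
    rw [G.vX, mX_eq] at hgX
    have hw1 := w_ne_one (p := p) h.five hw
    have hw2 : -1 - w ≠ (1 : F) := fun e => by
      have : (-1 - w) * w = w := by rw [e, one_mul]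
      exact hw1 (by linear_combination -this - hw)
    have hw3 : -1 - w ≠ w := fun e => w_sq_ne (p := p) h.five hw (by linear_combination -hw - e)
    set A := val g with hA
    have e := fun i j : Fin 3 => congrArg (fun B : Matrix (Fin 3) (Fin 3) F => B i j) hgX
    have a01 := e 0 1; have a02 := e 0 2; have a10 := e 1 0
    have a12 := e 1 2; have a20 := e 2 0; have a21 := e 2 1
    simp [Matrix.mul_apply, Fin.sum_univ_three] at a01 a02 a10 a12 a20 a21
    have z : ∀ {x a b : F}, a ≠ b → x * a = x * b → x = 0 := fun {x a b} hab hh =>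
      by_contra fun hx => hab (mul_left_cancel₀ hx hh)
    have b01 : A 0 1 = 0 := z hw1 (by linear_combination a01)
    have b02 : A 0 2 = 0 := z hw2 (by linear_combination a02)
    have b10 : A 1 0 = 0 := z hw1 (by linear_combination -a10)
    have b12 : A 1 2 = 0 := z hw3 (by linear_combination a12)
    have b20 : A 2 0 = 0 := z hw2 (by linear_combination -a20)
    have b21 : A 2 1 = 0 := z hw3 (by linear_combination -a21)
    have hAd : A = !![A 0 0, 0, 0; 0, A 1 1, 0; 0, 0, A 2 2] := by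
      ext i j
      fin_cases i <;> fin_cases j <;> simp [b01, b02, b10, b12, b20, b21]
    set x0 := A 0 0
    set x1 := A 1 1
    set x2 := A 2 2
    -- the conjugate by the Fourier matrix is a circulant
    set c1 : F := x0 + w * x1 + w ^ 2 * x2 with hc1
    set c2 : F := x0 + w ^ 2 * x1 + w * x2 with hc2
    set C : Matrix (Fin 3) (Fin 3) F := !![x0 + x1 + x2, c2, c1; c1, x0 + x1 + x2, c2; c2, c1, x0 + x1 + x2]
      with hC
    have hW0 : val G.gW * A * val G.gW⁻¹ = (3 : F)⁻¹ • C := by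
      have h3 := three_ne (F := F) (p := p) h.five
      have e1 : val G.gW * A = ((3 : F)⁻¹ • C) * val G.gW := by
        rw [G.vW, mW_eq, hAd, hC, hc1, hc2, smul_mul_assoc, mul_smul_comm, fourier_diag h3 hw]
      rw [e1, mul_assoc, ← val_mul, mul_inv_cancel, val_one', mul_one]
    rw [val_mul, val_mul, hW0, hAd, mul_smul_comm, smul_mul_assoc] at hgW
    have hCC : !![x0, 0, 0; 0, x1, 0; 0, 0, x2] * C = C * !![x0, 0, 0; 0, x1, 0; 0, 0, x2] :=
      smul_right_injective _ (inv_ne_zero (three_ne (F := F) (p := p) h.five)) hgW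
    rw [hC] at hCC
    have f := fun i j : Fin 3 => congrArg (fun B : Matrix (Fin 3) (Fin 3) F => B i j) hCC
    have f01 := f 0 1; have f10 := f 1 0; have f02 := f 0 2
    have f20 := f 2 0; have f12 := f 1 2; have f21 := f 2 1
    simp [Matrix.mul_apply, Fin.sum_univ_three] at f01 f10 f02 f20 f12 f21
    have hall : x0 = x1 ∧ x1 = x2 := by
      by_contra hne
      have z' : ∀ {c a b : F}, a ≠ b → a * c = c * b → c = 0 := fun {c a b} hab hh =>
        by_contra fun hx => hab (mul_right_cancel₀ hx (hh.trans (mul_comm c b)))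
      obtain ⟨h1, h2⟩ : c1 = 0 ∧ c2 = 0 := by
        by_cases h01 : x0 = x1
        · have h12 : x1 ≠ x2 := fun e => hne ⟨h01, e⟩
          exact ⟨z' h12.symm f21, z' h12 f12⟩
        · exact ⟨z' (Ne.symm h01) f10, z' h01 f01⟩
      have h12 : x1 = x2 := by
        have : (w - w ^ 2) * (x1 - x2) = 0 := by linear_combination h1 - h2 - hc1 + hc2
        rcases mul_eq_zero.1 this with e | e
        · exact absurd (sub_eq_zero.1 e) (w_sq_ne (p := p) h.five hw)
        · exact sub_eq_zero.1 e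
      exact hne ⟨by linear_combination h1 - hc1 + w ^ 2 * h12 - x1 * hw, h12⟩
    apply ha1
    have hg1 : (QuotientGroup.mk g : M ⧸ Zs M) = 1 := by
      rw [← QuotientGroup.mk_one, mk_eq, val_one']
      refine ⟨x0, hAd.trans ?_⟩
      rw [← hall.2, ← hall.1]
      ext i j
      fin_cases i <;> fin_cases j <;> simp
    rw [hg] at hg1
    calc a = s * (s⁻¹ * a * s) * s⁻¹ := by group
      _ = 1 := by rw [hg1, mul_one, mul_inv_cancel]

end CfsgLib.ClassicalMax.Hess
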