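import Mathlib.GroupTheory.SpecificGroups.Alternating

/-!
Finite checks in `A₄`, `S₄`, `A₅` and characters of symmetric groups.
-/

set_option autoImplicit false
set_option maxRecDepth 100000

namespace CfsgLib.ClassicalMax.Hess

lemma alt_four_orders : ∀ x : alternatingGroup (Fin 4), x ^ 2 = 1 ∨ x ^ 3 = 1 := by decide

lemma alt_five_orders : ∀ x : alternatingGroup (Fin 5), x ^ 2 = 1 ∨ x ^ 3 = 1 ∨ x ^ 5 = 1 := by decide

lemma sym_four_sign : ∀ x : Equiv.Perm (Fin 4),
    (x ^ 3 = 1 → Equiv.Perm.sign x = 1) ∧ (x ^ 4 = 1 → x ^ 2 ≠ 1 → Equiv.Perm.sign x = -1) ∧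
      (Equiv.Perm.sign x = 1 → x ^ 2 = 1 ∨ x ^ 3 = 1) := by decide

lemma alt_four_commutators : ∀ r : alternatingGroup (Fin 4), r * r = 1 →
    ∃ a b : alternatingGroup (Fin 4), a * b * a⁻¹ * b⁻¹ = r := by decide

set_option maxHeartbeats 1000000 in
lemma sym_four_klein : ∀ x : Equiv.Perm (Fin 4), x * x = 1 → x ≠ 1 → Equiv.Perm.sign x = 1 →
    ∀ y : Equiv.Perm (Fin 4), y * y = 1 → y ≠ 1 → x ≠ y → Equiv.Perm.sign y = 1 →
      (∃ g, g * x = y * g ∧ g * y = x * y * g) ∧ ∃ τ, τ * x = x * τ ∧ τ * y = x * y * τ := by decide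

lemma hom_perm {α : Type*} [Fintype α] [DecidableEq α] {A : Type*} [CommGroup A]
    (ψ : Equiv.Perm α →* A) {x : Equiv.Perm α} (hx : Equiv.Perm.sign x = -1) (h1 : ψ x = 1) :
    ∀ σ, ψ σ = 1 := by
  classical
  by_cases hsw : ∃ a b : α, a ≠ b
  · obtain ⟨a, b, hab⟩ := hsw
    set c := ψ (Equiv.swap a b) with hc
    have hsw' : ∀ u v : α, u ≠ v → ψ (Equiv.swap u v) = c := fun u v huv => by
      obtain ⟨g, hg⟩ := isConj_iff.1 (Equiv.Perm.isConj_swap hab huv)
      rw [← hg, map_mul, map_mul, map_inv, mul_comm (ψ g), mul_assoc, mul_inv_cancel, mul_one]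
    have key : ∀ σ, ψ σ = if Equiv.Perm.sign σ = 1 then 1 else c := by
      intro σ
      induction σ using Equiv.Perm.swap_induction_on with
      | one => simp
      | swap_mul f u v huv ih =>
        rw [map_mul, map_mul, hsw' u v huv, ih, Equiv.Perm.sign_swap huv]
        have hcc : c * c = 1 := by rw [hc, ← map_mul, Equiv.swap_mul_self, map_one]
        rcases Int.units_eq_one_or (Equiv.Perm.sign f) with e | e <;> simp [e, hcc]
    have hc1 : c = 1 := by
      have := key x
      rw [h1, hx] at this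
      simpa using this.symm
    intro σ
    rw [key σ, hc1]
    simp
  · push Not at hsw
    intro σ
    rw [show σ = 1 from Equiv.ext fun a => hsw _ _, map_one]

lemma alt_five_not_comm : ∃ a b : alternatingGroup (Fin 5), a * b ≠ b * a := by decide

end CfsgLib.ClassicalMax.Hess
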