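import Cfsg.Agent.Lib.PSL2Sub.Classify
import Cfsg.Agent.Lib.ClassicalMax.HessMax.ProjFin
import Mathlib.GroupTheory.SpecificGroups.Alternating
import Mathlib.GroupTheory.SpecificGroups.Dihedral
import Mathlib.GroupTheory.SpecificGroups.Cyclic
import Mathlib.FieldTheory.IsAlgClosed.AlgebraicClosure

/-!
Finite subgroups of `PGL₂` of order prime to the characteristic: products of two elements of order three or
four, and four-groups in the kernel of a character.
-/

set_option autoImplicit false
set_option maxRecDepth 100000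

namespace CfsgLib.ClassicalMax.Hess

open CfsgLib.PSL2Sub Matrix

universe u v

/-- Cyclic, dihedral, `A₄`, `S₄` or `A₅`. -/
def Shape (G : Type u) [Group G] : Prop :=
  IsCyclic G ∨ (∃ A : Subgroup G, A.index = 2 ∧ IsCyclic A ∧ ∀ x, x ∉ A → x * x = 1) ∨
    Nonempty (G ≃* alternatingGroup (Fin 4)) ∨ Nonempty (G ≃* Equiv.Perm (Fin 4)) ∨
      Nonempty (G ≃* alternatingGroup (Fin 5))

lemma Shape.of_equiv {G : Type u} {H : Type v} [Group G] [Group H] (e : G ≃* H) (h : Shape H) : Shape G := by
  rcases h with h | ⟨A, hA, hc, ho⟩ | hf | hf | hf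
  · exact .inl (isCyclic_of_injective e.toMonoidHom e.injective)
  · refine .inr (.inl ⟨A.comap e.toMonoidHom, ?_, ?_, fun x hx => ?_⟩)
    · rw [Subgroup.index_comap_of_surjective _ e.surjective, hA]
    · haveI := hc
      refine isCyclic_of_injective
        (e.toMonoidHom.subgroupComap A) fun a b hab => Subtype.ext (e.injective ?_)
      exact congrArg Subtype.val hab
    · exact e.injective (by rw [map_mul, map_one]; exact ho _ hx)
  · obtain ⟨f⟩ := hf
    exact .inr (.inr (.inl ⟨e.trans f⟩))
  · obtain ⟨f⟩ := hf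
    exact .inr (.inr (.inr (.inl ⟨e.trans f⟩)))
  · obtain ⟨f⟩ := hf
    exact .inr (.inr (.inr (.inr ⟨e.trans f⟩)))

lemma shape_dihedral (n : ℕ) [NeZero n] : Shape (DihedralGroup n) := by
  refine .inr (.inl ⟨Subgroup.zpowers (DihedralGroup.r 1), ?_, inferInstance, ?_⟩)
  · have h1 := (Subgroup.zpowers (DihedralGroup.r (1 : ZMod n))).card_mul_index
    rw [Nat.card_zpowers, DihedralGroup.orderOf_r_one, DihedralGroup.nat_card] at h1
    exact Nat.eq_of_mul_eq_mul_left (Nat.pos_of_ne_zero (NeZero.ne n)) (h1.trans (mul_comm 2 n))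
  · rintro (i | i) hx
    · exact absurd ⟨(i.val : ℤ), by
        show DihedralGroup.r (1 : ZMod n) ^ (i.val : ℤ) = DihedralGroup.r i
        rw [zpow_natCast, DihedralGroup.r_one_pow, ZMod.natCast_zmod_val]⟩ hx
    · exact DihedralGroup.sr_mul_self i

theorem shape_of_coprime {F : Type u} [Field F] (p : ℕ) [hp : Fact p.Prime] [CharP F p]
    (H : Subgroup (PG F)) [Finite H] (hH : ¬ p ∣ Nat.card H) : Shape H := by
  classical
  let k := AlgebraicClosure F
  haveI : CharP k p := charP_of_injective_algebraMap (algebraMap F k).injective p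
  let f : PG F →* PG k := ProjGenLinGroup.map (n := Fin 2) (algebraMap F k)
  have hf : Function.Injective f := map_injective_pgl _
  let e : H ≃* H.map f := H.equivMapOfInjective f hf
  haveI : Finite (H.map f) := Finite.of_equiv _ e.toEquiv
  have hcard : ¬ p ∣ Nat.card (H.map f) := by rwa [← Nat.card_congr e.toEquiv]
  have hU : numUnip p (H.map f) = 0 := by
    have : IsEmpty {h : H.map f // h ≠ 1 ∧ (h : PG k) ^ p = 1} := ⟨fun ⟨h, h1, h2⟩ => by
      have h3 : h ^ p = 1 := Subtype.ext (by rw [SubmonoidClass.coe_pow, h2, Subgroup.coe_one])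
      exact hcard (orderOf_eq_prime h3 h1 ▸ orderOf_dvd_natCard h)⟩
    exact Nat.card_of_isEmpty
  refine Shape.of_equiv e ?_
  rcases classify_tame p (H.map f) hU with h | h | h | h | h
  · exact .inl h.1
  · obtain ⟨A, -, -, -, h2, ⟨g⟩⟩ := h
    haveI : NeZero (Nat.card A) := ⟨by omega⟩
    exact Shape.of_equiv g (shape_dihedral _)
  · exact .inr (.inr (.inl h))
  · exact .inr (.inr (.inr (.inl h)))
  · exact .inr (.inr (.inr (.inr h)))

/-- The product of two non-commuting elements of the same order three or four. -/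
theorem Shape.prod_order {G : Type u} [Group G] (h : Shape G) {a b : G} {m : ℕ}
    (hm : m = 3 ∨ m = 4) (ha : orderOf a = m) (hb : orderOf b = m) (hne : a * b ≠ b * a) :
    (a * b) ^ 2 = 1 ∨ (a * b) ^ 3 = 1 ∨ (m = 3 ∧ (a * b) ^ 5 = 1) := by
  have no4 : ∀ {x : G}, m = 4 → orderOf x = m → (x ^ 2 = 1 ∨ x ^ 3 = 1 ∨ x ^ 5 = 1) → False := by
    rintro x rfl hx (h | h | h) <;> have := orderOf_dvd_of_pow_eq_one h <;> rw [hx] at this <;>
      norm_num at this
  rcases h with h | ⟨A, hA, hc, ho⟩ | hf | hf | hf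
  · letI := h.commGroup
    exact absurd (mul_comm a b) hne
  · have hin : ∀ x : G, orderOf x = m → x ∈ A := fun x hx => by
      by_contra hxA
      have := orderOf_dvd_of_pow_eq_one ((pow_two x).trans (ho x hxA))
      rcases hm with rfl | rfl <;> rw [hx] at this <;> norm_num at this
    letI := hc.commGroup
    exact absurd (congrArg Subtype.val
      (mul_comm (⟨a, hin a ha⟩ : A) ⟨b, hin b hb⟩)) hne
  · obtain ⟨f⟩ := hf
    rcases alt_four_orders (f (a * b)) with h | h
    · exact .inl (f.injective (by rw [map_pow, h, map_one]))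
    · exact .inr (.inl (f.injective (by rw [map_pow, h, map_one])))
  · obtain ⟨f⟩ := hf
    have hs : Equiv.Perm.sign (f (a * b)) = 1 := by
      have hpow : ∀ x : G, orderOf x = m → f x ^ m = 1 := fun x hx => by
        rw [← map_pow, ← hx, pow_orderOf_eq_one, map_one]
      rw [map_mul, map_mul]
      rcases hm with rfl | rfl
      · rw [(sym_four_sign _).1 (hpow a ha), (sym_four_sign _).1 (hpow b hb), one_mul]
      · have h2 : ∀ x : G, orderOf x = 4 → f x ^ 2 ≠ 1 := fun x hx e => by
          have := orderOf_dvd_of_pow_eq_one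
            (f.injective (by rw [map_pow, e, map_one]) : x ^ 2 = 1)
          rw [hx] at this
          norm_num at this
        rw [(sym_four_sign _).2.1 (hpow a ha) (h2 a ha), (sym_four_sign _).2.1 (hpow b hb) (h2 b hb)]
        rfl
    rcases (sym_four_sign _).2.2 hs with h | h
    · exact .inl (f.injective (by rw [map_pow, h, map_one]))
    · exact .inr (.inl (f.injective (by rw [map_pow, h, map_one])))
  · obtain ⟨f⟩ := hf
    have hall : ∀ x : G, x ^ 2 = 1 ∨ x ^ 3 = 1 ∨ x ^ 5 = 1 := fun x => by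
      rcases alt_five_orders (f x) with h | h | h
      · exact .inl (f.injective (by rw [map_pow, h, map_one]))
      · exact .inr (.inl (f.injective (by rw [map_pow, h, map_one])))
      · exact .inr (.inr (f.injective (by rw [map_pow, h, map_one])))
    rcases hm with rfl | rfl
    · rcases hall (a * b) with h | h | h
      · exact .inl h
      · exact .inr (.inl h)
      · exact .inr (.inr ⟨rfl, h⟩)
    · exact (no4 rfl ha (hall a)).elim

/-- A four-group in the kernel of a character that is non-trivial on an involution. -/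
theorem Shape.klein {G : Type u} [Group G] [Finite G] (h : Shape G) {A : Type*} [CommGroup A]
    (χ : G →* A) {x y r : G} (hx : x * x = 1) (hy : y * y = 1) (hxy : x * y = y * x) (hx1 : x ≠ 1)
    (hy1 : y ≠ 1) (hne : x ≠ y) (hχx : χ x = 1) (hχy : χ y = 1) (hr : r * r = 1) (hχr : χ r ≠ 1) :
    (∃ z, (z = x ∨ z = y ∨ z = x * y) ∧ ∀ g, g * z = z * g) ∨
      ((∃ g, g * x = y * g ∧ g * y = x * y * g) ∧ ∃ τ, τ * x = x * τ ∧ τ * y = x * y * τ) := by
  have uniq : ∀ {B : Subgroup G}, IsCyclic B → ∀ {u v : G}, u ∈ B → v ∈ B → u * u = 1 → v * v = 1 →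
      u ≠ 1 → v ≠ 1 → u = v := by
    intro B hB u v hu hv hu2 hv2 hu1 hv1
    classical
    haveI := hB
    haveI : Fintype B := Fintype.ofFinite _
    by_contra huv
    have h2 := IsCyclic.card_pow_eq_one_le (α := B) (n := 2) two_pos
    have hle : ({1, ⟨u, hu⟩, ⟨v, hv⟩} : Finset B) ⊆ Finset.univ.filter fun a => a ^ 2 = 1 := by
      intro a ha
      simp only [Finset.mem_insert, Finset.mem_singleton] at ha
      simp only [Finset.mem_filter, Finset.mem_univ, true_and, pow_two]
      rcases ha with rfl | rfl | rfl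
      · exact mul_one 1
      · exact Subtype.ext hu2
      · exact Subtype.ext hv2
    have h3 := Finset.card_le_card hle
    rw [Finset.card_eq_three.2 ⟨1, ⟨u, hu⟩, ⟨v, hv⟩, fun e => hu1 (congrArg Subtype.val e).symm,
      fun e => hv1 (congrArg Subtype.val e).symm, fun e => huv (congrArg Subtype.val e), rfl⟩] at h3
    omega
  rcases h with h | ⟨B, hB, hc, ho⟩ | hf | hf | hf
  · refine absurd (uniq (B := ⊤) ?_ (Subgroup.mem_top x) (Subgroup.mem_top y) hx hy hx1 hy1) hne
    exact isCyclic_of_injective (Subgroup.topEquiv (G := G)).toMonoidHom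
      (Subgroup.topEquiv (G := G)).injective
  · have hxy1 : x * y ≠ 1 := fun e => hne (mul_left_cancel (hx.trans e.symm))
    have hxy2 : x * y * (x * y) = 1 :=
      calc x * y * (x * y) = x * (y * x) * y := by group
        _ = x * (x * y) * y := by rw [hxy]
        _ = x * x * (y * y) := by group
        _ = 1 := by rw [hx, hy, one_mul]
    obtain ⟨z, hz, hzB, hz2, hz1⟩ : ∃ z, (z = x ∨ z = y ∨ z = x * y) ∧ z ∈ B ∧ z * z = 1 ∧ z ≠ 1 := by
      by_cases h1 : x ∈ B
      · exact ⟨x, .inl rfl, h1, hx, hx1⟩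
      · by_cases h2 : y ∈ B
        · exact ⟨y, .inr (.inl rfl), h2, hy, hy1⟩
        · exact ⟨x * y, .inr (.inr rfl),
            (Subgroup.mul_mem_iff_of_index_two hB).2 ⟨fun e => absurd e h1, fun e => absurd e h2⟩,
            hxy2, hxy1⟩
    refine .inl ⟨z, hz, fun g => ?_⟩
    haveI := Subgroup.normal_of_index_eq_two hB
    have := uniq hc (Subgroup.Normal.conj_mem ‹_› z hzB g) hzB
      (by rw [show g * z * g⁻¹ * (g * z * g⁻¹) = g * (z * z) * g⁻¹ by group, hz2, mul_one,
        mul_inv_cancel])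
      hz2 (fun e => hz1 (by simpa using e)) hz1
    exact mul_inv_eq_iff_eq_mul.1 this
  · obtain ⟨f⟩ := hf
    obtain ⟨a, b, hab⟩ := alt_four_commutators (f r) (by rw [← map_mul, hr, map_one])
    refine absurd ?_ hχr
    rw [show r = f.symm (a * b * a⁻¹ * b⁻¹) by rw [hab, MulEquiv.symm_apply_apply]]
    simp only [map_mul, map_inv]
    rw [mul_right_comm (χ _) (χ _), mul_inv_cancel, one_mul, mul_inv_cancel]
  · obtain ⟨f⟩ := hf
    let ψ := χ.comp f.symm.toMonoidHom
    have hψ : ∀ u : G, ψ (f u) = χ u := fun u => by simp [ψ]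
    have hev : ∀ u : G, χ u = 1 → Equiv.Perm.sign (f u) = 1 := fun u hu =>
      (Int.units_eq_one_or _).resolve_right fun hs =>
        hχr (by rw [← hψ r]; exact hom_perm ψ hs ((hψ u).trans hu) _)
    have h1 : ∀ {u : G}, u ≠ 1 → f u ≠ 1 := fun hu e => hu (f.injective (by rw [e, map_one]))
    obtain ⟨⟨g, hg1, hg2⟩, τ, ht1, ht2⟩ :=
      sym_four_klein (f x) (by rw [← map_mul, hx, map_one]) (h1 hx1) (hev x hχx) (f y)
        (by rw [← map_mul, hy, map_one]) (h1 hy1) (fun e => hne (f.injective e)) (hev y hχy)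
    exact .inr ⟨⟨f.symm g, f.injective (by simpa using hg1), f.injective (by simpa using hg2)⟩,
      f.symm τ, f.injective (by simpa using ht1), f.injective (by simpa using ht2)⟩
  · obtain ⟨f⟩ := hf
    refine absurd ?_ hχr
    let ψ := χ.comp f.symm.toMonoidHom
    rcases (alternatingGroup.isSimpleGroup_five).eq_bot_or_eq_top_of_normal ψ.ker inferInstance with
      hk | hk
    · obtain ⟨a, b, hab⟩ := alt_five_not_comm
      exact absurd ((MonoidHom.ker_eq_bot_iff ψ).1 hk (by rw [map_mul, map_mul, mul_comm])) hab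
    · have : f r ∈ ψ.ker := hk ▸ Subgroup.mem_top _
      simpa [ψ] using this

end CfsgLib.ClassicalMax.Hess
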