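import Cfsg.Agent.Lib.ClassicalMax.HessMax.Central

/-!
The group modulo scalars, its subgroup of order nine, and the eight elements acting on it regularly.
-/

set_option autoImplicit false
set_option linter.unusedSectionVars false
set_option linter.flexible false

namespace CfsgLib.ClassicalMax.Hess

open Matrix

variable {F : Type*} [Field F] {p : ℕ} [hp : Fact p.Prime] [CharP F p] {w : F} {hw : w ^ 2 + w + 1 = 0}
  {M : Subgroup (GL (Fin 3) F)}

/-- the scalar multiples of the monomials in `mX`, `mY` -/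
def RSet (w : F) (hw : w ^ 2 + w + 1 = 0) (A : Matrix (Fin 3) (Fin 3) F) : Prop :=
  ∃ i j k : Fin 3, A = w ^ (i : ℕ) • (mX w hw ^ (j : ℕ) * mY w hw ^ (k : ℕ))

lemma mY_eq : mY w hw = !![0, 0, 1; 1, 0, 0; 0, 1, 0] := by
  ext i j
  fin_cases i <;> fin_cases j <;> simp [mY, iY]

lemma mX_cube : mX w hw * mX w hw * mX w hw = 1 := by
  rw [mX, ← Matrix.map_mul, ← Matrix.map_mul, iX_cube, Matrix.map_one _ (map_zero _) (map_one _)]

lemma mY_cube : mY w hw * mY w hw * mY w hw = 1 := by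
  rw [mY, ← Matrix.map_mul, ← Matrix.map_mul, iY_cube, Matrix.map_one _ (map_zero _) (map_one _)]

lemma mX_mY : mX w hw * mY w hw = w • (mY w hw * mX w hw) := by
  rw [mX, mY, ← Matrix.map_mul, iY_iX, map_smul', Matrix.map_mul]
  simp [E2.ev_apply]

lemma mY_mX : mY w hw * mX w hw = w ^ 2 • (mX w hw * mY w hw) := by
  rw [mX_mY, smul_smul, ← pow_succ, pow_succ, pow_two, w_cube hw, one_smul]

lemma det_mX : (mX w hw).det = 1 := by
  rw [mX_eq, Matrix.det_fin_three]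
  simp
  linear_combination -hw

lemma det_mY : (mY w hw).det = 1 := by rw [mY_eq, Matrix.det_fin_three]; simp

lemma commutant_XY (h5 : 5 ≤ p) {A : Matrix (Fin 3) (Fin 3) F} (h1 : A * mX w hw = mX w hw * A)
    (h2 : A * mY w hw = mY w hw * A) : IsSc A := by
  have hw1 := w_ne_one (p := p) h5 hw
  have hw2 : -1 - w ≠ (1 : F) := fun e => by
    have : (-1 - w) * w = w := by rw [e, one_mul]
    exact hw1 (by linear_combination -this - hw)
  have hw3 : -1 - w ≠ w := fun e => w_sq_ne (p := p) h5 hw (by linear_combination -hw - e + 0 * e)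
  rw [mX_eq] at h1
  rw [mY_eq] at h2
  have e := fun i j : Fin 3 => congrArg (fun B : Matrix (Fin 3) (Fin 3) F => B i j) h1
  have a01 := e 0 1; have a02 := e 0 2; have a10 := e 1 0
  have a12 := e 1 2; have a20 := e 2 0; have a21 := e 2 1
  simp [Matrix.mul_apply, Fin.sum_univ_three] at a01 a02 a10 a12 a20 a21
  have z : ∀ {x a b : F}, a ≠ b → x * a = x * b → x = 0 := fun {x a b} hab h =>
    by_contra fun hx => hab (mul_left_cancel₀ hx h)
  have b01 : A 0 1 = 0 := z hw1 (by linear_combination a01)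
  have b02 : A 0 2 = 0 := z hw2 (by linear_combination a02)
  have b10 : A 1 0 = 0 := z hw1 (by linear_combination -a10)
  have b12 : A 1 2 = 0 := z hw3 (by linear_combination a12)
  have b20 : A 2 0 = 0 := z hw2 (by linear_combination -a20)
  have b21 : A 2 1 = 0 := z hw3 (by linear_combination -a21)
  have e' := fun i j : Fin 3 => congrArg (fun B : Matrix (Fin 3) (Fin 3) F => B i j) h2
  have c02 := e' 0 2; have c10 := e' 1 0
  simp [Matrix.mul_apply, Fin.sum_univ_three] at c02 c10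
  refine ⟨A 0 0, ?_⟩
  ext i j
  fin_cases i <;> fin_cases j <;> simp [b01, b02, b10, b12, b20, b21, c02, c10] <;>
    linear_combination c02 + 0 * c10

/-- Matrices of determinant one commuting with `mX` and `mY` up to scalars. -/
theorem cent_XY (h5 : 5 ≤ p) {A : Matrix (Fin 3) (Fin 3) F} (hA : A.det = 1) {c d : F}
    (hc : A * mX w hw = c • (mX w hw * A)) (hd : A * mY w hw = d • (mY w hw * A)) : RSet w hw A := by
  set X := mX w hw with hX
  set Y := mY w hw with hY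
  have hA0 : A ≠ 0 := fun e => by rw [e] at hA; simp at hA
  have cube : ∀ (B : Matrix (Fin 3) (Fin 3) F) (e : F), B * B * B = 1 → A * B = e • (B * A) →
      e * e * e = 1 := by
    intro B e hB hAB
    have h0 : A = (e * e * e) • A := by
      calc A = A * (B * B * B) := by rw [hB, mul_one]
        _ = (e * e * e) • ((B * B * B) * A) := by
          rw [← mul_assoc, ← mul_assoc, hAB, smul_mul_assoc, mul_assoc B A B, hAB, mul_smul_comm,
            smul_smul, ← mul_assoc, smul_mul_assoc, mul_assoc (B * B) A B, hAB, mul_smul_comm, smul_smul,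
            ← mul_assoc]
        _ = (e * e * e) • A := by rw [hB, one_mul]
    have h1 : (1 - e * e * e) • A = 0 := by rw [sub_smul, one_smul, ← h0, sub_self]
    exact (sub_eq_zero.1 ((smul_eq_zero.1 h1).resolve_right hA0)).symm
  have hc3 := cube X c (mX_cube) hc
  have hd3 := cube Y d (mY_cube) hd
  have hw3 : w ^ 3 = 1 := by rw [pow_succ, pow_two]; exact w_cube hw
  have root : ∀ e : F, e * e * e = 1 → ∃ i : Fin 3, e = w ^ (i : ℕ) := by
    intro e he
    rcases cube_roots hw he with h | h | h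
    · exact ⟨0, by simpa using h⟩
    · exact ⟨1, by simpa using h⟩
    · exact ⟨2, h⟩
  obtain ⟨a, rfl⟩ := root c hc3
  obtain ⟨b, rfl⟩ := root d hd3
  -- kill the multipliers
  have stepY : ∀ (B : Matrix (Fin 3) (Fin 3) F) (e f : F), B * X = e • (X * B) → B * Y = f • (Y * B) →
      B * Y * X = (w ^ 2 * e) • (X * (B * Y)) ∧ B * Y * Y = f • (Y * (B * Y)) := by
    intro B e f h1 h2
    constructor
    · rw [mul_assoc, hX, hY, mY_mX, mul_smul_comm, ← hX, ← hY, ← mul_assoc, h1, smul_mul_assoc,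
        smul_smul, mul_assoc]
    · conv_lhs => rw [h2, smul_mul_assoc, mul_assoc]
  have stepX : ∀ (B : Matrix (Fin 3) (Fin 3) F) (e f : F), B * X = e • (X * B) → B * Y = f • (Y * B) →
      B * X * X = e • (X * (B * X)) ∧ B * X * Y = (w * f) • (Y * (B * X)) := by
    intro B e f h1 h2
    constructor
    · conv_lhs => rw [h1, smul_mul_assoc, mul_assoc]
    · rw [mul_assoc, hX, hY, mX_mY, mul_smul_comm, ← hX, ← hY, ← mul_assoc, h2, smul_mul_assoc,
        smul_smul, mul_assoc]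
  have iterY : ∀ k : ℕ, A * Y ^ k * X = (w ^ (2 * k) * w ^ (a : ℕ)) • (X * (A * Y ^ k)) ∧
      A * Y ^ k * Y = w ^ (b : ℕ) • (Y * (A * Y ^ k)) := by
    intro k
    induction k with
    | zero => simpa using ⟨hc, hd⟩
    | succ k ih =>
      obtain ⟨i1, i2⟩ := stepY _ _ _ ih.1 ih.2
      rw [pow_succ, ← mul_assoc]
      exact ⟨by rw [i1]; congr 1; ring, i2⟩
  obtain ⟨hk1, hk2⟩ := iterY a
  set A' := A * Y ^ (a : ℕ) with hA'
  have hX1 : A' * X = X * A' := by
    rw [hk1, ← pow_add, show 2 * (a : ℕ) + a = 3 * a by omega, pow_mul, hw3, one_pow, one_smul]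
  have iterX : ∀ k : ℕ, A' * X ^ k * X = X * (A' * X ^ k) ∧
      A' * X ^ k * Y = (w ^ k * w ^ (b : ℕ)) • (Y * (A' * X ^ k)) := by
    intro k
    induction k with
    | zero => simpa using ⟨hX1, hk2⟩
    | succ k ih =>
      obtain ⟨i1, i2⟩ := stepX _ 1 _ (by rw [one_smul]; exact ih.1) ih.2
      rw [pow_succ, ← mul_assoc]
      exact ⟨by rw [i1, one_smul], by rw [i2]; congr 1; ring⟩
  obtain ⟨hj1, hj2⟩ := iterX (2 * b)
  obtain ⟨e, he⟩ := commutant_XY (p := p) (hw := hw) h5 hj1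
    (by rw [hj2, ← pow_add, show 2 * (b : ℕ) + b = 3 * b by omega, pow_mul, hw3, one_pow, one_smul])
  have hX3 : X ^ 3 = 1 := by rw [pow_succ, pow_two]; exact mX_cube
  have hY3 : Y ^ 3 = 1 := by rw [pow_succ, pow_two]; exact mY_cube
  have hA2 : A = e • (X ^ (b : ℕ) * Y ^ (2 * (a : ℕ))) := by
    calc A = A * (Y ^ (a : ℕ) * (X ^ (2 * (b : ℕ)) * X ^ (b : ℕ)) * Y ^ (2 * (a : ℕ))) := by
          rw [← pow_add, show 2 * (b : ℕ) + b = 3 * b by omega, pow_mul, hX3, one_pow, mul_one,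
            ← pow_add, show (a : ℕ) + 2 * a = 3 * a by omega, pow_mul, hY3, one_pow, mul_one]
      _ = A' * X ^ (2 * (b : ℕ)) * (X ^ (b : ℕ) * Y ^ (2 * (a : ℕ))) := by
          rw [hA']; simp only [mul_assoc]
      _ = _ := by rw [he, smul_mul_assoc, one_mul]
  have he3 : e * e * e = 1 := by
    have := congrArg Matrix.det hA2
    rw [hA, Matrix.det_smul, Matrix.det_mul, Matrix.det_pow, Matrix.det_pow, hX, hY, det_mX, det_mY,
      one_pow, one_pow, Fintype.card_fin] at this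
    linear_combination -this
  obtain ⟨i, rfl⟩ := root e he3
  refine ⟨i, b, 2 * a, ?_⟩
  rw [hA2]
  congr 2
  conv_lhs => rw [← Nat.div_add_mod (2 * (a : ℕ)) 3, pow_add, pow_mul, hY3, one_pow, one_mul]
  rw [Fin.val_mul]
  rfl

/-- the scalars in `M` -/
def Zs (M : Subgroup (GL (Fin 3) F)) : Subgroup M where
  carrier := {g | IsSc ((g : GL (Fin 3) F) : Matrix (Fin 3) (Fin 3) F)}
  one_mem' := ⟨1, by simp⟩
  mul_mem' := by
    rintro a b ⟨c, hc⟩ ⟨d, hd⟩
    refine ⟨c * d, ?_⟩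
    show (((a * b : M) : GL (Fin 3) F) : Matrix (Fin 3) (Fin 3) F) = _
    rw [Subgroup.coe_mul, Units.val_mul, hc, hd, smul_mul_assoc, one_mul, smul_smul]
  inv_mem' := by
    rintro a ⟨c, hc⟩
    have e : (((a : GL (Fin 3) F)⁻¹ : GL (Fin 3) F) : Matrix (Fin 3) (Fin 3) F) * (c • 1) = 1 := by
      rw [← hc, ← Units.val_mul, inv_mul_cancel, Units.val_one]
    rw [mul_smul_comm, mul_one] at e
    have hc0 : c ≠ 0 := by
      rintro rfl
      rw [zero_smul] at e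
      exact one_ne_zero e.symm
    exact ⟨c⁻¹, by
      show (((a : GL (Fin 3) F)⁻¹ : GL (Fin 3) F) : Matrix (Fin 3) (Fin 3) F) = _
      conv_rhs => rw [← e, smul_smul, inv_mul_cancel₀ hc0, one_smul]⟩

instance : (Zs M).Normal := ⟨fun n ⟨c, hc⟩ g => ⟨c, by
  show (((g * n * g⁻¹ : M) : GL (Fin 3) F) : Matrix (Fin 3) (Fin 3) F) = _
  rw [Subgroup.coe_mul, Subgroup.coe_mul, Units.val_mul, Units.val_mul, hc, mul_smul_comm, mul_one,
    smul_mul_assoc, ← Units.val_mul, InvMemClass.coe_inv, mul_inv_cancel, Units.val_one]⟩⟩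

/-- the matrix of an element -/
abbrev val (g : M) : Matrix (Fin 3) (Fin 3) F := ((g : GL (Fin 3) F) : Matrix (Fin 3) (Fin 3) F)

lemma mk_eq {a b : M} : (QuotientGroup.mk a : M ⧸ Zs M) = QuotientGroup.mk b ↔ ∃ c : F, val a = c • val b := by
  rw [QuotientGroup.eq]
  constructor
  · rintro ⟨c, hc⟩
    have h1 : val b = c • val a := by
      calc val b = val a * val (a⁻¹ * b) := by simp [val, ← Units.val_mul, mul_assoc]
        _ = c • val a := by rw [show val (a⁻¹ * b) = c • 1 from hc, mul_smul_comm, mul_one]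
    have hc0 : c ≠ 0 := fun e => by
      rw [e, zero_smul] at h1
      exact (b : GL (Fin 3) F).ne_zero h1
    exact ⟨c⁻¹, by rw [h1, smul_smul, inv_mul_cancel₀ hc0, one_smul]⟩
  · rintro ⟨c, hc⟩
    have hc0 : c ≠ 0 := fun e => by
      rw [e, zero_smul] at hc
      exact (a : GL (Fin 3) F).ne_zero hc
    refine ⟨c⁻¹, ?_⟩
    show val (a⁻¹ * b) = _
    have : val (a⁻¹ * b) = val a⁻¹ * val b := by simp [val]
    rw [this, show val b = c⁻¹ • val a by rw [hc, smul_smul, inv_mul_cancel₀ hc0, one_smul],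
      mul_smul_comm]
    simp [val, ← Units.val_mul]

/-- The named elements of `M`. -/
structure Gens (h : Ctx p w hw M) where
  gX : M
  gY : M
  gW : M
  gV : M
  vX : val gX = mX w hw
  vY : val gY = mY w hw
  vW : val gW = mW w hw
  vV : val gV = mV w hw

noncomputable def gens (h : Ctx p w hw M) : Gens h where
  gX := ⟨_, h.memX.choose_spec.1⟩
  gY := ⟨_, h.memY.choose_spec.1⟩
  gW := ⟨_, h.memW.choose_spec.1⟩
  gV := ⟨_, h.memV.choose_spec.1⟩
  vX := h.memX.choose_spec.2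
  vY := h.memY.choose_spec.2
  vW := h.memW.choose_spec.2
  vV := h.memV.choose_spec.2

namespace Gens

variable {h : Ctx p w hw M} (G : Gens h)

/-- the image of `mX` -/
def bx : M ⧸ Zs M := QuotientGroup.mk G.gX
/-- the image of `mY` -/
def by' : M ⧸ Zs M := QuotientGroup.mk G.gY
/-- the image of `mW` -/
def bw : M ⧸ Zs M := QuotientGroup.mk G.gW
/-- the image of `mV` -/
def bv : M ⧸ Zs M := QuotientGroup.mk G.gV
/-- the image of the involution -/
def bt : M ⧸ Zs M := G.bw * G.bw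
/-- the subgroup of order nine -/
def EB : Subgroup (M ⧸ Zs M) := Subgroup.centralizer {G.bx, G.by'}

lemma val_pow (g : M) (n : ℕ) : val (g ^ n) = val g ^ n := by simp [val]

lemma mem_EB {g : M} : (QuotientGroup.mk g : M ⧸ Zs M) ∈ G.EB ↔ RSet w hw (val g) := by
  constructor
  · intro hg
    have h1 := Subgroup.mem_centralizer_iff.1 hg G.bx (by simp)
    have h2 := Subgroup.mem_centralizer_iff.1 hg G.by' (by simp)
    rw [bx, ← QuotientGroup.mk_mul, ← QuotientGroup.mk_mul] at h1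
    rw [by', ← QuotientGroup.mk_mul, ← QuotientGroup.mk_mul] at h2
    obtain ⟨c, hc⟩ := mk_eq.1 h1.symm
    obtain ⟨d, hd⟩ := mk_eq.1 h2.symm
    simp only [val, Subgroup.coe_mul, Units.val_mul] at hc hd
    have e1 := G.vX; have e2 := G.vY
    simp only [val] at e1 e2
    rw [e1] at hc
    rw [e2] at hd
    exact cent_XY (p := p) h.five (h.det _ g.2) hc hd
  · rintro ⟨i, j, k, hg⟩
    have e : (QuotientGroup.mk g : M ⧸ Zs M) = G.bx ^ (j : ℕ) * G.by' ^ (k : ℕ) := by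
      rw [bx, by', ← QuotientGroup.mk_pow, ← QuotientGroup.mk_pow, ← QuotientGroup.mk_mul, mk_eq]
      refine ⟨w ^ (i : ℕ), ?_⟩
      rw [hg]
      simp [val, ← G.vX, ← G.vY]
    have hcomm : G.bx * G.by' = G.by' * G.bx := by
      rw [bx, by', ← QuotientGroup.mk_mul, ← QuotientGroup.mk_mul, mk_eq]
      refine ⟨w, ?_⟩
      have := mX_mY (w := w) (hw := hw)
      simpa [val, ← G.vX, ← G.vY] using this
    have hc : Commute G.bx G.by' := hcomm
    rw [e]
    refine Subgroup.mem_centralizer_iff.2 fun q hq => ?_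
    simp only [Set.mem_insert_iff, Set.mem_singleton_iff] at hq
    rcases hq with rfl | rfl
    · exact (((Commute.refl G.bx).pow_right _).mul_right (hc.pow_right _)).eq
    · exact ((hc.symm.pow_right _).mul_right ((Commute.refl G.by').pow_right _)).eq

lemma exists_rep {x : M ⧸ Zs M} (hx : x ∈ G.EB) :
    ∃ j k : Fin 3, x = G.bx ^ (j : ℕ) * G.by' ^ (k : ℕ) := by
  obtain ⟨g, rfl⟩ := QuotientGroup.mk_surjective x
  obtain ⟨i, j, k, hg⟩ := G.mem_EB.1 hx
  refine ⟨j, k, ?_⟩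
  rw [bx, by', ← QuotientGroup.mk_pow, ← QuotientGroup.mk_pow, ← QuotientGroup.mk_mul, mk_eq]
  refine ⟨w ^ (i : ℕ), ?_⟩
  rw [hg]
  simp [val, ← G.vX, ← G.vY]

lemma bx_mem : G.bx ∈ G.EB := G.mem_EB.2 ⟨0, 1, 0, by simp [G.vX]⟩

lemma by_mem : G.by' ∈ G.EB := G.mem_EB.2 ⟨0, 0, 1, by simp [G.vY]⟩

lemma comm_EB {a b : M ⧸ Zs M} (ha : a ∈ G.EB) (hb : b ∈ G.EB) : a * b = b * a := by
  obtain ⟨j, k, rfl⟩ := G.exists_rep ha
  have h1 : Commute G.bx b := Subgroup.mem_centralizer_iff.1 hb G.bx (by simp)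
  have h2 : Commute G.by' b := Subgroup.mem_centralizer_iff.1 hb G.by' (by simp)
  exact ((h1.pow_left _).mul_left (h2.pow_left _)).eq

lemma bx_cube : G.bx ^ 3 = 1 := by
  rw [bx, ← QuotientGroup.mk_pow, ← QuotientGroup.mk_one, mk_eq]
  exact ⟨1, by rw [one_smul, val_pow, G.vX, pow_succ, pow_two, mX_cube]; simp [val]⟩

lemma by_cube : G.by' ^ 3 = 1 := by
  rw [by', ← QuotientGroup.mk_pow, ← QuotientGroup.mk_one, mk_eq]
  exact ⟨1, by rw [one_smul, val_pow, G.vY, pow_succ, pow_two, mY_cube]; simp [val]⟩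

lemma cube {x : M ⧸ Zs M} (hx : x ∈ G.EB) : x ^ 3 = 1 := by
  obtain ⟨j, k, rfl⟩ := G.exists_rep hx
  rw [(Commute.pow_pow (G.comm_EB G.bx_mem G.by_mem) _ _).mul_pow, ← pow_mul, ← pow_mul, mul_comm (j : ℕ),
    mul_comm (k : ℕ), pow_mul, pow_mul, G.bx_cube, G.by_cube, one_pow, one_pow, one_mul]

lemma rep_inj {j k j' k' : Fin 3}
    (he : G.bx ^ (j : ℕ) * G.by' ^ (k : ℕ) = G.bx ^ (j' : ℕ) * G.by' ^ (k' : ℕ)) : j = j' ∧ k = k' := by
  rw [bx, by', ← QuotientGroup.mk_pow, ← QuotientGroup.mk_pow, ← QuotientGroup.mk_mul,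
    ← QuotientGroup.mk_pow, ← QuotientGroup.mk_pow, ← QuotientGroup.mk_mul, mk_eq] at he
  obtain ⟨c, hc⟩ := he
  have hv : ∀ a b : ℕ, val (G.gX ^ a * G.gY ^ b) = mX w hw ^ a * mY w hw ^ b := fun a b => by
    simp [val, ← G.vX, ← G.vY]
  rw [hv, hv, mX_eq, mY_eq] at hc
  have e := fun i l : Fin 3 => congrArg (fun B : Matrix (Fin 3) (Fin 3) F => B i l) hc
  have e00 := e 0 0; have e01 := e 0 1; have e02 := e 0 2; have e10 := e 1 0; have e11 := e 1 1
  have e12 := e 1 2; have e22 := e 2 2; have e20 := e 2 0; have e21 := e 2 1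
  have hw0 := w_ne_zero hw
  have hw1 := w_ne_one (p := p) h.five hw
  have hw2 : -1 - w ≠ (1 : F) := fun e => by
    have : (-1 - w) * w = w := by rw [e, one_mul]
    exact hw1 (by linear_combination -this - hw)
  have hw3 : -1 - w ≠ w := fun e => w_sq_ne (p := p) h.five hw (by linear_combination -hw - e)
  fin_cases j <;> fin_cases k <;> fin_cases j' <;> fin_cases k' <;>
    simp [pow_succ, Matrix.mul_apply, Fin.sum_univ_three] at e00 e01 e02 e10 e11 e12 e20 e21 e22 ⊢ <;>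
    grind

lemma card_EB : Nat.card G.EB = 9 := by
  let f : Fin 3 × Fin 3 → G.EB := fun jk =>
    ⟨G.bx ^ (jk.1 : ℕ) * G.by' ^ (jk.2 : ℕ), G.EB.mul_mem (G.EB.pow_mem G.bx_mem _) (G.EB.pow_mem G.by_mem _)⟩
  rw [← Nat.card_congr (Equiv.ofBijective f ⟨fun a b hab => Prod.ext (G.rep_inj (congrArg Subtype.val hab)).1
    (G.rep_inj (congrArg Subtype.val hab)).2, fun x => by
      obtain ⟨j, k, hx⟩ := G.exists_rep x.2
      exact ⟨(j, k), Subtype.ext hx.symm⟩⟩)]
  simp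

lemma rel {g : M} {A B : Matrix (Fin 3) (Fin 3) E2} {c : F} (hg : val g = c • A.map (E2.ev w hw))
    {h₀ : M} (hh : val h₀ = B.map (E2.ev w hw)) {j k : ℕ} {e : E2}
    (he : A * B = e • (iX ^ j * iY ^ k * A)) :
    (QuotientGroup.mk g : M ⧸ Zs M) * QuotientGroup.mk h₀ = G.bx ^ j * G.by' ^ k * QuotientGroup.mk g := by
  rw [bx, by', ← QuotientGroup.mk_pow, ← QuotientGroup.mk_pow, ← QuotientGroup.mk_mul,
    ← QuotientGroup.mk_mul, ← QuotientGroup.mk_mul, mk_eq]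
  refine ⟨E2.ev w hw e, ?_⟩
  have hv : val (G.gX ^ j * G.gY ^ k * g) = mX w hw ^ j * mY w hw ^ k * val g := by
    simp [val, ← G.vX, ← G.vY]
  rw [hv, show val (g * h₀) = val g * val h₀ by simp [val], hg, hh, smul_mul_assoc, mul_smul_comm,
    ← Matrix.map_mul, he, map_smul', smul_comm]
  simp only [mX, mY, Matrix.map_mul]
  rw [← RingHom.mapMatrix_apply, map_pow, RingHom.mapMatrix_apply, ← RingHom.mapMatrix_apply (E2.ev w hw) (iY ^ k),
    map_pow, RingHom.mapMatrix_apply]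

lemma vV' : val G.gV = (E2.ev w hw iS)⁻¹ • (iD * iW * iD').map (E2.ev w hw) := by
  rw [G.vV, mV, mW, mD, mD', Matrix.map_mul, Matrix.map_mul, mul_smul_comm, smul_mul_assoc]

lemma vU : val (G.gW * G.gV) =
    ((E2.ev w hw iS)⁻¹ * (E2.ev w hw iS)⁻¹) • (iW * (iD * iW * iD')).map (E2.ev w hw) := by
  rw [show val (G.gW * G.gV) = val G.gW * val G.gV by simp [val], G.vW, mW, G.vV', smul_mul_assoc,
    mul_smul_comm, smul_smul, ← Matrix.map_mul]

lemma bw_bx : G.bw * G.bx = G.bx ^ 0 * G.by' ^ 2 * G.bw :=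
  G.rel (by rw [G.vW, mW]) (B := iX) (by rw [G.vX, mX]) (e := 1) (by decide)

lemma bw_by : G.bw * G.by' = G.bx ^ 1 * G.by' ^ 0 * G.bw :=
  G.rel (by rw [G.vW, mW]) (B := iY) (by rw [G.vY, mY]) (e := 1) (by decide)

lemma bv_bx : G.bv * G.bx = G.bx ^ 1 * G.by' ^ 2 * G.bv :=
  G.rel G.vV' (B := iX) (by rw [G.vX, mX]) (e := ⟨-1, -1⟩) (by decide)

lemma bv_by : G.bv * G.by' = G.bx ^ 2 * G.by' ^ 2 * G.bv :=
  G.rel G.vV' (B := iY) (by rw [G.vY, mY]) (e := ⟨0, 1⟩) (by decide)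

lemma bu_bx : G.bw * G.bv * G.bx = G.bx ^ 2 * G.by' ^ 2 * (G.bw * G.bv) := by
  rw [bw, bv, ← QuotientGroup.mk_mul]
  exact G.rel G.vU (B := iX) (by rw [G.vX, mX]) (e := ⟨0, 1⟩) (by decide)

lemma bu_by : G.bw * G.bv * G.by' = G.bx ^ 2 * G.by' ^ 1 * (G.bw * G.bv) := by
  rw [bw, bv, ← QuotientGroup.mk_mul]
  exact G.rel G.vU (B := iY) (by rw [G.vY, mY]) (e := ⟨-1, -1⟩) (by decide)

lemma mk_val_eq {g : M} {A : Matrix (Fin 3) (Fin 3) F} {c : F} (hg : val g = c • A) {g' : M}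
    (hg' : val g' = A) : (QuotientGroup.mk g : M ⧸ Zs M) = QuotientGroup.mk g' :=
  mk_eq.2 ⟨c, by rw [hg, hg']⟩

lemma bt_eq : G.bt = QuotientGroup.mk ⟨gT, h.gT_mem⟩ := by
  rw [bt, bw, ← QuotientGroup.mk_mul]
  refine mk_val_eq (c := 1) (A := mT) ?_ rfl
  rw [one_smul, show val (G.gW * G.gW) = val G.gW * val G.gW by simp [val], G.vW, mW_sq h.five]

lemma bt_sq : G.bt * G.bt = 1 := by
  rw [bt_eq, ← QuotientGroup.mk_mul, ← QuotientGroup.mk_one, mk_eq]
  exact ⟨1, by rw [one_smul]; simp [val, gT, mT_mul_mT]⟩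

lemma bv_sq : G.bv * G.bv = G.bt := by
  rw [bt_eq, bv, ← QuotientGroup.mk_mul]
  refine mk_val_eq (c := 1) (A := mT) ?_ rfl
  have e : iD * iW * iD' * (iD * iW * iD') = (iS * iS) • iT := by decide
  rw [one_smul, show val (G.gV * G.gV) = val G.gV * val G.gV by simp [val], G.vV', smul_mul_assoc,
    mul_smul_comm, smul_smul, ← Matrix.map_mul, e, map_smul', smul_smul, map_mul, mT_eq (hw := hw)]
  have := iS_ne (w := w) (hw := hw) h.five
  rw [show (E2.ev w hw iS)⁻¹ * (E2.ev w hw iS)⁻¹ * (E2.ev w hw iS * E2.ev w hw iS) = 1 by field_simp,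
    one_smul]

lemma bu_sq : G.bw * G.bv * (G.bw * G.bv) = G.bt := by
  rw [bt_eq, bw, bv, ← QuotientGroup.mk_mul, ← QuotientGroup.mk_mul]
  refine mk_val_eq (c := 1) (A := mT) ?_ rfl
  have e : iW * (iD * iW * iD') * (iW * (iD * iW * iD')) = (iS * iS * (iS * iS)) • iT := by decide
  rw [one_smul, show val (G.gW * G.gV * (G.gW * G.gV)) = val (G.gW * G.gV) * val (G.gW * G.gV) by
      simp [val], G.vU, smul_mul_assoc, mul_smul_comm, smul_smul, ← Matrix.map_mul, e, map_smul', smul_smul,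
    map_mul, map_mul, mT_eq (hw := hw)]
  have := iS_ne (w := w) (hw := hw) h.five
  rw [show (E2.ev w hw iS)⁻¹ * (E2.ev w hw iS)⁻¹ * ((E2.ev w hw iS)⁻¹ * (E2.ev w hw iS)⁻¹) *
    (E2.ev w hw iS * E2.ev w hw iS * (E2.ev w hw iS * E2.ev w hw iS)) = 1 by field_simp, one_smul]

/-- the eight elements -/
def S8 : Set (M ⧸ Zs M) :=
  {1, G.bt, G.bw, G.bt * G.bw, G.bv, G.bt * G.bv, G.bw * G.bv, G.bt * (G.bw * G.bv)}

lemma normal_of_conj {q : M ⧸ Zs M} (hx : q * G.bx * q⁻¹ ∈ G.EB) (hy : q * G.by' * q⁻¹ ∈ G.EB) :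
    q ∈ Subgroup.normalizer (G.EB : Set (M ⧸ Zs M)) := by
  haveI : Finite G.EB := Nat.finite_of_card_ne_zero (by rw [G.card_EB]; norm_num)
  rw [Subgroup.mem_normalizer_iff_map_conj_eq]
  refine Subgroup.eq_of_le_of_card_ge ?_ ?_
  · rintro _ ⟨x, hxm, rfl⟩
    obtain ⟨j, k, rfl⟩ := G.exists_rep hxm
    show (MulAut.conj q) (G.bx ^ (j : ℕ) * G.by' ^ (k : ℕ)) ∈ G.EB
    rw [map_mul, map_pow, map_pow, MulAut.conj_apply, MulAut.conj_apply]
    exact G.EB.mul_mem (G.EB.pow_mem hx _) (G.EB.pow_mem hy _)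
  · rw [Subgroup.card_map_of_injective (MulAut.conj q).injective]

lemma conj_eq {q a r : M ⧸ Zs M} (h : q * a = r * q) : q * a * q⁻¹ = r := by
  rw [h, mul_assoc, mul_inv_cancel, mul_one]

lemma mem_pow (j k : ℕ) : G.bx ^ j * G.by' ^ k ∈ G.EB :=
  G.EB.mul_mem (G.EB.pow_mem G.bx_mem _) (G.EB.pow_mem G.by_mem _)

lemma bt_conj_bx : G.bt * G.bx * G.bt⁻¹ = G.bx ^ 2 := by
  apply conj_eq
  rw [bt_eq, bx, ← QuotientGroup.mk_pow, ← QuotientGroup.mk_mul, ← QuotientGroup.mk_mul, mk_eq]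
  refine ⟨1, ?_⟩
  rw [one_smul, show ∀ a b : M, val (a * b) = val a * val b from fun a b => by simp [val],
    show ∀ a b : M, val (a * b) = val a * val b from fun a b => by simp [val], val_pow, G.vX, pow_two]
  show mT * mX w hw = _
  rw [mT_eq (hw := hw), mX, ← Matrix.map_mul, iT_iX, Matrix.map_mul, Matrix.map_mul]
  show _ = _ * mT
  rw [mT_eq (hw := hw)]

lemma bt_conj_by : G.bt * G.by' * G.bt⁻¹ = G.by' ^ 2 := by
  apply conj_eq
  rw [bt_eq, by', ← QuotientGroup.mk_pow, ← QuotientGroup.mk_mul, ← QuotientGroup.mk_mul, mk_eq]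
  refine ⟨1, ?_⟩
  rw [one_smul, show ∀ a b : M, val (a * b) = val a * val b from fun a b => by simp [val],
    show ∀ a b : M, val (a * b) = val a * val b from fun a b => by simp [val], val_pow, G.vY, pow_two]
  show mT * mY w hw = _
  rw [mT_eq (hw := hw), mY, ← Matrix.map_mul, iT_iY, Matrix.map_mul, Matrix.map_mul]
  show _ = _ * mT
  rw [mT_eq (hw := hw)]

lemma S8_norm {q : M ⧸ Zs M} (hq : q ∈ G.S8) : q ∈ Subgroup.normalizer (G.EB : Set (M ⧸ Zs M)) := by
  have ht : G.bt ∈ Subgroup.normalizer (G.EB : Set (M ⧸ Zs M)) :=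
    G.normal_of_conj (G.bt_conj_bx ▸ G.EB.pow_mem G.bx_mem _) (G.bt_conj_by ▸ G.EB.pow_mem G.by_mem _)
  have hw' : G.bw ∈ Subgroup.normalizer (G.EB : Set (M ⧸ Zs M)) :=
    G.normal_of_conj (conj_eq G.bw_bx ▸ G.mem_pow _ _) (conj_eq G.bw_by ▸ G.mem_pow _ _)
  have hv : G.bv ∈ Subgroup.normalizer (G.EB : Set (M ⧸ Zs M)) :=
    G.normal_of_conj (conj_eq G.bv_bx ▸ G.mem_pow _ _) (conj_eq G.bv_by ▸ G.mem_pow _ _)
  simp only [S8, Set.mem_insert_iff, Set.mem_singleton_iff] at hq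
  rcases hq with rfl | rfl | rfl | rfl | rfl | rfl | rfl | rfl
  · exact one_mem _
  · exact ht
  · exact hw'
  · exact mul_mem ht hw'
  · exact hv
  · exact mul_mem ht hv
  · exact mul_mem hw' hv
  · exact mul_mem ht (mul_mem hw' hv)

lemma bt_comm_bw : G.bt * G.bw = G.bw * G.bt := by rw [bt, mul_assoc]

lemma bt_comm_bv : G.bt * G.bv = G.bv * G.bt := by rw [← bv_sq, mul_assoc]

lemma S8_order {q : M ⧸ Zs M} (hq : q ∈ G.S8) : q = 1 ∨ q = G.bt ∨ q * q = G.bt := by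
  have key : ∀ a : M ⧸ Zs M, G.bt * a = a * G.bt → a * a = G.bt → G.bt * a * (G.bt * a) = G.bt := by
    intro a h1 h2
    calc G.bt * a * (G.bt * a) = G.bt * (a * G.bt) * a := by group
      _ = G.bt * (G.bt * a) * a := by rw [h1]
      _ = G.bt * G.bt * (a * a) := by group
      _ = G.bt := by rw [G.bt_sq, h2, one_mul]
  simp only [S8, Set.mem_insert_iff, Set.mem_singleton_iff] at hq
  rcases hq with rfl | rfl | rfl | rfl | rfl | rfl | rfl | rfl
  · exact .inl rfl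
  · exact .inr (.inl rfl)
  · exact .inr (.inr rfl)
  · exact .inr (.inr (key _ G.bt_comm_bw rfl))
  · exact .inr (.inr G.bv_sq)
  · exact .inr (.inr (key _ G.bt_comm_bv G.bv_sq))
  · exact .inr (.inr G.bu_sq)
  · refine .inr (.inr (key _ ?_ G.bu_sq))
    rw [← G.bu_sq, mul_assoc]

/-- conjugating `bx` onto every non-trivial element of the subgroup of order nine -/
lemma S8_trans {x : M ⧸ Zs M} (hx : x ∈ G.EB) (hx1 : x ≠ 1) : ∃ q ∈ G.S8, q * G.bx * q⁻¹ = x := by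
  obtain ⟨j, k, rfl⟩ := G.exists_rep hx
  have t2 : ∀ {q : M ⧸ Zs M} {a b : ℕ}, q * G.bx * q⁻¹ = G.bx ^ a * G.by' ^ b →
      G.bt * q * G.bx * (G.bt * q)⁻¹ = G.bx ^ (2 * a) * G.by' ^ (2 * b) := by
    intro q a b hq
    calc G.bt * q * G.bx * (G.bt * q)⁻¹ = G.bt * (q * G.bx * q⁻¹) * G.bt⁻¹ := by group
      _ = (MulAut.conj G.bt) (G.bx ^ a * G.by' ^ b) := by rw [hq, MulAut.conj_apply]
      _ = _ := by
        rw [map_mul, map_pow, map_pow, MulAut.conj_apply, MulAut.conj_apply, G.bt_conj_bx, G.bt_conj_by,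
          ← pow_mul, ← pow_mul]
  have red : ∀ n : ℕ, G.bx ^ n = G.bx ^ (n % 3) ∧ G.by' ^ n = G.by' ^ (n % 3) := fun n => by
    constructor <;> conv_lhs => rw [← Nat.div_add_mod n 3, pow_add, pow_mul]
    · rw [G.bx_cube, one_pow, one_mul]
    · rw [G.by_cube, one_pow, one_mul]
  have h1 : (1 : M ⧸ Zs M) * G.bx * 1⁻¹ = G.bx ^ 1 * G.by' ^ 0 := by simp
  have h1' : G.bt * G.bx * G.bt⁻¹ = G.bx ^ 2 * G.by' ^ 0 := by rw [G.bt_conj_bx]; simp
  have hW := conj_eq G.bw_bx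
  have hV := conj_eq G.bv_bx
  have hU := conj_eq G.bu_bx
  have hWt := t2 hW
  have hVt := t2 hV
  have hUt := t2 hU
  rw [(red (2 * 2)).2] at hWt hVt hUt
  rw [(red (2 * 2)).1] at hUt
  have m : ∀ q, (q = (1 : M ⧸ Zs M) ∨ q = G.bt ∨ q = G.bw ∨ q = G.bt * G.bw ∨ q = G.bv ∨ q = G.bt * G.bv ∨
      q = G.bw * G.bv ∨ q = G.bt * (G.bw * G.bv)) → q ∈ G.S8 := fun q hq => by
    simpa only [S8, Set.mem_insert_iff, Set.mem_singleton_iff] using hq
  fin_cases j <;> fin_cases k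
  · exact absurd (by simp) hx1
  · exact ⟨_, m _ (.inr (.inr (.inr (.inl rfl)))), hWt⟩
  · exact ⟨_, m _ (.inr (.inr (.inl rfl))), hW⟩
  · exact ⟨_, m _ (.inl rfl), h1⟩
  · exact ⟨_, m _ (.inr (.inr (.inr (.inr (.inr (.inr (.inr rfl))))))), hUt⟩
  · exact ⟨_, m _ (.inr (.inr (.inr (.inr (.inl rfl))))), hV⟩
  · exact ⟨_, m _ (.inr (.inl rfl)), h1'⟩
  · exact ⟨_, m _ (.inr (.inr (.inr (.inr (.inr (.inl rfl)))))), hVt⟩
  · exact ⟨_, m _ (.inr (.inr (.inr (.inr (.inr (.inr (.inl rfl))))))), hU⟩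

lemma bx_ne_one : G.bx ≠ 1 := fun e => by
  have := (G.rep_inj (j := 1) (k := 0) (j' := 0) (k' := 0) (by simpa using e)).1
  simp at this

lemma centralizer_EB : Subgroup.centralizer (G.EB : Set (M ⧸ Zs M)) = G.EB := by
  refine le_antisymm (fun g hg => ?_) (fun g hg => ?_)
  · exact Subgroup.mem_centralizer_iff.2 fun q hq => by
      simp only [Set.mem_insert_iff, Set.mem_singleton_iff] at hq
      rcases hq with rfl | rfl
      · exact Subgroup.mem_centralizer_iff.1 hg _ G.bx_mem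
      · exact Subgroup.mem_centralizer_iff.1 hg _ G.by_mem
  · exact Subgroup.mem_centralizer_iff.2 fun q hq => G.comm_EB hq hg

end Gens

/-- every element of `M` normalises the extraspecial group -/
def Nrm (w : F) (hw : w ^ 2 + w + 1 = 0) (M : Subgroup (GL (Fin 3) F)) : Prop :=
  ∀ g ∈ M, ∃ A B : Matrix (Fin 3) (Fin 3) F, RSet w hw A ∧ RSet w hw B ∧
    (g : Matrix (Fin 3) (Fin 3) F) * mX w hw = A * (g : Matrix (Fin 3) (Fin 3) F) ∧
    (g : Matrix (Fin 3) (Fin 3) F) * mY w hw = B * (g : Matrix (Fin 3) (Fin 3) F)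

lemma Gens.nrm {h : Ctx p w hw M} (G : Gens h) (hn : G.EB.Normal) : Nrm w hw M := by
  intro g hg
  have key : ∀ a : M, (QuotientGroup.mk a : M ⧸ Zs M) ∈ G.EB →
      ∃ A, RSet w hw A ∧ (g : Matrix (Fin 3) (Fin 3) F) * val a = A * (g : Matrix (Fin 3) (Fin 3) F) := by
    intro a ha
    have h1 := hn.conj_mem _ ha (QuotientGroup.mk (⟨g, hg⟩ : M))
    rw [← QuotientGroup.mk_mul, ← QuotientGroup.mk_inv, ← QuotientGroup.mk_mul] at h1
    refine ⟨_, G.mem_EB.1 h1, ?_⟩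
    simp only [val, Subgroup.coe_mul, InvMemClass.coe_inv, Units.val_mul]
    rw [mul_assoc _ _ (g : Matrix (Fin 3) (Fin 3) F), ← Units.val_mul g⁻¹ g, inv_mul_cancel, Units.val_one,
      mul_one]
  obtain ⟨A, hA, hA'⟩ := key G.gX G.bx_mem
  obtain ⟨B, hB, hB'⟩ := key G.gY G.by_mem
  rw [G.vX] at hA'
  rw [G.vY] at hB'
  exact ⟨A, B, hA, hB, hA', hB'⟩

end CfsgLib.ClassicalMax.Hess
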