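import Cfsg.Agent.Lib.ClassicalMax.HessMax.Block

/-!
Groups containing the matrices of the Hessian group of order `216`, without transvections: the
centraliser of the central involution and the elements excluded from it.
-/

set_option autoImplicit false
set_option linter.unusedSectionVars false
set_option linter.flexible false

namespace CfsgLib.ClassicalMax.Hess

open Matrix

variable {F : Type*} [Field F]

/-- `diag (1, ω, ω²)` -/
def mX (w : F) (hw : w ^ 2 + w + 1 = 0) : Matrix (Fin 3) (Fin 3) F := iX.map (E2.ev w hw)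

/-- the cyclic shift -/
def mY (w : F) (hw : w ^ 2 + w + 1 = 0) : Matrix (Fin 3) (Fin 3) F := iY.map (E2.ev w hw)

/-- `diag (1, ω, ω)` -/
def mD (w : F) (hw : w ^ 2 + w + 1 = 0) : Matrix (Fin 3) (Fin 3) F := iD.map (E2.ev w hw)

/-- the inverse of `mD` -/
def mD' (w : F) (hw : w ^ 2 + w + 1 = 0) : Matrix (Fin 3) (Fin 3) F := iD'.map (E2.ev w hw)

/-- the Fourier matrix of determinant one -/
def mW (w : F) (hw : w ^ 2 + w + 1 = 0) : Matrix (Fin 3) (Fin 3) F :=
  (E2.ev w hw iS)⁻¹ • iW.map (E2.ev w hw)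

/-- the conjugate of `mW` by `mD` -/
def mV (w : F) (hw : w ^ 2 + w + 1 = 0) : Matrix (Fin 3) (Fin 3) F := mD w hw * mW w hw * mD' w hw

/-- The hypotheses on the group. -/
structure Ctx (p : ℕ) (w : F) (hw : w ^ 2 + w + 1 = 0) (M : Subgroup (GL (Fin 3) F)) : Prop where
  seven : 7 ≤ p
  det : ∀ g ∈ M, (g : Matrix (Fin 3) (Fin 3) F).det = 1
  notv : ∀ g ∈ M, ((g : Matrix (Fin 3) (Fin 3) F) - 1) * ((g : Matrix (Fin 3) (Fin 3) F) - 1) = 0 → g = 1
  memX : ∃ g ∈ M, (g : Matrix (Fin 3) (Fin 3) F) = mX w hw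
  memY : ∃ g ∈ M, (g : Matrix (Fin 3) (Fin 3) F) = mY w hw
  memW : ∃ g ∈ M, (g : Matrix (Fin 3) (Fin 3) F) = mW w hw
  memV : ∃ g ∈ M, (g : Matrix (Fin 3) (Fin 3) F) = mV w hw

variable {p : ℕ} [hp : Fact p.Prime] [CharP F p] {w : F} {hw : w ^ 2 + w + 1 = 0}
  {M : Subgroup (GL (Fin 3) F)}

omit hp [CharP F p] in
lemma Ctx.five (h : Ctx p w hw M) : 5 ≤ p := (by norm_num : (5 : ℕ) ≤ 7).trans h.seven

/-- membership of a matrix -/
def Mem (M : Subgroup (GL (Fin 3) F)) (A : Matrix (Fin 3) (Fin 3) F) : Prop :=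
  ∃ g ∈ M, (g : Matrix (Fin 3) (Fin 3) F) = A

lemma Mem.mul {A B : Matrix (Fin 3) (Fin 3) F} (hA : Mem M A) (hB : Mem M B) : Mem M (A * B) := by
  obtain ⟨g, hg, rfl⟩ := hA
  obtain ⟨h, hh, rfl⟩ := hB
  exact ⟨g * h, M.mul_mem hg hh, Units.val_mul _ _⟩

lemma Mem.left_inv {A B : Matrix (Fin 3) (Fin 3) F} (hA : Mem M A) (h : B * A = 1) : Mem M B := by
  obtain ⟨g, hg, rfl⟩ := hA
  refine ⟨g⁻¹, M.inv_mem hg, ?_⟩
  calc ((g⁻¹ : GL (Fin 3) F) : Matrix (Fin 3) (Fin 3) F)
      = (B * (g : Matrix (Fin 3) (Fin 3) F)) * ((g⁻¹ : GL (Fin 3) F) : Matrix (Fin 3) (Fin 3) F) := by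
        rw [h, one_mul]
    _ = B := by rw [mul_assoc, ← Units.val_mul, mul_inv_cancel, Units.val_one, mul_one]

lemma natCast_ne_zero' (h5 : 5 ≤ p) (n : ℕ) (h : n = 2 ∨ n = 3 ∨ n = 4) : (n : F) ≠ 0 := by
  rw [ne_eq, CharP.cast_eq_zero_iff F p]
  intro hd
  rcases h with rfl | rfl | rfl <;> have := Nat.le_of_dvd (by norm_num) hd <;> omega

lemma two_ne (h5 : 5 ≤ p) : (2 : F) ≠ 0 := by exact_mod_cast natCast_ne_zero' h5 2 (by norm_num)

lemma three_ne (h5 : 5 ≤ p) : (3 : F) ≠ 0 := by exact_mod_cast natCast_ne_zero' h5 3 (by norm_num)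

lemma five_ne (h5 : 5 ≤ p) (hne : p ≠ 5) : (5 : F) ≠ 0 := by
  have : ((5 : ℕ) : F) ≠ 0 := by
    rw [ne_eq, CharP.cast_eq_zero_iff F p, Nat.prime_dvd_prime_iff_eq hp.out (by norm_num)]
    exact hne
  exact_mod_cast this

lemma ev_iS : E2.ev w hw iS = 1 + 2 * w := by simp [E2.ev_apply, iS]

lemma iS_ne (h5 : 5 ≤ p) : E2.ev w hw iS ≠ 0 := by
  intro h
  have e : E2.ev w hw iS * E2.ev w hw iS = E2.ev w hw (-3) := by rw [← map_mul, iS_sq]
  rw [h, mul_zero, map_neg, map_ofNat] at e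
  exact three_ne (p := p) h5 (neg_eq_zero.1 e.symm)

lemma w_ne_one (h5 : 5 ≤ p) (hw : w ^ 2 + w + 1 = 0) : w ≠ 1 := fun h =>
  three_ne (F := F) (p := p) h5 (by linear_combination hw - (h.symm ▸ rfl : w = w) * 0 - (w + 2) * h)

lemma w_cube (hw : w ^ 2 + w + 1 = 0) : w * w * w = 1 := by linear_combination (w - 1) * hw

lemma w_ne_zero (hw : w ^ 2 + w + 1 = 0) : w ≠ 0 := fun h => by simp [h] at hw

lemma w_sq_ne (h5 : 5 ≤ p) (hw : w ^ 2 + w + 1 = 0) : w ≠ w ^ 2 := fun h =>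
  w_ne_one (p := p) h5 hw (mul_left_cancel₀ (w_ne_zero hw) (by rw [mul_one, ← pow_two, ← h]))

lemma cube_roots (hw : w ^ 2 + w + 1 = 0) {c : F} (hc : c * c * c = 1) : c = 1 ∨ c = w ∨ c = w ^ 2 := by
  have : (c - 1) * ((c - w) * (c - w ^ 2)) = 0 := by
    linear_combination hc + (-c ^ 2 + w * c - (w - 1)) * hw
  rcases mul_eq_zero.1 this with h | h
  · exact .inl (sub_eq_zero.1 h)
  rcases mul_eq_zero.1 h with h | h
  · exact .inr (.inl (sub_eq_zero.1 h))
  · exact .inr (.inr (sub_eq_zero.1 h))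

lemma mT_eq : (mT : Matrix (Fin 3) (Fin 3) F) = iT.map (E2.ev w hw) := by
  ext i j
  fin_cases i <;> fin_cases j <;> simp [mT, iT]

lemma map_smul' (c : E2) (A : Matrix (Fin 3) (Fin 3) E2) :
    (c • A).map (E2.ev w hw) = E2.ev w hw c • A.map (E2.ev w hw) := by
  ext i j
  simp [Matrix.map_apply]

lemma mW_sq (h5 : 5 ≤ p) : mW w hw * mW w hw = mT := by
  rw [mW, smul_mul_assoc, mul_smul_comm, smul_smul, ← Matrix.map_mul, iW_sq, map_smul', smul_smul,
    map_mul, mT_eq (hw := hw)]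
  have := iS_ne (w := w) (hw := hw) h5
  rw [show (E2.ev w hw iS)⁻¹ * (E2.ev w hw iS)⁻¹ * (E2.ev w hw iS * E2.ev w hw iS) = 1 by field_simp,
    one_smul]

lemma Ctx.memT (h : Ctx p w hw M) : Mem M mT := mW_sq (w := w) (hw := hw) h.five ▸ Mem.mul h.memW h.memW

/-- the involution -/
def gT : GL (Fin 3) F := ⟨mT, mT, mT_mul_mT, mT_mul_mT⟩

lemma Ctx.gT_mem (h : Ctx p w hw M) : (gT : GL (Fin 3) F) ∈ M := by
  obtain ⟨g, hg, he⟩ := h.memT
  rwa [show gT = g from Units.ext he.symm]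

/-- the centraliser of the involution -/
abbrev Cs (M : Subgroup (GL (Fin 3) F)) : Subgroup (GL (Fin 3) F) := M ⊓ Subgroup.centralizer {gT}

lemma com_of_mem {g : GL (Fin 3) F} (h : g ∈ Cs M) : Com (g : Matrix (Fin 3) (Fin 3) F) :=
  congrArg Units.val (Subgroup.mem_centralizer_singleton_iff.1 h.2)

lemma mem_Cs {g : GL (Fin 3) F} (hg : g ∈ M) (hc : Com (g : Matrix (Fin 3) (Fin 3) F)) : g ∈ Cs M :=
  ⟨hg, Subgroup.mem_centralizer_singleton_iff.2 (Units.ext hc)⟩

/-- the action on the axis -/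
def piC (M : Subgroup (GL (Fin 3) F)) : Cs M →* Matrix (Fin 2) (Fin 2) F where
  toFun g := ax ((g : GL (Fin 3) F) : Matrix (Fin 3) (Fin 3) F)
  map_one' := by simp [ax_one]
  map_mul' a b := by simp [ax_mul (com_of_mem a.2) (com_of_mem b.2)]

/-- the scalar on the centre -/
def gamC (M : Subgroup (GL (Fin 3) F)) : Cs M →* F where
  toFun g := gam ((g : GL (Fin 3) F) : Matrix (Fin 3) (Fin 3) F)
  map_one' := by simp [gam_one]
  map_mul' a b := by simp [gam_mul (com_of_mem a.2) (com_of_mem b.2)]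

lemma piC_apply (g : Cs M) : piC M g = ax ((g : GL (Fin 3) F) : Matrix (Fin 3) (Fin 3) F) := rfl
lemma gamC_apply (g : Cs M) : gamC M g = gam ((g : GL (Fin 3) F) : Matrix (Fin 3) (Fin 3) F) := rfl

lemma gamC_mul_det (h : Ctx p w hw M) (g : Cs M) : gamC M g * (piC M g).det = 1 := by
  rw [piC_apply, gamC_apply, ← det_ax (com_of_mem g.2)]
  exact h.det _ g.2.1

lemma Cs_ext (h : Ctx p w hw M) {a b : Cs M} (h1 : piC M a = piC M b) (h2 : gamC M a = gamC M b) :
    a = b :=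
  Subtype.ext (Units.ext (ext_ax (two_ne h.five) (com_of_mem a.2) (com_of_mem b.2) h1 h2))

lemma Cs_unip (h : Ctx p w hw M) (u : Cs M) (hu : u ^ p = 1) : u = 1 := by
  refine Subtype.ext (h.notv _ u.2.1 (com_unipotent p (two_ne h.five) (com_of_mem u.2) ?_))
  rw [← Units.val_pow_eq_pow_val, ← SubmonoidClass.coe_pow, hu]
  rfl

/-- the diagonal matrix `diag (1, -1, -1)` -/
def gJ : GL (Fin 3) F :=
  ⟨!![1, 0, 0; 0, -1, 0; 0, 0, -1], !![1, 0, 0; 0, -1, 0; 0, 0, -1],
    by ext i j; fin_cases i <;> fin_cases j <;> simp [Matrix.mul_apply, Fin.sum_univ_three],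
    by ext i j; fin_cases i <;> fin_cases j <;> simp [Matrix.mul_apply, Fin.sum_univ_three]⟩

lemma blk_iff (h2 : (2 : F) ≠ 0) (g : GL (Fin 3) F) :
    g ∈ Subgroup.centralizer ({gJ} : Set (GL (Fin 3) F)) ↔ Blk (g : Matrix (Fin 3) (Fin 3) F) := by
  rw [Subgroup.mem_centralizer_singleton_iff]
  constructor
  · intro h
    have e := fun i j : Fin 3 => congrArg (fun g : GL (Fin 3) F => (g : Matrix (Fin 3) (Fin 3) F) i j) h
    have h01 := e 0 1
    have h02 := e 0 2
    have h10 := e 1 0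
    have h20 := e 2 0
    simp [gJ, Matrix.mul_apply, Fin.sum_univ_three] at h01 h02 h10 h20
    exact ⟨(mul_eq_zero.1 (show (2 : F) * _ = 0 by linear_combination -h01)).resolve_left h2,
      (mul_eq_zero.1 (show (2 : F) * _ = 0 by linear_combination -h02)).resolve_left h2,
      (mul_eq_zero.1 (show (2 : F) * _ = 0 by linear_combination h10)).resolve_left h2,
      (mul_eq_zero.1 (show (2 : F) * _ = 0 by linear_combination h20)).resolve_left h2⟩
  · rintro ⟨h1, h2, h3, h4⟩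
    refine Units.ext ?_
    ext i j
    fin_cases i <;> fin_cases j <;>
      simp [gJ, Matrix.mul_apply, Fin.sum_univ_three, h1, h2, h3, h4]

/-- Two block elements with non-commuting lower blocks of projective order three or four. -/
theorem blk_prod [Finite F] (h : Ctx p w hw M) {A B : Matrix (Fin 3) (Fin 3) F} (hA : Mem M A)
    (hB : Mem M B) (hbA : Blk A) (hbB : Blk B) {m : ℕ} (hm : m = 3 ∨ m = 4)
    (ha : IsSc (ln A ^ m)) (hb : IsSc (ln B ^ m)) (ha' : ¬ IsSc (ln A ^ (m - 2)))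
    (hb' : ¬ IsSc (ln B ^ (m - 2))) (hne : ∀ c : F, ln A * ln B ≠ c • (ln B * ln A)) :
    IsSc ((ln A * ln B) ^ 2) ∨ IsSc ((ln A * ln B) ^ 3) ∨ (m = 3 ∧ IsSc ((ln A * ln B) ^ 5)) := by
  obtain ⟨a, haM, rfl⟩ := hA
  obtain ⟨b, hbM, rfl⟩ := hB
  have h2 := two_ne (F := F) (p := p) h.five
  let Bs : Subgroup (GL (Fin 3) F) := M ⊓ Subgroup.centralizer {gJ}
  have hblk : ∀ g : Bs, Blk ((g : GL (Fin 3) F) : Matrix (Fin 3) (Fin 3) F) :=
    fun g => (blk_iff h2 _).1 g.2.2
  let π : Bs →* Matrix (Fin 2) (Fin 2) F :=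
    { toFun := fun g => ln ((g : GL (Fin 3) F) : Matrix (Fin 3) (Fin 3) F)
      map_one' := by simp [ln_one]
      map_mul' := fun u v => by simp [ln_mul (hblk u) (hblk v)] }
  have hu : ∀ u : Bs, u ^ p = 1 → u = 1 := fun u hu => by
    refine Subtype.ext (h.notv _ u.2.1 (blk_unipotent p (hblk u) ?_))
    rw [← Units.val_pow_eq_pow_val, ← SubmonoidClass.coe_pow, hu]
    rfl
  exact prod_scalar p π hu (a := ⟨a, haM, (blk_iff h2 _).2 hbA⟩) (b := ⟨b, hbM, (blk_iff h2 _).2 hbB⟩)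
    hm ha hb ha' hb' hne

lemma not_isSc_of_entry {A : Matrix (Fin 2) (Fin 2) F} (h : A 0 1 ≠ 0) : ¬ IsSc A := fun ⟨c, hc⟩ =>
  h (by rw [hc]; simp)

lemma Ctx.memX2 (h : Ctx p w hw M) : Mem M (mX w hw * mX w hw) := Mem.mul h.memX h.memX

lemma mX_eq : mX w hw = !![1, 0, 0; 0, w, 0; 0, 0, -1 - w] := by
  ext i j
  fin_cases i <;> fin_cases j <;> simp [mX, iX, E2.ev_apply]
  all_goals ring

/-- No element acts as a scalar of order four on the axis. -/
theorem no_quarter [Finite F] (h : Ctx p w hw M) {A : Matrix (Fin 3) (Fin 3) F} (hA : Mem M A) {a : F}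
    (hc : Com A) (hax : ax A = a • 1) (ha : a * a = -1) (hg : gam A = -1) : False := by
  have h2 := two_ne (F := F) (p := p) h.five
  have h3 := three_ne (F := F) (p := p) h.five
  have hAe := eq_ofAx h2 hc
  rw [hax, hg] at hAe
  set u : F := (a - 1) / 2 with hu
  set v : F := (a + 1) / 2 with hv
  have hbA : Blk A := by
    rw [hAe]; exact ⟨by simp [ofAx], by simp [ofAx], by simp [ofAx], by simp [ofAx]⟩
  have hlA : ln A = !![u, v; v, u] := by
    rw [hAe]
    ext i j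
    fin_cases i <;> fin_cases j <;> simp [ln, ofAx, hu, hv] <;> ring
  have hX : Blk (mX w hw) := by rw [mX_eq]; exact ⟨rfl, rfl, rfl, rfl⟩
  have hlB : ln (mX w hw * A * (mX w hw * mX w hw)) = !![u, w ^ 2 * v; w * v, u] := by
    rw [ln_mul (hX.mul hbA) (hX.mul hX), ln_mul hX hbA, ln_mul hX hX, hlA, mX_eq]
    ext i j
    fin_cases i <;> fin_cases j <;> simp [ln, Matrix.mul_apply, Fin.sum_univ_two]
    · linear_combination u * (w - 1) * hw
    · linear_combination v * w * hw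
    · linear_combination (-(v * w)) * hw
    · linear_combination (-u) * (w + 2) * hw
  have huv : u * u + v * v = 0 := by
    rw [hu, hv]; field_simp; linear_combination (2 : F) * ha
  have huv2 : 2 * (u * v) = -1 := by
    rw [hu, hv]; field_simp; linear_combination ha
  have hv0 : v ≠ 0 := fun e => by rw [e] at huv2; simp at huv2
  have hu0 : u ≠ 0 := fun e => by rw [e] at huv2; simp at huv2
  have hsq : ∀ x y : F, x * y = v * v →
      (!![u, x; y, u] : Matrix (Fin 2) (Fin 2) F) ^ 2 = !![0, 2 * (u * x); 2 * (u * y), 0] := by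
    intro x y hxy
    rw [pow_two]
    ext i j
    fin_cases i <;> fin_cases j <;> simp [Matrix.mul_apply, Fin.sum_univ_two]
    · linear_combination huv + hxy
    · ring
    · ring
    · linear_combination huv + hxy
  have h4 : ∀ x y : F, x * y = v * v → IsSc ((!![u, x; y, u] : Matrix (Fin 2) (Fin 2) F) ^ 4) := by
    intro x y hxy
    refine ⟨4 * (u * x) * (u * y), ?_⟩
    rw [show (4 : ℕ) = 2 * 2 from rfl, pow_mul, hsq x y hxy, pow_two]
    ext i j
    fin_cases i <;> fin_cases j <;> simp [Matrix.mul_apply, Fin.sum_univ_two] <;> ring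
  have hxy : w ^ 2 * v * (w * v) = v * v := by linear_combination (v * v) * (w - 1) * hw
  have hwv : w ^ 2 * v ≠ 0 := mul_ne_zero (pow_ne_zero 2 (w_ne_zero hw)) hv0
  have hres := blk_prod h hA ((Mem.mul h.memX hA).mul h.memX2) hbA ((hX.mul hbA).mul (hX.mul hX))
    (m := 4) (.inr rfl) (by rw [hlA]; exact h4 v v rfl) (by rw [hlB]; exact h4 _ _ hxy)
    (by
      rw [hlA, show 4 - 2 = 2 from rfl, hsq v v rfl]
      exact not_isSc_of_entry (by simp [hu0, hv0, h2]))
    (by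
      rw [hlB, show 4 - 2 = 2 from rfl, hsq _ _ hxy]
      exact not_isSc_of_entry (by simp [hu0, hwv, h2, w_ne_zero hw]))
    (fun c hc => by
      rw [hlA, hlB] at hc
      have e := fun i j => congrFun (congrFun hc i) j
      have e00 := e 0 0
      have e01 := e 0 1
      simp [Matrix.mul_apply, Fin.sum_univ_two] at e00 e01
      have hc1 : (1 - c) * (u * v * (1 + w ^ 2)) = 0 := by linear_combination e01
      have hne : u * v * (1 + w ^ 2) ≠ 0 := mul_ne_zero (mul_ne_zero hu0 hv0) (fun e => by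
        apply w_ne_zero hw
        linear_combination hw - e)
      have hc2 : c = 1 := (sub_eq_zero.1 ((mul_eq_zero.1 hc1).resolve_right hne)).symm
      subst hc2
      refine w_sq_ne (p := p) h.five hw ?_
      refine mul_right_cancel₀ (mul_ne_zero hv0 hv0) ?_
      linear_combination e00)
  rw [hlA, hlB] at hres
  set P : Matrix (Fin 2) (Fin 2) F := !![u, v; v, u] * !![u, w ^ 2 * v; w * v, u] with hP
  have hP01 : P 0 1 = -(w * (u * v)) := by
    rw [hP]; simp [Matrix.mul_apply, Fin.sum_univ_two]; linear_combination (u * v) * hw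
  have hPn : ¬ IsSc P := not_isSc_of_entry (by rw [hP01]; simp [hu0, hv0, w_ne_zero hw])
  have htr : 2 * P.trace = -3 * a := by
    rw [hP, Matrix.trace_fin_two]
    simp [Matrix.mul_apply, Fin.sum_univ_two]
    rw [hu, hv]
    field_simp
    linear_combination (a + 1) ^ 2 * hw + 1 * ha
  have hdet : P.det = -1 := by
    rw [hP, Matrix.det_mul, Matrix.det_fin_two_of, Matrix.det_fin_two_of]
    have h1 : u * u - v * v = -a := by rw [hu, hv]; field_simp; ring
    rw [show u * u - w ^ 2 * v * (w * v) = -a by rw [hxy, h1], h1]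
    linear_combination ha
  rcases hres with h1 | h1 | ⟨h1, -⟩
  · rw [isSc_sq_iff hPn h1, mul_zero] at htr
    have : a = 0 := (mul_eq_zero.1 (show (3 : F) * a = 0 by linear_combination htr)).resolve_left h3
    rw [this] at ha
    simp at ha
  · have hq := isSc_cube_iff hPn h1
    rw [hdet] at hq
    have : (5 : F) = 0 := by linear_combination (-4 : F) * hq + (2 * P.trace - 3 * a) * htr + (-9 : F) * ha * (-1)
    exact five_ne (by have := h.seven; omega) (by have := h.seven; omega) this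
  · norm_num at h1

end CfsgLib.ClassicalMax.Hess
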